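import Cfsg.Agent.Classical.Unitary.Root
import Cfsg.Agent.Classical.Unitary.Card
import Cfsg.Agent.Classical.Unitary.Maximal

/-!
A hyperbolic frame of a Hermitian space and the radical of the stabiliser of its first point.
-/

set_option autoImplicit false
set_option linter.unusedSectionVars false
set_option linter.unusedSimpArgs false
set_option linter.style.haveILetI false

namespace Cfsg.Lib.Known.MinIndexSU

open Cfsg.Lib.Classical

universe u v

variable {F : Type u} [Field F] {V : Type v} [AddCommGroup V] [Module F V]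

/-- The skew elements of the field. -/
def skew (H : HermSpace F V) : AddSubgroup F where
  carrier := {z | z + H.σ z = 0}
  zero_mem' := show (0 : F) + H.σ 0 = 0 by rw [map_zero, add_zero]
  add_mem' {x y} hx hy := by
    show x + y + H.σ (x + y) = 0
    rw [map_add, add_add_add_comm, show x + H.σ x = 0 from hx, show y + H.σ y = 0 from hy, add_zero]
  neg_mem' {x} hx := by
    show -x + H.σ (-x) = 0
    rw [map_neg, ← neg_add, show x + H.σ x = 0 from hx, neg_zero]

theorem mem_skew {H : HermSpace F V} {z : F} : z ∈ skew H ↔ z + H.σ z = 0 := Iff.rfl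

theorem skew_add {H : HermSpace F V} (c : skew H) : (c : F) + H.σ (c : F) = 0 := c.2

theorem skew_conj {H : HermSpace F V} (c : skew H) : H.σ (c : F) = -(c : F) := eq_neg_of_add_eq_zero_right c.2

/-- `x - σ x`. -/
def nu (H : HermSpace F V) (x : F) : skew H := ⟨x - H.σ x, by rw [mem_skew, map_sub, H.conj.invol]; ring⟩

theorem nu_coe (H : HermSpace F V) (x : F) : (nu H x : F) = x - H.σ x := rfl

theorem nu_surj (H : HermSpace F V) : Function.Surjective (nu H) := fun c => by
  obtain ⟨θ, hθ⟩ := H.conj.exists_trace_one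
  refine ⟨θ * c, Subtype.ext ?_⟩
  rw [nu_coe, map_mul, eq_neg_of_add_eq_zero_right c.2]
  linear_combination (c : F) * hθ

/-- A hyperbolic frame. -/
structure Frame (H : HermSpace F V) where
  m : ℕ
  hm : 2 ≤ m
  hdim : Module.finrank F V = m + 2
  a : V
  b : V
  haa : H.h a a = 0
  hbb : H.h b b = 0
  hab : H.h a b = 1
  θ : F
  hθ : θ + H.σ θ = 1

variable {H : HermSpace F V}

theorem exists_frame [Finite F] [FiniteDimensional F V] {m : ℕ} (hm : 2 ≤ m) (hdim : Module.finrank F V = m + 2) :
    ∃ C : Frame H, C.m = m := by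
  obtain ⟨a, ha, haa⟩ := H.exists_isotropic_of_two_le (by omega)
  obtain ⟨b, hab, hbb⟩ := H.exists_hyperbolic ha haa
  obtain ⟨θ, hθ⟩ := H.conj.exists_trace_one
  exact ⟨⟨m, hm, hdim, a, b, haa, hbb, hab, θ, hθ⟩, rfl⟩

namespace Frame

variable (C : Frame H)

theorem hba : H.h C.b C.a = 1 := by rw [H.symm, C.hab, map_one]

theorem ha0 : C.a ≠ 0 := fun h => by
  have := C.hab
  rw [h, H.zero_left] at this
  exact zero_ne_one this

theorem hb0 : C.b ≠ 0 := fun h => by
  have := C.hab
  rw [h, H.zero_right] at this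
  exact zero_ne_one this

/-- The orthogonal space of the frame. -/
def U : Submodule F V := H.orth (Submodule.span F ({C.a, C.b} : Set V))

theorem mem_U {x : V} : x ∈ C.U ↔ H.h x C.a = 0 ∧ H.h x C.b = 0 := by
  rw [U, H.mem_orth_span]
  simp

theorem ua (u : C.U) : H.h (u : V) C.a = 0 := (C.mem_U.1 u.2).1

theorem ub (u : C.U) : H.h (u : V) C.b = 0 := (C.mem_U.1 u.2).2

theorem au (u : C.U) : H.h C.a (u : V) = 0 := H.eq_zero_symm (C.ua u)

theorem bu (u : C.U) : H.h C.b (u : V) = 0 := H.eq_zero_symm (C.ub u)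

theorem proj_mem (x : V) : x - H.h x C.b • C.a - H.h x C.a • C.b ∈ C.U := by
  rw [C.mem_U]
  simp [H.sub_left, H.smul_left, C.haa, C.hbb, C.hab, C.hba]

theorem nondeg [Finite F] [FiniteDimensional F V] : H.NondegOn C.U := H.nondegOn_orth (H.nondegOn_hyperbolic C.haa C.hab)

/-- The form on the orthogonal space. -/
noncomputable def HU [Finite F] [FiniteDimensional F V] : HermSpace F C.U := H.restrict C.U C.nondeg

theorem HU_h [Finite F] [FiniteDimensional F V] (u v : C.U) : C.HU.h u v = H.h (u : V) v := rfl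

theorem HU_σ [Finite F] [FiniteDimensional F V] : C.HU.σ = H.σ := rfl

theorem finrank_U [Finite F] [FiniteDimensional F V] : Module.finrank F C.U = C.m := by
  rw [U, H.finrank_orth, H.finrank_hyperbolic C.haa C.hab, C.hdim, Nat.add_sub_cancel]

theorem card_U [Finite F] [FiniteDimensional F V] : Nat.card C.U = H.q ^ (2 * C.m) := by
  rw [Module.natCard_eq_pow_finrank (K := F), C.finrank_U, H.card_field, ← pow_mul]

/-- The bilinear correction of the product. -/
def beta (u v : C.U) : skew H := nu H (C.θ * H.h (u : V) v)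

/-- The trace condition of the radical element. -/
theorem trace_eq (u : C.U) (c : skew H) :
    (c : F) - C.θ * H.h (u : V) u + H.σ ((c : F) - C.θ * H.h (u : V) u) = -H.h (u : V) u := by
  rw [map_sub, map_mul, H.self_fixed, eq_neg_of_add_eq_zero_right c.2]
  linear_combination (-H.h (u : V) u) * C.hθ

/-- The element of the radical attached to a pair. -/
noncomputable def rho (u : C.U) (c : skew H) : H.SIsom :=
  ⟨H.siegel C.haa (C.ua u) (C.trace_eq u c), H.siegel_mem_SIsom _ _ _⟩

theorem rho_apply (u : C.U) (c : skew H) (x : V) :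
    (C.rho u c).1.1 x = x + H.h x C.a • (u : V) +
      (((c : F) - C.θ * H.h (u : V) u) * H.h x C.a - H.h x u) • C.a :=
  H.siegel_apply C.haa (C.ua u) (C.trace_eq u c) x

theorem rho_a (u : C.U) (c : skew H) : (C.rho u c).1.1 C.a = C.a := by
  rw [rho_apply, C.haa, C.au]
  simp

theorem rho_mul (u v : C.U) (c d : skew H) : C.rho u c * C.rho v d = C.rho (u + v) (c + d + C.beta u v) :=
  H.sisom_ext fun x => by
    simp only [H.smul_mul_apply, rho_apply, Submodule.coe_add, AddSubgroup.coe_add, beta, nu_coe,
      H.add_left, H.sub_left, H.smul_left, H.add_right, C.haa, C.ua, C.au, map_mul, ← H.symm (v : V) u]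
    linear_combination (norm := module) (H.h x C.a * H.h (v : V) u) • C.hθ • C.a

theorem rho_zero_zero : C.rho 0 0 = 1 :=
  H.sisom_ext fun x => by
    rw [rho_apply]
    simp [H.zero_left, H.zero_right]

theorem beta_zero_left (u : C.U) : C.beta 0 u = 0 := Subtype.ext (by simp [beta, nu_coe, H.zero_left])

theorem beta_zero_right (u : C.U) : C.beta u 0 = 0 := Subtype.ext (by simp [beta, nu_coe, H.zero_right])

theorem rho_inv (u : C.U) (c : skew H) : (C.rho u c)⁻¹ = C.rho (-u) (-c - C.beta u (-u)) := by
  refine inv_eq_of_mul_eq_one_right ?_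
  rw [rho_mul, add_neg_cancel, show c + (-c - C.beta u (-u)) + C.beta u (-u) = 0 by abel, rho_zero_zero]

/-- The commutator invariant. -/
def comm (u v : C.U) : skew H := nu H (H.h (u : V) v)

theorem beta_sub (u v : C.U) : C.beta u v - C.beta v u = C.comm u v :=
  Subtype.ext (by
    simp only [AddSubgroupClass.coe_sub, beta, comm, nu_coe, map_mul, ← H.symm (v : V) u, ← H.symm (u : V) v]
    linear_combination (H.h (u : V) v - H.h (v : V) u) * C.hθ)

theorem rho_comm (u v : C.U) (c d : skew H) :
    C.rho u c * C.rho v d = C.rho 0 (C.comm u v) * (C.rho v d * C.rho u c) := by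
  rw [rho_mul, rho_mul, rho_mul, zero_add, beta_zero_left, ← C.beta_sub, add_comm u v]
  congr 1
  abel

theorem rho_T (u : C.U) (c d : skew H) : C.rho 0 c * C.rho u d = C.rho u (c + d) := by
  rw [rho_mul, zero_add, beta_zero_left, add_zero]

theorem rho_T' (u : C.U) (c d : skew H) : C.rho u d * C.rho 0 c = C.rho u (c + d) := by
  rw [rho_mul, add_zero, beta_zero_right, add_zero, add_comm d c]

theorem rho_zero (c : skew H) : C.rho 0 c = H.sT C.haa (skew_add c) :=
  H.sisom_ext fun x => by
    rw [rho_apply, H.sT_apply]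
    simp [H.zero_left, H.zero_right]

theorem rho_inj {u v : C.U} {c d : skew H} (e : C.rho u c = C.rho v d) : u = v ∧ c = d := by
  have h := congrArg (fun g : H.SIsom => g.1.1 C.b) e
  simp only [rho_apply, C.hba, C.bu, one_smul, mul_one, sub_zero] at h
  have h1 := congrArg (fun x => x - H.h x C.b • C.a - H.h x C.a • C.b) h
  simp only [H.add_left, H.smul_left, C.hbb, C.hba, C.hab, C.haa, C.ua, C.ub] at h1
  have huv : (u : V) = v := by
    simpa using h1
  obtain rfl : u = v := Subtype.ext huv
  refine ⟨rfl, Subtype.ext ?_⟩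
  have h2 := congrArg (fun x => H.h x C.b) h
  simpa [H.add_left, H.smul_left, C.hbb, C.hab, C.ub] using h2

end Frame

end Cfsg.Lib.Known.MinIndexSU
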