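import Cfsg.Agent.Known.MinIndexSU.Levi
import Cfsg.Agent.Classical.Unitary.IsoFrames

/-!
The numbers of vectors of given norm in the orthogonal space of a frame.
-/

set_option autoImplicit false
set_option linter.unusedSectionVars false
set_option linter.unusedSimpArgs false
set_option linter.style.haveILetI false

namespace Cfsg.Lib.Known.MinIndexSU

open Cfsg.Lib.Classical Cfsg.Lib.Classical.UIso

universe u v

theorem isoCount_add_one (q m : ℕ) (hq : 1 ≤ q) (hm : 1 ≤ m) :
    isoCount q m + 1 + (q - 1) * cardNormOne q m = q ^ (2 * m) := by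
  obtain ⟨j, rfl⟩ : ∃ j, m = j + 1 := ⟨m - 1, by omega⟩
  have hj : 1 ≤ q ^ j := Nat.one_le_pow _ _ hq
  have hj1 : 1 ≤ q ^ (j + 1) := Nat.one_le_pow _ _ hq
  unfold isoCount cardNormOne
  split_ifs <;> simp only [Nat.add_sub_cancel] <;> zify [hq, hj, hj1] <;> ring

theorem isoCount_succ (q m : ℕ) (hq : 1 ≤ q) (hm : 1 ≤ m) :
    isoCount q (m + 1) = isoCount q m + (q ^ 2 - 1) * cardNormOne q m := by
  obtain ⟨j, rfl⟩ : ∃ j, m = j + 1 := ⟨m - 1, by omega⟩
  have hj : 1 ≤ q ^ j := Nat.one_le_pow _ _ hq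
  have hj1 : 1 ≤ q ^ (j + 1) := Nat.one_le_pow _ _ hq
  have hj2 : 1 ≤ q ^ (j + 2) := Nat.one_le_pow _ _ hq
  have hq2 : 1 ≤ q ^ 2 := Nat.one_le_pow _ _ hq
  unfold isoCount cardNormOne
  by_cases he : Even (j + 1)
  · rw [if_pos he, if_pos he, if_neg (by simp [Nat.even_add_one, he])]
    simp only [Nat.add_sub_cancel]
    zify [hq, hj, hj1, hj2, hq2]
    ring
  · rw [if_neg he, if_neg he, if_pos (by simpa [Nat.even_add_one] using he)]
    simp only [Nat.add_sub_cancel]
    zify [hq, hj, hj1, hj2, hq2]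
    ring

theorem isoCount_add_two (q m : ℕ) (hq : 1 ≤ q) (hm : 1 ≤ m) :
    isoCount q (m + 2) = q ^ 2 * isoCount q m + (q ^ 2 - 1) * (1 + q ^ (2 * m + 1)) := by
  obtain ⟨j, rfl⟩ : ∃ j, m = j + 1 := ⟨m - 1, by omega⟩
  have hj : 1 ≤ q ^ j := Nat.one_le_pow _ _ hq
  have hj1 : 1 ≤ q ^ (j + 1) := Nat.one_le_pow _ _ hq
  have hj2 : 1 ≤ q ^ (j + 1 + 1) := Nat.one_le_pow _ _ hq
  have hj3 : 1 ≤ q ^ (j + 1 + 2) := Nat.one_le_pow _ _ hq
  have hq2 : 1 ≤ q ^ 2 := Nat.one_le_pow _ _ hq
  unfold isoCount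
  by_cases he : Even (j + 1)
  · rw [if_pos he, if_pos (by simpa [Nat.even_add] using he)]
    simp only [Nat.add_sub_cancel, show j + 1 + 2 - 1 = j + 1 + 1 from rfl]
    zify [hq, hj, hj1, hj2, hj3, hq2]
    ring
  · rw [if_neg he, if_neg (by simpa [Nat.even_add] using he)]
    simp only [Nat.add_sub_cancel, show j + 1 + 2 - 1 = j + 1 + 1 from rfl]
    zify [hq, hj, hj1, hj2, hj3, hq2]
    ring

variable {F : Type u} [Field F] [Finite F] {V : Type v} [AddCommGroup V] [Module F V] [FiniteDimensional F V]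
  {H : HermSpace F V}

theorem card_iso_vectors (hpow : ∀ x, H.σ x = x ^ H.q) :
    Nat.card {x : V // H.h x x = 0 ∧ x ≠ 0} = isoCount H.q (Module.finrank F V) := by
  have := Fintype.ofFinite F
  have hF : Fintype.card F = H.q ^ 2 := by rw [← Nat.card_eq_fintype_card, H.card_field]
  exact card_iso H hF (RingHom.ext fun x => by rw [hpow, powConj_apply])

namespace Frame

variable (C : Frame H)

theorem hpowU (hpow : ∀ x, H.σ x = x ^ H.q) : ∀ x, C.HU.σ x = x ^ C.HU.q := fun x => hpow x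

theorem card_isoU (hpow : ∀ x, H.σ x = x ^ H.q) :
    Nat.card {u : C.U // H.h (u : V) u = 0 ∧ u ≠ 0} = isoCount H.q C.m := by
  have h := card_iso_vectors (H := C.HU) (C.hpowU hpow)
  rw [C.finrank_U] at h
  exact h

theorem card_normU {α : F} (hα : H.σ α = α) (hα0 : α ≠ 0) :
    Nat.card {u : C.U // H.h (u : V) u = α} = cardNormOne H.q C.m := by
  have h1 := C.HU.card_normOne
  rw [C.finrank_U] at h1
  refine Eq.trans ?_ h1
  obtain ⟨b, hb⟩ := H.conj.norm_surjective hα
  have hb0 : b ≠ 0 := fun h => hα0 (by rw [← hb, h, zero_mul])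
  have hσb : H.σ b ≠ 0 := (map_ne_zero _).2 hb0
  refine Nat.card_congr ((LinearEquiv.smulOfUnit (M := C.U) (Units.mk0 b hb0)⁻¹).toEquiv.subtypeEquiv fun u => ?_)
  show H.h (u : V) u = α ↔ H.h ((b⁻¹ • u : C.U) : V) (b⁻¹ • u : C.U) = 1
  rw [Submodule.coe_smul, H.smul_left, H.smul_right, map_inv₀, ← hb]
  constructor
  · intro h; rw [h]; field_simp
  · intro h
    field_simp at h
    linear_combination h

theorem card_nonisoU (hpow : ∀ x, H.σ x = x ^ H.q) :
    Nat.card {u : C.U // H.h (u : V) u ≠ 0} = (H.q - 1) * cardNormOne H.q C.m := by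
  classical
  have : Finite C.U := C.finite_U
  have hsplit : Nat.card {u : C.U // H.h (u : V) u = 0} + Nat.card {u : C.U // H.h (u : V) u ≠ 0} =
      Nat.card C.U := by
    rw [← Nat.card_sum]
    exact Nat.card_congr (Equiv.sumCompl fun u : C.U => H.h (u : V) u = 0)
  have h0 : Nat.card {u : C.U // H.h (u : V) u = 0} = isoCount H.q C.m + 1 := by
    rw [← C.card_isoU hpow, ← Finite.card_option]
    exact Nat.card_congr
      { toFun := fun u => if h : u.1 = 0 then none else some ⟨u.1, u.2, h⟩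
        invFun := fun o => o.elim ⟨0, by rw [Submodule.coe_zero, H.zero_left]⟩ fun u => ⟨u.1, u.2.1⟩
        left_inv := fun u => by
          by_cases h : u.1 = 0
          · simp only [h, dite_true, Option.elim_none]; exact Subtype.ext h.symm
          · simp [h]
        right_inv := fun o => by
          rcases o with _ | u
          · simp
          · simp [u.2.2] }
  have h1 := isoCount_add_one H.q C.m (by have := H.two_le_q; omega) (by have := C.hm; omega)
  rw [h0, C.card_U] at hsplit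
  omega

end Frame

end Cfsg.Lib.Known.MinIndexSU
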