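import Cfsg.Agent.Known.MinIndexSU.Basic

/-!
The six-dimensional unitary group over four elements has no subgroup of index 512.
-/

set_option autoImplicit false
set_option linter.unusedSectionVars false
set_option linter.unusedSimpArgs false
set_option linter.style.haveILetI false

namespace Cfsg.Lib.Known.MinIndexSU

open Cfsg.Lib.Classical

universe u v

variable {F : Type u} [Field F] [Finite F] {V : Type v} [AddCommGroup V] [Module F V] [FiniteDimensional F V]
  {H : HermSpace F V}

theorem modEq_fixed {α : Type*} [Fintype α] [DecidableEq α] (σ : Equiv.Perm α) (h : σ ^ 11 = 1) :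
    (Finset.univ.filter fun a => σ a = a).card ≡ Fintype.card α [MOD 11] := by
  have : Fact (Nat.Prime 11) := ⟨by norm_num⟩
  have h1 := Equiv.Perm.card_compl_support_modEq (p := 11) (n := 1) (σ := σ) (by rw [pow_one]; exact h)
  convert h1 using 2
  ext a
  simp [Equiv.Perm.mem_support]

theorem card_dvd_of_free {G α : Type*} [Group G] [MulAction G α]
    (h : ∀ b : α, MulAction.stabilizer G b = ⊥) : Nat.card G ∣ Nat.card α :=
  ⟨Nat.card (Quotient (MulAction.orbitRel G α)), by
    rw [Nat.card_congr (MulAction.selfEquivOrbitsQuotientProd h), Nat.card_prod, mul_comm]⟩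

theorem dvd_check (i : ℕ) (hi : i ∣ 495) : i % 11 ≠ 6 := by
  have h : ∀ j ∈ Nat.divisors 495, j % 11 ≠ 6 := by
    rw [show Nat.divisors 495 = {1, 3, 5, 9, 11, 15, 33, 45, 55, 99, 165, 495} from by decide +kernel]
    decide
  exact h i (Nat.mem_divisors.2 ⟨hi, by norm_num⟩)

/-- An element of order eleven. -/
structure Elev (H : HermSpace F V) where
  g : H.SIsom
  hg : orderOf g = 11
  hq : H.q = 2
  hd : Module.finrank F V = 6

namespace Elev

variable (E : Elev H)

/-- Its linear map. -/
noncomputable def T : V →ₗ[F] V := E.g.1.1.toLinearMap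

theorem T_iter (j : ℕ) (x : V) : (E.g ^ j).1.1 x = (E.T ^ j) x := by
  induction j generalizing x with
  | zero => rfl
  | succ j ih =>
    rw [pow_succ, pow_succ, Module.End.mul_apply, ← ih]
    rfl

theorem T_pow : E.T ^ 11 = 1 := by
  refine LinearMap.ext fun x => ?_
  rw [← E.T_iter, ← E.hg, pow_orderOf_eq_one]
  rfl

include E in
theorem four : Nat.card F = 4 := by rw [H.card_field, E.hq]; norm_num

include E in
theorem two : (2 : F) = 0 := by
  have := Fintype.ofFinite F
  have h4 : Fintype.card F % 2 = 0 := by rw [← Nat.card_eq_fintype_card, E.four]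
  have hr := (FiniteField.even_card_iff_char_two (F := F)).2 h4
  have := ringChar.Nat.cast_ringChar (R := F)
  rw [hr] at this
  exact_mod_cast this

include E in
theorem eleven : (11 : F) = 1 := by linear_combination 5 * E.two

/-- A stable subspace without fixed vectors. -/
theorem finrank_stable (W : Submodule F V) (hW : ∀ x ∈ W, E.T x ∈ W) (hfree : ∀ x ∈ W, E.T x = x → x = 0) :
    Module.finrank F W = 0 ∨ Module.finrank F W = 5 := by
  classical
  have : Finite W := Module.finite_of_finite F
  have := Fintype.ofFinite W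
  let f : W → W := fun x => ⟨E.T x, hW x x.2⟩
  have hf : Function.Injective f := fun a b h => Subtype.ext (E.g.1.1.injective (congrArg Subtype.val h))
  let σ : Equiv.Perm W := Equiv.ofBijective f (Finite.injective_iff_bijective.1 hf)
  have hσ : ∀ (j : ℕ) (x : W), ((σ ^ j) x : V) = (E.T ^ j) x := by
    intro j
    induction j with
    | zero => intro x; rfl
    | succ j ih =>
      intro x
      rw [pow_succ', pow_succ', Equiv.Perm.mul_apply, Module.End.mul_apply, ← ih]
      rfl
  have h := modEq_fixed σ (Equiv.ext fun x => Subtype.ext (by rw [hσ, E.T_pow]; rfl))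
  rw [show (Finset.univ.filter fun a => σ a = a) = {0} by
    ext x
    simp only [Finset.mem_filter, Finset.mem_univ, true_and, Finset.mem_singleton]
    refine ⟨fun hx => Subtype.ext (hfree x x.2 (congrArg Subtype.val hx)), fun hx => ?_⟩
    rw [hx]
    exact Subtype.ext (map_zero E.T), Finset.card_singleton, ← Nat.card_eq_fintype_card,
    Module.natCard_eq_pow_finrank (K := F), E.four] at h
  have hle := Submodule.finrank_le W
  rw [E.hd] at hle
  generalize Module.finrank F W = j at h hle
  interval_cases j <;> first | omega | exact absurd h (by decide)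

/-- The projection on the fixed vectors. -/
noncomputable def π : V →ₗ[F] V := ∑ j ∈ Finset.range 11, E.T ^ j

/-- The moved part. -/
noncomputable def V' : Submodule F V := LinearMap.ker E.π

theorem π_fix {x : V} (hx : E.T x = x) : E.π x = x := by
  have h : ∀ j, (E.T ^ j) x = x := fun j => by
    induction j with
    | zero => rfl
    | succ j ih => rw [pow_succ, Module.End.mul_apply, hx, ih]
  rw [π, LinearMap.sum_apply, Finset.sum_congr rfl fun j _ => h j, Finset.sum_const, Finset.card_range,
    ← Nat.cast_smul_eq_nsmul F, show ((11 : ℕ) : F) = (11 : F) by norm_num, E.eleven, one_smul]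

theorem T_π : E.T * E.π = E.π := by
  rw [π, Finset.mul_sum]
  simp only [← pow_succ']
  have h := Finset.sum_range_succ (fun j => E.T ^ j) 11
  rw [Finset.sum_range_succ', pow_zero, E.T_pow] at h
  exact add_right_cancel h

theorem π_T : E.π * E.T = E.π := by
  rw [π, Finset.sum_mul]
  simp only [← pow_succ]
  have h := Finset.sum_range_succ (fun j => E.T ^ j) 11
  rw [Finset.sum_range_succ', pow_zero, E.T_pow] at h
  exact add_right_cancel h

theorem V'_stable : ∀ x ∈ E.V', E.T x ∈ E.V' := fun x hx => by
  rw [V', LinearMap.mem_ker, ← Module.End.mul_apply, E.π_T]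
  exact hx

theorem V'_free : ∀ x ∈ E.V', E.T x = x → x = 0 := fun x hx h => by
  rw [← E.π_fix h]; exact hx

theorem T_π_apply (x : V) : E.T (E.π x) = E.π x := by rw [← Module.End.mul_apply, E.T_π]

theorem finrank_V' : Module.finrank F E.V' = 5 := by
  refine (E.finrank_stable _ E.V'_stable E.V'_free).resolve_left fun h0 => ?_
  have hker : E.V' = ⊥ := Submodule.finrank_eq_zero.1 h0
  have hsurj := LinearMap.surjective_of_injective (LinearMap.ker_eq_bot.1 hker)
  have h1 : E.g = 1 := H.sisom_ext fun x => by
    obtain ⟨y, rfl⟩ := hsurj x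
    exact E.T_π_apply y
  have := E.hg
  rw [h1, orderOf_one] at this
  omega

theorem irred (W : Submodule F V) (hle : W ≤ E.V') (hW : ∀ x ∈ W, E.T x ∈ W) (h0 : W ≠ ⊥) : W = E.V' := by
  refine Submodule.eq_of_le_of_finrank_eq hle ?_
  rw [E.finrank_V']
  exact (E.finrank_stable W hW fun x hx => E.V'_free x (hle hx)).resolve_left
    fun h => h0 (Submodule.finrank_eq_zero.1 h)

theorem π_range : Module.finrank F (LinearMap.range E.π) = 1 := by
  have h := E.π.finrank_range_add_finrank_ker
  rw [E.hd] at h
  have := E.finrank_V'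
  rw [V'] at this
  omega

/-- The linear map of an element commuting with it. -/
theorem comm_π {c : H.SIsom} (hc : c * E.g = E.g * c) (x : V) : c.1.1 (E.π x) = E.π (c.1.1 x) := by
  have h : ∀ (j : ℕ) (y : V), c.1.1 ((E.T ^ j) y) = (E.T ^ j) (c.1.1 y) := fun j y => by
    rw [← E.T_iter, ← E.T_iter, ← H.smul_mul_apply, ← H.smul_mul_apply,
      ((show Commute c E.g from hc).pow_right j).eq]
  simp only [π, LinearMap.sum_apply, map_sum, h]

/-- Vectors with both parts nonzero. -/
def Y : Set V := {x | E.π x ≠ 0 ∧ x - E.π x ≠ 0}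

theorem card_Y : Nat.card E.Y = 3069 := by
  classical
  have : Finite V := Module.finite_of_finite F
  have hππ : ∀ x, E.π (E.π x) = E.π x := fun x => E.π_fix (E.T_π_apply x)
  let e : E.Y ≃ {x : LinearMap.range E.π // x ≠ 0} × {x : E.V' // x ≠ 0} :=
    { toFun := fun x => (⟨⟨E.π x, LinearMap.mem_range_self _ _⟩, fun h => x.2.1 (congrArg Subtype.val h)⟩,
        ⟨⟨x - E.π x, by rw [V', LinearMap.mem_ker, map_sub, hππ, sub_self]⟩,
          fun h => x.2.2 (congrArg Subtype.val h)⟩)
      invFun := fun p => ⟨(p.1.1 : V) + p.2.1, by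
        obtain ⟨y, hy⟩ := p.1.1.2
        have hπ : E.π ((p.1.1 : V) + p.2.1) = p.1.1 := by
          rw [map_add, show E.π (p.2.1 : V) = 0 from p.2.1.2, add_zero, ← hy, hππ]
        refine ⟨by rw [hπ]; exact fun h => p.1.2 (Subtype.ext h), ?_⟩
        rw [hπ, add_sub_cancel_left]
        exact fun h => p.2.2 (Subtype.ext h)⟩
      left_inv := fun x => Subtype.ext (by show E.π x + ((x : V) - E.π x) = x; abel)
      right_inv := fun p => by
        obtain ⟨y, hy⟩ := p.1.1.2
        have hπ : E.π ((p.1.1 : V) + p.2.1) = p.1.1 := by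
          rw [map_add, show E.π (p.2.1 : V) = 0 from p.2.1.2, add_zero, ← hy, hππ]
        refine Prod.ext (Subtype.ext (Subtype.ext hπ)) (Subtype.ext (Subtype.ext ?_))
        show (p.1.1 : V) + p.2.1 - E.π ((p.1.1 : V) + p.2.1) = p.2.1
        rw [hπ, add_sub_cancel_left] }
  have hne : ∀ (W : Submodule F V), Nat.card {x : W // x ≠ 0} = Nat.card W - 1 := fun W => by
    have : Finite W := Module.finite_of_finite F
    have := Fintype.ofFinite W
    rw [Nat.card_eq_fintype_card, Nat.card_eq_fintype_card, Fintype.card_subtype, Finset.filter_ne',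
      Finset.card_erase_of_mem (Finset.mem_univ _), Finset.card_univ]
  have c1 := Module.natCard_eq_pow_finrank (K := F) (V := LinearMap.range E.π)
  have c2 := Module.natCard_eq_pow_finrank (K := F) (V := E.V')
  rw [E.π_range, E.four] at c1
  rw [E.finrank_V', E.four] at c2
  rw [Nat.card_congr e, Nat.card_prod, hne, hne, c1, c2]
  norm_num

theorem card_centralizer : Nat.card (Subgroup.centralizer (Subgroup.zpowers E.g : Set H.SIsom)) ∣ 3069 := by
  set C0 := Subgroup.centralizer (Subgroup.zpowers E.g : Set H.SIsom)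
  have hcomm : ∀ c : C0, (c : H.SIsom) * E.g = E.g * c := fun c =>
    ((Subgroup.mem_centralizer_iff.1 c.2) E.g (Subgroup.mem_zpowers E.g)).symm
  have hY : ∀ (c : C0) (y : V), y ∈ E.Y → (c : H.SIsom).1.1 y ∈ E.Y := fun c y hy => by
    refine ⟨?_, ?_⟩
    · rw [← E.comm_π (hcomm c)]
      exact fun h => hy.1 ((map_eq_zero_iff _ (c : H.SIsom).1.1.injective).1 h)
    · rw [← E.comm_π (hcomm c), ← map_sub]
      exact fun h => hy.2 ((map_eq_zero_iff _ (c : H.SIsom).1.1.injective).1 h)
  let act : MulAction C0 E.Y :=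
    { smul := fun c y => ⟨_, hY c y.1 y.2⟩
      one_smul := fun y => Subtype.ext rfl
      mul_smul := fun c c' y => Subtype.ext rfl }
  rw [← E.card_Y]
  refine card_dvd_of_free fun y => ?_
  rw [eq_bot_iff]
  intro c hc
  rw [Subgroup.mem_bot]
  have hfix : (c : H.SIsom).1.1 (y : V) = y := congrArg Subtype.val (MulAction.mem_stabilizer_iff.1 hc)
  have hπy : (c : H.SIsom).1.1 (E.π y) = E.π y := by rw [E.comm_π (hcomm c), hfix]
  have hr : ∀ x ∈ LinearMap.range E.π, (c : H.SIsom).1.1 x = x := fun x hx => by
    obtain ⟨⟨z, hz⟩, hne, hgen⟩ := finrank_eq_one_iff'.1 E.π_range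
    obtain ⟨a, ha⟩ := hgen ⟨E.π y, LinearMap.mem_range_self _ _⟩
    obtain ⟨b, hb⟩ := hgen ⟨x, hx⟩
    have ha' : a • z = E.π y := congrArg Subtype.val ha
    have hb' : b • z = x := congrArg Subtype.val hb
    have ha0 : a ≠ 0 := fun h => y.2.1 (by rw [← ha', h, zero_smul])
    rw [← ha', map_smul] at hπy
    rw [← hb', map_smul, smul_right_injective V ha0 hπy]
  let W : Submodule F V := E.V' ⊓ LinearMap.ker ((c : H.SIsom).1.1.toLinearMap - LinearMap.id)
  have hW : W = E.V' := by
    refine E.irred W inf_le_left (fun x hx => ⟨E.V'_stable x hx.1, ?_⟩) ?_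
    · have h1 : (c : H.SIsom).1.1 x = x := sub_eq_zero.1 hx.2
      show (c : H.SIsom).1.1 (E.T x) - E.T x = 0
      rw [show (c : H.SIsom).1.1 (E.T x) = E.T ((c : H.SIsom).1.1 x) from
        congrArg (fun k : H.SIsom => k.1.1 x) (hcomm c), h1, sub_self]
    · intro h
      refine y.2.2 ?_
      have : (y : V) - E.π y ∈ W := ⟨by
        show E.π _ = 0
        rw [map_sub, E.π_fix (E.T_π_apply _), sub_self], by
        show (c : H.SIsom).1.1 ((y : V) - E.π y) - ((y : V) - E.π y) = 0
        rw [map_sub, hfix, hπy, sub_self]⟩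
      rwa [h, Submodule.mem_bot] at this
  refine Subtype.ext (H.sisom_ext fun x => ?_)
  have h1 : x - E.π x ∈ W := by
    rw [hW]
    show E.π _ = 0
    rw [map_sub, E.π_fix (E.T_π_apply _), sub_self]
  have h2 : (c : H.SIsom).1.1 (x - E.π x) = x - E.π x := sub_eq_zero.1 h1.2
  rw [map_sub, hr _ (LinearMap.mem_range_self _ _), sub_left_inj] at h2
  exact h2

theorem no_involution (hsu : ∀ c : H.SIsom, c * E.g = E.g * c → c ^ 2 = 1 → c = 1) {x : H.SIsom}
    (hx : x ∈ Subgroup.normalizer ((Subgroup.zpowers E.g : Subgroup H.SIsom) : Set H.SIsom)) (h2 : x ^ 2 = 1) :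
    x = 1 := by
  obtain ⟨j, hj⟩ := Subgroup.mem_zpowers_iff.1 ((Subgroup.mem_normalizer_iff.1 hx E.g).1 (Subgroup.mem_zpowers E.g))
  have hxi : x⁻¹ = x := inv_eq_of_mul_eq_one_right (by rw [← sq]; exact h2)
  have h3 : E.g ^ (j * j) = E.g := by
    rw [zpow_mul, hj, conj_zpow, hj, hxi]
    have hxx : x * x = 1 := by rw [← sq]; exact h2
    calc x * (x * E.g * x) * x = (x * x) * E.g * (x * x) := by simp only [mul_assoc]
      _ = E.g := by rw [hxx, one_mul, mul_one]
  have h4 : (11 : ℤ) ∣ j * j - 1 := by
    have h5 : E.g ^ (j * j - 1) = 1 := by rw [zpow_sub, h3, zpow_one, mul_inv_cancel]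
    have := orderOf_dvd_iff_zpow_eq_one.2 h5
    rwa [E.hg] at this
  rw [show j * j - 1 = (j - 1) * (j + 1) by ring] at h4
  rcases (Int.prime_iff_natAbs_prime.2 (show Nat.Prime (Int.natAbs 11) by norm_num)).dvd_mul.1 h4 with h | h
  · refine hsu x ?_ h2
    have h5 : E.g ^ (j - 1) = 1 := orderOf_dvd_iff_zpow_eq_one.1 (by rw [E.hg]; exact h)
    rw [zpow_sub, zpow_one, mul_inv_eq_one] at h5
    rw [h5] at hj
    exact (mul_inv_eq_iff_eq_mul.1 hj.symm)
  · exfalso
    have h5 : E.g ^ (j + 1) = 1 := orderOf_dvd_iff_zpow_eq_one.1 (by rw [E.hg]; exact h)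
    rw [zpow_add, zpow_one, mul_eq_one_iff_eq_inv] at h5
    rw [h5] at hj
    have hxg : ∀ v, x.1.1 (E.T v) = (E.g⁻¹).1.1 (x.1.1 v) := fun v =>
      congrArg (fun k : H.SIsom => k.1.1 v) (mul_inv_eq_iff_eq_mul.1 hj.symm)
    let X : V →ₗ[F] V := x.1.1.toLinearMap
    have hXπ : ∀ v, X (E.π v) = E.π (X v) := fun v => by
      have hinv : ∀ w, (E.g⁻¹).1.1 w = (E.T ^ 10) w := fun w => by
        rw [← E.T_iter, show E.g⁻¹ = E.g ^ 10 from inv_eq_of_mul_eq_one_right (by
          rw [← pow_succ']
          show E.g ^ 11 = 1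
          rw [← E.hg, pow_orderOf_eq_one])]
      have hπ10 : E.π * E.T ^ 10 = E.π := by
        have : ∀ k, E.π * E.T ^ k = E.π := fun k => by
          induction k with
          | zero => rw [pow_zero, mul_one]
          | succ k ih => rw [pow_succ, ← mul_assoc, ih, E.π_T]
        exact this 10
      have key : ∀ (k : ℕ) (w : V), X ((E.T ^ k) w) = ((E.T ^ 10) ^ k) (X w) := fun k => by
        induction k with
        | zero => intro w; rfl
        | succ k ih =>
          intro w
          rw [pow_succ, pow_succ, Module.End.mul_apply, Module.End.mul_apply, ih]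
          congr 1
          show x.1.1 (E.T w) = _
          rw [hxg, hinv]
          rfl
      have hX : E.π (X (E.π v)) = X (E.π v) := by
        refine E.π_fix ?_
        have h1 := key 1 (E.π v)
        rw [pow_one, pow_one, E.T_π_apply] at h1
        have h11 := congrArg E.T h1
        rw [← Module.End.mul_apply E.T (E.T ^ 10), ← pow_succ', E.T_pow] at h11
        exact h11
      rw [← hX]
      let W : Submodule F V := LinearMap.range (E.T - LinearMap.id)
      have hle : W ≤ E.V' := by
        rintro _ ⟨y, rfl⟩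
        show E.π (E.T y - y) = 0
        rw [map_sub, ← Module.End.mul_apply, E.π_T, sub_self]
      have hWV : W = E.V' := by
        refine E.irred W hle (fun z hz => ?_) ?_
        · obtain ⟨y, rfl⟩ := hz
          exact ⟨E.T y, by show E.T (E.T y) - E.T y = E.T (E.T y - y); rw [map_sub]⟩
        · intro h
          have h1 : E.g = 1 := H.sisom_ext fun y => by
            have : (E.T - LinearMap.id (R := F) (M := V)) y ∈ W := ⟨y, rfl⟩
            rw [h, Submodule.mem_bot] at this
            exact sub_eq_zero.1 this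
          have := E.hg
          rw [h1, orderOf_one] at this
          omega
      obtain ⟨y, hy⟩ : v - E.π v ∈ W := by
        rw [hWV]
        show E.π (v - E.π v) = 0
        rw [map_sub, E.π_fix (E.T_π_apply _), sub_self]
      have hy' : E.T y - y = v - E.π v := hy
      have h0 : E.π (X (v - E.π v)) = 0 := by
        have h1 := key 1 y
        rw [pow_one, pow_one] at h1
        rw [← hy', map_sub, map_sub, h1, ← Module.End.mul_apply, hπ10, sub_self]
      rw [map_sub, map_sub, sub_eq_zero] at h0
      exact h0.symm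
    have hXV : ∀ v ∈ E.V', X v ∈ E.V' := fun v hv => by
      show E.π (X v) = 0
      rw [← hXπ, show E.π v = 0 from hv, map_zero]
    let R : E.V' →ₗ[F] E.V' := X.restrict hXV - LinearMap.id
    have hsq : ∀ v, x.1.1 (x.1.1 v) = v := fun v => by
      rw [← H.smul_mul_apply, ← sq, h2]; rfl
    have h2F : (2 : F) = 0 := E.two
    have hRR : ∀ v, R (R v) = 0 := fun v => Subtype.ext (by
      show x.1.1 (x.1.1 v - v) - (x.1.1 v - v) = 0
      rw [map_sub, hsq]
      have : (2 : F) • ((v : V) - x.1.1 v) = 0 := by rw [h2F, zero_smul]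
      linear_combination (norm := module) this)
    have hker : 3 ≤ Module.finrank F (LinearMap.ker R) := by
      have h6 := R.finrank_range_add_finrank_ker
      have h7 := Submodule.finrank_mono (show LinearMap.range R ≤ LinearMap.ker R by
        rintro _ ⟨v, rfl⟩; exact hRR v)
      rw [E.finrank_V'] at h6
      omega
    let f : E.V' →ₗ[F] E.V' := E.T.restrict E.V'_stable
    have hinj : Function.Injective f := fun a b h => Subtype.ext (E.g.1.1.injective (congrArg Subtype.val h))
    have hmap : Module.finrank F ((LinearMap.ker R).map f) = Module.finrank F (LinearMap.ker R) :=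
      ((LinearMap.ker R).equivMapOfInjective f hinj).finrank_eq.symm
    have hsum := Submodule.finrank_sup_add_finrank_inf_eq (LinearMap.ker R) ((LinearMap.ker R).map f)
    have hle := Submodule.finrank_le (LinearMap.ker R ⊔ (LinearMap.ker R).map f)
    rw [E.finrank_V'] at hle
    have hpos : (LinearMap.ker R ⊓ (LinearMap.ker R).map f) ≠ ⊥ := fun h => by
      rw [h, finrank_bot] at hsum
      omega
    obtain ⟨w, ⟨hw, w', hw', rfl⟩, hw0⟩ := Submodule.exists_mem_ne_zero_of_ne_bot hpos
    have e1 : x.1.1 (E.T w') = E.T w' := sub_eq_zero.1 (congrArg Subtype.val (LinearMap.mem_ker.1 hw))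
    have e2 : x.1.1 (w' : V) = w' := sub_eq_zero.1 (congrArg Subtype.val (LinearMap.mem_ker.1 hw'))
    rw [hxg, e2] at e1
    have e3 : E.T (E.T w') = (w' : V) := by
      rw [← e1]
      exact H.apply_inv_self E.g.1 _
    have e4 : (E.T ^ 11) (w' : V) = E.T w' := by
      have : ∀ k, (E.T ^ (2 * k + 1)) (w' : V) = E.T w' := fun k => by
        induction k with
        | zero => rw [mul_zero, zero_add, pow_one]
        | succ k ih => rw [show 2 * (k + 1) + 1 = 1 + (1 + (2 * k + 1)) by ring, pow_add, pow_add,
            Module.End.mul_apply, Module.End.mul_apply, ih, pow_one, e3]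
      exact this 5
    rw [E.T_pow] at e4
    exact hw0 (by
      have : (w' : V) = 0 := E.V'_free _ w'.2 e4.symm
      rw [show w' = 0 from Subtype.ext this, map_zero])

end Elev

/-- No subgroup of index 512. -/
theorem no_index_512 (hq : H.q = 2) (hd : Module.finrank F V = 6) (K : Subgroup H.SIsom) (hK : K.index = 512) :
    False := by
  classical
  have : Finite V := Module.finite_of_finite F
  have hfin : Finite H.SIsom :=
    Finite.of_injective (fun g : H.SIsom => (g.1.1 : V → V)) fun g h e => H.sisom_ext (congrFun e)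
  have : Fact (Nat.Prime 11) := ⟨by norm_num⟩
  have : Nontrivial V := Module.nontrivial_of_finrank_pos (R := F) (by omega)
  have hcard : Nat.card H.SIsom = 27590492160 := by
    have h := H.card_SIsom_mul
    rw [hd, hq] at h
    norm_num [cardGUFormula, Finset.prod_range_succ, Nat.even_iff] at h
    omega
  have hKc := K.card_mul_index
  rw [hcard, hK] at hKc
  have hKc' : Nat.card K = 53887680 := by omega
  obtain ⟨g0, hg0⟩ := exists_prime_orderOf_dvd_card' (G := K) 11 (by rw [hKc']; norm_num)
  let E : Elev H := ⟨g0.1, by rw [Subgroup.orderOf_coe]; exact hg0, hq, hd⟩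
  set P := Subgroup.zpowers E.g
  set N := Subgroup.normalizer ((P : Subgroup H.SIsom) : Set H.SIsom)
  have hC := E.card_centralizer
  have hsu : ∀ c : H.SIsom, c * E.g = E.g * c → c ^ 2 = 1 → c = 1 := by
    intro c hc h2
    have hm : c ∈ Subgroup.centralizer (P : Set H.SIsom) := Subgroup.mem_centralizer_iff.2 fun t ht => by
      obtain ⟨j, rfl⟩ := Subgroup.mem_zpowers_iff.1 ht
      exact ((show Commute c E.g from hc).zpow_right j).eq.symm
    have h3 := (Subgroup.orderOf_dvd_natCard _ hm).trans hC
    have h4 := orderOf_dvd_of_pow_eq_one h2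
    rw [← orderOf_eq_one_iff]
    exact Nat.dvd_one.1 (by have := Nat.dvd_gcd h4 h3; norm_num at this ⊢; exact this)
  have hN : Nat.card N ∣ 495 := by
    have hodd : ¬ 2 ∣ Nat.card N := fun h => by
      obtain ⟨x, hx⟩ := exists_prime_orderOf_dvd_card' (G := N) 2 h
      have h1 : (x : H.SIsom) ^ 2 = 1 := by
        rw [← hx, ← SubmonoidClass.coe_pow, pow_orderOf_eq_one, OneMemClass.coe_one]
      have h2 := E.no_involution hsu x.2 h1
      rw [show x = 1 from Subtype.ext h2, orderOf_one] at hx
      omega
    have h10 : Nat.card N ∣ 3069 * 10 := by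
      rw [← P.normalizerMonoidHom.ker.card_mul_index, Subgroup.index_ker]
      refine Nat.mul_dvd_mul ?_ ?_
      · refine dvd_trans ?_ hC
        rw [Subgroup.normalizerMonoidHom_ker]
        exact dvd_of_eq (Nat.card_congr (Subgroup.subgroupOfEquivOfLe (fun c hc => by
          refine Subgroup.mem_normalizer_fintype fun t ht => ?_
          rw [← (Subgroup.mem_centralizer_iff.1 hc) t ht, mul_inv_cancel_right]
          exact ht)).toEquiv)
      · refine (Subgroup.card_subgroup_dvd_card _).trans (dvd_of_eq ?_)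
        have : IsCyclic P := ⟨⟨⟨E.g, Subgroup.mem_zpowers _⟩, fun ⟨x, hx⟩ => by
          obtain ⟨j, rfl⟩ := Subgroup.mem_zpowers_iff.1 hx
          exact Subgroup.mem_zpowers_iff.2 ⟨j, Subtype.ext (by push_cast; rfl)⟩⟩⟩
        rw [IsCyclic.card_mulAut, Nat.card_zpowers, E.hg, Nat.totient_prime (by norm_num)]
    have hdvd := Subgroup.card_subgroup_dvd_card N
    rw [hcard] at hdvd
    have h990 : Nat.card N ∣ 990 := by
      have := Nat.dvd_gcd h10 hdvd
      norm_num at this
      exact this
    exact (Nat.Coprime.dvd_of_dvd_mul_left ((Nat.prime_two.coprime_iff_not_dvd.2 hodd).symm) (show Nat.card N ∣ 2 * 495 by norm_num; exact h990))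
  have := Fintype.ofFinite (H.SIsom ⧸ K)
  let x0 : H.SIsom ⧸ K := QuotientGroup.mk 1
  have hfix : ∀ y : H.SIsom ⧸ K, E.g • y = y ↔ y ∈ MulAction.orbit N x0 := by
    intro y
    constructor
    · intro hy
      induction y using QuotientGroup.induction_on with
      | _ a =>
        rw [MulAction.Quotient.smul_coe, smul_eq_mul, QuotientGroup.eq] at hy
        have hy' : a⁻¹ * E.g * a ∈ K := by
          have := K.inv_mem hy
          simpa [mul_assoc] using this
        have hfac : (Nat.card K).factorization 11 = 1 := by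
          rw [hKc', show 53887680 = 4898880 * 11 by norm_num, Nat.factorization_mul (by norm_num) (by norm_num),
            Finsupp.add_apply, Nat.Prime.factorization_self (by norm_num),
            Nat.factorization_eq_zero_of_not_dvd (by norm_num)]
        have hsyl : ∀ h : H.SIsom, h ∈ K → orderOf h = 11 → ∃ S : Sylow 11 K,
            (S : Subgroup K) = (Subgroup.zpowers h).subgroupOf K := fun h hh ho => by
          refine ⟨Sylow.ofCard _ ?_, Sylow.coe_ofCard _ _⟩
          rw [hfac, pow_one, Nat.card_congr (Subgroup.subgroupOfEquivOfLe ((Subgroup.zpowers_le).2 hh)).toEquiv,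
            Nat.card_zpowers, ho]
        obtain ⟨S1, hS1⟩ := hsyl E.g g0.2 E.hg
        obtain ⟨S2, hS2⟩ := hsyl _ hy' (by
          rw [← E.hg, ← MulEquiv.orderOf_eq (MulAut.conj a⁻¹) E.g]
          simp [MulAut.conj_apply])
        obtain ⟨k, hk⟩ := MulAction.exists_smul_eq K S1 S2
        have hk' : ∀ t : K, t ∈ (S1 : Subgroup K) → k * t * k⁻¹ ∈ (S2 : Subgroup K) := fun t ht => by
          rw [← hk]
          exact Subgroup.smul_mem_pointwise_smul t (MulAut.conj k) _ ht
        have h1 := hk' g0 (by rw [hS1]; exact Subgroup.mem_zpowers _)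
        rw [hS2, Subgroup.mem_subgroupOf] at h1
        obtain ⟨j, hj⟩ := Subgroup.mem_zpowers_iff.1 h1
        push_cast at hj
        have hb : a * (k : H.SIsom) ∈ N := by
          rw [show a⁻¹ * E.g * a = a⁻¹ * E.g * (a⁻¹)⁻¹ by rw [inv_inv], conj_zpow, inv_inv] at hj
          have h11 : (a * (k : H.SIsom)) * E.g * (a * (k : H.SIsom))⁻¹ = E.g ^ j := by
            have := congrArg (fun t => a * t * a⁻¹) hj
            beta_reduce at this
            rw [show a * (a⁻¹ * E.g ^ j * a) * a⁻¹ = E.g ^ j by group] at this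
            rw [this]
            show a * (k : H.SIsom) * (g0 : H.SIsom) * (a * (k : H.SIsom))⁻¹ = _
            group
          refine Subgroup.mem_normalizer_fintype fun t ht => ?_
          obtain ⟨i, rfl⟩ := Subgroup.mem_zpowers_iff.1 ht
          rw [← conj_zpow, h11, ← zpow_mul]
          exact Subgroup.zpow_mem _ (Subgroup.mem_zpowers _) _
        refine ⟨⟨_, hb⟩, ?_⟩
        show (a * (k : H.SIsom)) • x0 = _
        rw [MulAction.Quotient.smul_coe, smul_eq_mul, mul_one, QuotientGroup.eq]
        rw [mul_inv_rev, inv_mul_cancel_right]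
        exact K.inv_mem k.2
    · rintro ⟨⟨b, hb⟩, rfl⟩
      show E.g • b • x0 = b • x0
      have h1 : b⁻¹ * E.g * b ∈ P := by
        have := (Subgroup.mem_normalizer_iff.1 (N.inv_mem hb) E.g).1 (Subgroup.mem_zpowers _)
        rwa [inv_inv] at this
      obtain ⟨j, hj⟩ := Subgroup.mem_zpowers_iff.1 h1
      rw [smul_smul, show E.g * b = b * (b⁻¹ * E.g * b) by group, ← hj, mul_smul]
      congr 1
      rw [MulAction.Quotient.smul_coe, smul_eq_mul, mul_one, QuotientGroup.eq, mul_one]
      exact K.inv_mem (K.zpow_mem g0.2 j)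
  have hmod := modEq_fixed (MulAction.toPerm E.g : Equiv.Perm (H.SIsom ⧸ K)) (Equiv.ext fun y => by
    have : ((MulAction.toPermHom H.SIsom (H.SIsom ⧸ K)) E.g) ^ 11 = 1 := by
      rw [← map_pow, ← E.hg, pow_orderOf_eq_one, map_one]
    exact Equiv.congr_fun this y)
  have hi : (Finset.univ.filter fun y : H.SIsom ⧸ K => (MulAction.toPerm E.g : Equiv.Perm _) y = y).card ∣ 495 := by
    rw [← Fintype.card_subtype, ← Nat.card_eq_fintype_card]
    refine dvd_trans ?_ hN
    rw [Nat.card_congr (Equiv.subtypeEquivRight (p := fun y => (MulAction.toPerm E.g : Equiv.Perm _) y = y) hfix)]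
    rw [← Nat.card_congr (MulAction.orbitProdStabilizerEquivGroup N x0), Nat.card_prod]
    exact dvd_mul_right _ _
  rw [← Nat.card_eq_fintype_card, ← Subgroup.index, hK] at hmod
  have hle := Nat.le_of_dvd (by norm_num) hi
  exact dvd_check _ hi hmod

end Cfsg.Lib.Known.MinIndexSU
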