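import Cfsg.Agent.Known.MinIndexSU.Fixed

/-!
The end of the count: a good point forces a large degree.
-/

set_option autoImplicit false
set_option linter.unusedSectionVars false
set_option linter.unusedSimpArgs false
set_option linter.style.haveILetI false

namespace Cfsg.Lib.Known.MinIndexSU

open Cfsg.Lib.Classical Cfsg.Lib.Classical.UIso

universe u v w

variable {F : Type u} [Field F] [Finite F] {V : Type v} [AddCommGroup V] [Module F V] [FiniteDimensional F V]
  {H : HermSpace F V}

/-- All points but one of a line of centres give the last one. -/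
theorem line_mem {K : Subgroup H.SIsom} {e v : V} (he : e ∈ H.uCentres K) (hv : H.h v v = 0)
    (hve : H.h v e = 0) (hl : ∀ a : F, a ≠ 0 → a • e + v ∈ H.uCentres K) : v ∈ H.uCentres K := by
  classical
  obtain ⟨hee, he'⟩ := he
  refine ⟨hv, fun c hc => ?_⟩
  have key : ∀ a : F, a ≠ 0 → H.sT hv hc * H.sR hee hv hve (c * a) ∈ K := fun a ha => by
    obtain ⟨hy, hK⟩ := hl a ha
    have h1 : H.sT hy hc ∈ K := hK c hc
    rw [H.sT_split hee hv hve a hy hc, mul_assoc] at h1
    exact (K.mul_mem_cancel_left (he' _ _)).1 h1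
  have hcomm : ∀ l, H.sR hee hv hve l * H.sT hv hc = H.sT hv hc * H.sR hee hv hve l := fun l =>
    H.sisom_ext fun x => by
      simp only [H.smul_mul_apply, H.sR_apply, H.sT_apply, H.add_left, H.sub_left, H.smul_left, hee, hv, hve,
        H.eq_zero_symm hve]
      module
  obtain ⟨μ, hμ0, hμ1⟩ : ∃ μ : F, μ ≠ 0 ∧ 1 + μ ≠ 0 := by
    have := Fintype.ofFinite F
    have hq := H.two_le_q
    have hcard : 4 ≤ Fintype.card F := by rw [← Nat.card_eq_fintype_card, H.card_field]; nlinarith
    obtain ⟨μ, -, hμ⟩ := Finset.exists_mem_notMem_of_card_lt_card (s := ({0, -1} : Finset F))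
      (t := (Finset.univ : Finset F)) (by rw [Finset.card_univ]; exact lt_of_le_of_lt Finset.card_le_two (by omega))
    simp only [Finset.mem_insert, Finset.mem_singleton, not_or] at hμ
    exact ⟨μ, hμ.1, fun h => hμ.2 (by linear_combination h)⟩
  have h12 := K.mul_mem (key 1 one_ne_zero) (key μ hμ0)
  rw [show H.sT hv hc * H.sR hee hv hve (c * 1) * (H.sT hv hc * H.sR hee hv hve (c * μ)) =
      H.sT hv hc * (H.sT hv hc * H.sR hee hv hve (c * (1 + μ))) by
    rw [mul_add, H.sR_add, ← mul_assoc, mul_assoc (H.sT hv hc), hcomm]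
    group] at h12
  exact (K.mul_mem_cancel_right (key _ hμ1)).1 h12

theorem arith_fin {d qN I C q : ℕ} (hqN : 0 < qN) (hCI : C + (q ^ 2 - 1) * qN ≥ I)
    (h : I * qN + d * C = d * I) : I ≤ d * (q ^ 2 - 1) := by
  refine Nat.le_of_mul_le_mul_right ?_ hqN
  have := Nat.mul_le_mul_left d hCI
  rw [mul_add] at this
  rw [mul_assoc]
  linarith

namespace Small

variable {C : Frame H} {X : Type w} [MulAction H.SIsom X] [Fintype X] (hS : Small C X)

include hS

theorem count_eq (y : X) :
    isoCount H.q (C.m + 2) * H.q ^ (2 * C.m + 1) + Nat.card X * Nat.card {v : V // v ∈ cen H y ∧ v ≠ 0} =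
      Nat.card X * isoCount H.q (C.m + 2) := by
  have := hS.htrans
  have h := double_count C (by have := C.hm; omega) y
  rw [card_iso_vectors hS.hpow, C.hdim] at h
  rw [h, ← mul_add, add_comm (H.q ^ _), hS.card_fixed, mul_comm]

variable {y : X} (hy : C.Good y)

include hy

theorem a_not : C.a ∉ cen H y := fun h => hy.moved (Z1_top.2 h)

theorem smul_mem_cen {v : V} (c : F) (hc : c ≠ 0) (h : c • v ∈ cen H y) : v ∈ cen H y := by
  have := H.uCentres_smul h c⁻¹
  rwa [inv_smul_smul₀ hc] at this

/-- Every point outside the centres is orthogonal to a whole orthogonal space of centres. -/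
theorem test {p : V} (hp : p ≠ 0) (hpp : H.h p p = 0) (hn : p ∉ cen H y) :
    ∃ g : H.SIsom, g.1.1 C.a = p ∧ ∀ e : C.U, H.h (e : V) e = 0 → g.1.1 (e : V) ∈ cen H y := by
  obtain ⟨g0, hg0⟩ := exists_move_iso (H := H) (by have := C.hdim; have := C.hm; omega) C.ha0 hp C.haa hpp
  have hmov : Z1 C (g0⁻¹ • y) ≠ ⊤ := fun h => hn (by
    have h1 := cen_map_mem g0 (Z1_top.1 h)
    rwa [smul_inv_smul, hg0] at h1)
  obtain ⟨u, c, huc⟩ := C.mem_orb.1 (hS.orb_unique hy.moved hmov)
  refine ⟨g0 * C.rho u c, ?_, fun e he => ?_⟩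
  · rw [H.smul_mul_apply, C.rho_a, hg0]
  · have h1 := cen_map_mem (g0 * C.rho u c) (hy.iso e he)
    rwa [mul_smul, huc, smul_inv_smul] at h1

theorem span_iso_le {W : Submodule F V} (hW : ∀ e : C.U, H.h (e : V) e = 0 → (e : V) ∈ W) : C.U ≤ W := by
  intro u hu
  have hspan := C.HU.span_isotropic (by rw [C.finrank_U]; have := C.hm; omega)
  have h1 : (⟨u, hu⟩ : C.U) ∈ Submodule.span F {e : C.U | C.HU.h e e = 0} := hspan ▸ Submodule.mem_top
  have h2 : ∀ z : C.U, z ∈ Submodule.span F {e : C.U | C.HU.h e e = 0} → (z : V) ∈ W := fun z hz => by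
    induction hz using Submodule.span_induction with
    | mem z hz => exact hW z hz
    | zero => exact W.zero_mem
    | add a b _ _ ha hb => exact W.add_mem ha hb
    | smul s a _ ha => exact W.smul_mem s ha
  exact h2 _ h1

theorem exists_mixed : ∃ (u : C.U) (p r : F), u ≠ 0 ∧ (p ≠ 0 ∨ r ≠ 0) ∧
    (u : V) + p • C.a + r • C.b ∈ cen H y := by
  by_contra hno
  push Not at hno
  obtain ⟨e, he0, hee⟩ := C.HU.exists_isotropic_of_two_le (by rw [C.finrank_U]; exact C.hm)
  have hee' : H.h (e : V) e = 0 := hee
  set p0 : V := (e : V) + (1 : F) • C.a + (0 : F) • C.b with hp0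
  have hn : p0 ∉ cen H y := hno e 1 0 he0 (Or.inl one_ne_zero)
  have hp00 : p0 ≠ 0 := fun h => by
    have := congrArg (fun x => H.h x C.b) h
    simp [hp0, H.add_left, H.smul_left, C.ub, C.hab, H.zero_left] at this
  have hpp : H.h p0 p0 = 0 := by
    simp [hp0, H.add_left, H.add_right, H.smul_left, H.smul_right, hee', C.ua, C.au, C.haa]
  obtain ⟨g, hg, hgU⟩ := hS.test hy hp00 hpp hn
  have hle : C.U ≤ C.U.comap g.1.1.toLinearMap := hS.span_iso_le hy fun e' he' => by
    show g.1.1 (e' : V) ∈ C.U
    obtain ⟨u, p, r, hx⟩ := C.decomp (g.1.1 (e' : V))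
    have hmem := hgU e' he'
    by_cases hu0 : u = 0
    · have hperp : H.h (g.1.1 (e' : V)) p0 = 0 := by rw [← hg, H.map_form, C.ua]
      rw [hx, hu0, Submodule.coe_zero, zero_add] at hperp hmem
      simp [hp0, H.add_left, H.add_right, H.smul_left, H.smul_right, C.au, C.bu, C.haa, C.hba] at hperp
      rw [hperp, zero_smul, add_zero] at hmem
      rcases eq_or_ne p 0 with rfl | hp
      · rw [hx, hu0, hperp]; simp
      · exact absurd (hS.smul_mem_cen hy p hp hmem) (hS.a_not hy)
    · rw [hx] at hmem
      by_cases hpr : p = 0 ∧ r = 0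
      · rw [hx, hpr.1, hpr.2]; simp
      · exact absurd hmem (hno u p r hu0 (not_and_or.1 hpr))
  refine he0 (C.HU.nondeg e fun x => ?_)
  obtain ⟨z, hz⟩ : ∃ z : C.U, g.1.1 (z : V) = (x : V) := by
    let f : C.U → C.U := fun z => ⟨g.1.1 (z : V), hle z.2⟩
    have hf : Function.Injective f := fun a b h => Subtype.ext (g.1.1.injective (congrArg Subtype.val h))
    obtain ⟨z, hz⟩ := (Finite.injective_iff_surjective.1 hf) x
    exact ⟨z, congrArg Subtype.val hz⟩
  have h2 : H.h (x : V) p0 = 0 := by rw [← hz, ← hg, H.map_form, C.ua]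
  simp [hp0, H.add_right, H.smul_right, C.ua] at h2
  exact h2

variable {u : C.U} {p r : F} (hx : (u : V) + p • C.a + r • C.b ∈ cen H y)

include hx

theorem orbit_mem {u' : C.U} (hu : u ≠ 0) (hu' : u' ≠ 0) (hn : H.h (u' : V) u' = H.h (u : V) u) :
    ∃ κ : F, ((4 ≤ C.m ∨ 3 ≤ H.q) → κ = 0) ∧ (r = 0 → κ = 0) ∧
      (u' : V) + (p + κ) • C.a + r • C.b ∈ cen H y := by
  obtain ⟨k, hk⟩ := C.exists_ext_map hS.hm hu hu' hn
  obtain ⟨c, hc⟩ := hy.upT k
  refine ⟨(((-c : skew H)) : F) * r, fun hcase => ?_, fun h => by rw [h, mul_zero], ?_⟩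
  · have h1 := hy.fixL hcase k
    have h0 : c = 0 := hS.T_unique hy.moved (by rw [← hc, h1, C.rho_zero_zero, one_smul])
    rw [h0, neg_zero, AddSubgroup.coe_zero, zero_mul]
  · have hfix : (C.rho 0 (-c) * (C.ext k).1) • y = y := by
      rw [mul_smul, hc, smul_smul, C.rho_T, neg_add_cancel, C.rho_zero_zero, one_smul]
    have h1 := cen_map_mem (C.rho 0 (-c) * (C.ext k).1) hx
    rw [hfix] at h1
    convert h1 using 1
    rw [H.smul_mul_apply]
    simp only [map_add, map_smul, C.ext_apply, (C.ext_ab k).1, (C.ext_ab k).2, hk, C.rho_apply]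
    simp [H.add_left, H.smul_left, C.ua, C.haa, C.hba, H.zero_left, H.zero_right]
    module

open scoped _root_.Classical in
/-- Isotropic vectors of the orthogonal space and the orbit of a mixed centre. -/
theorem count_low (hu : u ≠ 0) (hpr : p ≠ 0 ∨ r ≠ 0) :
    isoCount H.q C.m +
      (H.q ^ 2 - 1) * Nat.card {u' : C.U // H.h (u' : V) u' = H.h (u : V) u ∧ u' ≠ 0} ≤
      Nat.card {v : V // v ∈ cen H y ∧ v ≠ 0 ∧ ((v ∈ C.U) ∨ H.h v C.b * r = H.h v C.a * p ∨ ¬ (4 ≤ C.m ∨ 3 ≤ H.q))} := by
  have : Finite V := Module.finite_of_finite F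
  rw [← C.card_isoU hS.hpow, ← H.card_field, ← Nat.card_units, ← Nat.card_prod, ← Nat.card_sum]
  choose κ hκ1 hκ2 hκ using fun u' : {u' : C.U // H.h (u' : V) u' = H.h (u : V) u ∧ u' ≠ 0} =>
    hS.orbit_mem hy hx hu u'.2.2 u'.2.1
  let base := fun u' : {u' : C.U // H.h (u' : V) u' = H.h (u : V) u ∧ u' ≠ 0} =>
    ((u'.1 : C.U) : V) + (p + κ u') • C.a + r • C.b
  have hA : ∀ (u' : {u' : C.U // H.h (u' : V) u' = H.h (u : V) u ∧ u' ≠ 0}) (s : F),
      H.h (s • base u') C.a = s * r ∧ H.h (s • base u') C.b = s * (p + κ u') := fun u' s => by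
    simp [base, H.smul_left, H.add_left, C.ua, C.ub, C.haa, C.hbb, C.hab, C.hba]
  have hnz : ∀ u', (p + κ u' ≠ 0 ∨ r ≠ 0) := fun u' => by
    rcases eq_or_ne r 0 with h | h
    · left; rw [hκ2 u' h, add_zero]; exact hpr.resolve_right (not_not.2 h)
    · exact Or.inr h
  refine Nat.card_le_card_of_injective
    (Sum.elim (fun e => ⟨(e.1 : V), hy.iso _ e.2.1, fun h => e.2.2 (Subtype.ext h), Or.inl e.1.2⟩)
      (fun t => ⟨(t.1 : F) • base t.2, H.uCentres_smul (hκ t.2) _, smul_ne_zero t.1.ne_zero (fun h => ?_), ?_⟩)) ?_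
  · have h1 := congrArg (fun v => v - H.h v C.b • C.a - H.h v C.a • C.b) h
    have h2 := hA t.2 1
    simp only [one_smul, one_mul] at h2
    simp only [h2.1, h2.2, H.zero_left, zero_smul, sub_zero] at h1
    refine t.2.2.2 (Subtype.ext ?_)
    rw [Submodule.coe_zero]
    refine Eq.trans ?_ h1
    simp only [base]
    abel
  · by_cases hcase : 4 ≤ C.m ∨ 3 ≤ H.q
    · exact Or.inr (Or.inl (by rw [(hA t.2 _).1, (hA t.2 _).2, hκ1 t.2 hcase, add_zero]; ring))
    · exact Or.inr (Or.inr hcase)
  · rintro (e | ⟨s, u1⟩) (e' | ⟨s', u2⟩) h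
    · simp only [Sum.elim_inl, Subtype.mk.injEq] at h
      exact congrArg Sum.inl (Subtype.ext (Subtype.ext h))
    · have h' : (e.1 : V) = (s' : F) • base u2 := congrArg Subtype.val h
      have h1 := congrArg (fun v => H.h v C.a) h'
      have h2 := congrArg (fun v => H.h v C.b) h'
      simp only [C.ua, C.ub, (hA u2 _).1, (hA u2 _).2] at h1 h2
      exfalso
      rcases hnz u2 with h3 | h3
      · exact mul_ne_zero s'.ne_zero h3 h2.symm
      · exact mul_ne_zero s'.ne_zero h3 h1.symm
    · have h' : (s : F) • base u1 = (e'.1 : V) := congrArg Subtype.val h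
      have h1 := congrArg (fun v => H.h v C.a) h'
      have h2 := congrArg (fun v => H.h v C.b) h'
      simp only [C.ua, C.ub, (hA u1 _).1, (hA u1 _).2] at h1 h2
      exfalso
      rcases hnz u1 with h3 | h3
      · exact mul_ne_zero s.ne_zero h3 h2
      · exact mul_ne_zero s.ne_zero h3 h1
    · have h' : (s : F) • base u1 = (s' : F) • base u2 := congrArg Subtype.val h
      have h1 := congrArg (fun v => H.h v C.a) h'
      have h2 := congrArg (fun v => H.h v C.b) h'
      simp only [(hA u1 _).1, (hA u2 _).1, (hA u1 _).2, (hA u2 _).2] at h1 h2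
      obtain rfl : s = s' := by
        refine Units.ext ?_
        rcases eq_or_ne r 0 with h0 | h0
        · rw [hκ2 u1 h0, hκ2 u2 h0, add_zero] at h2
          exact mul_right_cancel₀ (hpr.resolve_right (not_not.2 h0)) h2
        · exact mul_right_cancel₀ h0 h1
      have hb := smul_right_injective V s.ne_zero h'
      have hk : κ u1 = κ u2 := by
        have h2' := mul_left_cancel₀ s.ne_zero h2
        exact add_left_cancel h2'
      simp only [base, hk, add_left_inj] at hb
      exact congrArg Sum.inr (Prod.ext rfl (Subtype.ext (Subtype.ext hb)))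

end Small

namespace Small

variable {C : Frame H} {X : Type w} [MulAction H.SIsom X] [Fintype X] (hS : Small C X)

include hS

open scoped _root_.Classical in
/-- The conclusion of the count. -/
theorem bound {y : X} (hy : C.Good y) : isoCount H.q (C.m + 2) ≤ Nat.card X * (H.q ^ 2 - 1) ∨
    (Even C.m ∧ H.q = 2 ∧ isoCount H.q (C.m + 2) * H.q ^ (2 * C.m + 1) + Nat.card X * isoCount H.q (C.m + 1) ≤
      Nat.card X * isoCount H.q (C.m + 2)) := by
  have : Finite V := Module.finite_of_finite F
  have := Fintype.ofFinite V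
  have hq := H.two_le_q
  have hm := hS.hm
  obtain ⟨u, p, r, hu, hpr, hx⟩ := hS.exists_mixed hy
  have heq := hS.count_eq y
  have hlow := hS.count_low hy hx hu hpr
  set Cv := Nat.card {v : V // v ∈ cen H y ∧ v ≠ 0}
  have hsub : Nat.card {v : V // v ∈ cen H y ∧ v ≠ 0 ∧ ((v ∈ C.U) ∨ H.h v C.b * r = H.h v C.a * p ∨ ¬ (4 ≤ C.m ∨ 3 ≤ H.q))} ≤
      Cv := Nat.card_le_card_of_injective (fun v => ⟨v.1, v.2.1, v.2.2.1⟩) fun a b h => Subtype.ext (congrArg Subtype.val h :)
  have hI2 := isoCount_add_two H.q C.m (by omega) (by omega)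
  have hI1 := isoCount_succ H.q C.m (by omega) (by omega)
  have hI0 := isoCount_add_one H.q C.m (by omega) (by omega)
  have hN : 0 < H.q ^ (2 * C.m + 1) := by positivity
  have hxx := H.uCentres_iso hx
  simp only [H.add_left, H.add_right, H.smul_left, H.smul_right, C.ua, C.ub, C.au, C.bu, C.haa, C.hbb, C.hab,
    C.hba, mul_zero, mul_one, add_zero, zero_add] at hxx
  by_cases huu : H.h (u : V) u = 0
  · left
    have horb : Nat.card {u' : C.U // H.h (u' : V) u' = H.h (u : V) u ∧ u' ≠ 0} = isoCount H.q C.m := by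
      rw [huu]; exact C.card_isoU hS.hpow
    rw [horb] at hlow
    by_cases hcase : 4 ≤ C.m ∨ 3 ≤ H.q
    · set v : V := p • C.a + r • C.b with hv
      have hvv : H.h v v = 0 := by
        rw [huu] at hxx
        simp only [hv, H.add_left, H.add_right, H.smul_left, H.smul_right, C.haa, C.hbb, C.hab, C.hba, mul_zero,
          mul_one, add_zero, zero_add]
        linear_combination hxx
      have hve : H.h v (u : V) = 0 := by simp [hv, H.add_left, H.smul_left, C.au, C.bu]
      have hvmem : v ∈ cen H y := line_mem (hy.iso u huu) hvv hve fun a ha => by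
        obtain ⟨κ, hκ, -, hmem⟩ := hS.orbit_mem hy hx hu (u' := a • u) (smul_ne_zero ha hu) (by
          rw [Submodule.coe_smul, H.smul_left, H.smul_right, huu, mul_zero, mul_zero])
        rw [hκ hcase, add_zero, Submodule.coe_smul, add_assoc, ← hv] at hmem
        exact hmem
      have hv0 : v ≠ 0 := fun h => by
        have h1 := congrArg (fun t => H.h t C.a) h
        have h2 := congrArg (fun t => H.h t C.b) h
        simp [hv, H.add_left, H.smul_left, C.haa, C.hbb, C.hab, C.hba, H.zero_left] at h1 h2
        exact hpr.elim (fun h => h h2) (fun h => h h1)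
      have hextra : (H.q ^ 2 - 1) * (1 + isoCount H.q C.m) + isoCount H.q C.m ≤ Cv := by
        refine le_trans (le_of_eq ?_) (Nat.card_le_card_of_injective
          (Sum.elim (fun s : Fˣ => (⟨(s : F) • v, H.uCentres_smul hvmem _, smul_ne_zero s.ne_zero hv0⟩ :
            {v : V // v ∈ cen H y ∧ v ≠ 0}))
            (fun t : Sum {e : C.U // H.h (e : V) e = 0 ∧ e ≠ 0}
              (Fˣ × {u' : C.U // H.h (u' : V) u' = H.h (u : V) u ∧ u' ≠ 0}) =>
              Sum.elim (fun e => ⟨(e.1 : V), hy.iso _ e.2.1, fun h => e.2.2 (Subtype.ext h)⟩)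
                (fun z => ⟨(z.1 : F) • ((z.2.1 : V) + v), H.uCentres_smul ?_ _, smul_ne_zero z.1.ne_zero ?_⟩) t)) ?_)
        · rw [Nat.card_sum, Nat.card_sum, Nat.card_prod, Nat.card_units, H.card_field, C.card_isoU hS.hpow, horb]
          ring
        · obtain ⟨κ, hκ, -, hmem⟩ := hS.orbit_mem hy hx hu z.2.2.2 z.2.2.1
          rw [hκ hcase, add_zero, add_assoc, ← hv] at hmem
          exact hmem
        · intro h
          have h1 := congrArg (fun t => t - H.h t C.b • C.a - H.h t C.a • C.b) h
          simp [hv, H.add_left, H.smul_left, C.ua, C.ub, C.haa, C.hbb, C.hab, C.hba, H.zero_left] at h1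
          refine z.2.2.2 (Subtype.ext ?_)
          rw [Submodule.coe_zero, ← h1]
          module
        · have hproj : ∀ (s : F) (z : C.U) (s' : F) (z' : C.U),
              (z : V) + s • v = (z' : V) + s' • v → z = z' ∧ s = s' := fun s z s' z' h => by
            have h1 := congrArg (fun t => H.h t C.a) h
            have h2 := congrArg (fun t => H.h t C.b) h
            simp [hv, H.add_left, H.smul_left, C.ua, C.ub, C.haa, C.hbb, C.hab, C.hba] at h1 h2
            have hs : s = s' := by
              rcases hpr with hp | hr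
              · exact h2.resolve_right hp
              · exact h1.resolve_right hr
            subst hs
            exact ⟨Subtype.ext (add_right_cancel h), rfl⟩
          let code : Sum Fˣ (Sum {e : C.U // H.h (e : V) e = 0 ∧ e ≠ 0}
              (Fˣ × {u' : C.U // H.h (u' : V) u' = H.h (u : V) u ∧ u' ≠ 0})) → C.U × F :=
            Sum.elim (fun s => (0, (s : F))) (Sum.elim (fun e => (e.1, 0)) (fun z => ((z.1 : F) • z.2.1, (z.1 : F))))
          have hcode : Function.Injective code := by
            rintro (s | e | ⟨s, z⟩) (s' | e' | ⟨s', z'⟩) h <;> simp only [code, Sum.elim_inl, Sum.elim_inr, Prod.mk.injEq] at h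
            · exact congrArg Sum.inl (Units.ext h.2)
            · exact absurd h.2 s.ne_zero
            · exact absurd h.1.symm (smul_ne_zero s'.ne_zero z'.2.2)
            · exact absurd h.2.symm s'.ne_zero
            · exact congrArg (fun t => Sum.inr (Sum.inl t)) (Subtype.ext h.1)
            · exact absurd h.2.symm s'.ne_zero
            · exact absurd h.1 (smul_ne_zero s.ne_zero z.2.2)
            · exact absurd h.2 s.ne_zero
            · obtain rfl : s = s' := Units.ext h.2
              exact congrArg (fun t => Sum.inr (Sum.inr (s, t))) (Subtype.ext (smul_right_injective C.U s.ne_zero h.1))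
          intro t t' h
          refine hcode ?_
          have h' := congrArg Subtype.val h
          have e : ∀ t, ((Sum.elim (fun s : Fˣ => (s : F) • v) (Sum.elim (fun e : {e : C.U // H.h (e : V) e = 0 ∧ e ≠ 0} => (e.1 : V))
              (fun z : Fˣ × {u' : C.U // H.h (u' : V) u' = H.h (u : V) u ∧ u' ≠ 0} => (z.1 : F) • ((z.2.1 : V) + v)))) t) =
              ((code t).1 : V) + (code t).2 • v := by
            rintro (s | e | ⟨s, z⟩) <;> simp [code]
          have h'' : ((code t).1 : V) + (code t).2 • v = ((code t').1 : V) + (code t').2 • v := by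
            rw [← e, ← e]
            rcases t with s | e | ⟨s, z⟩ <;> rcases t' with s' | e' | ⟨s', z'⟩ <;> exact h'
          obtain ⟨h1, h2⟩ := hproj _ _ _ _ h''
          exact Prod.ext h1 h2
      refine arith_fin hN ?_ heq
      have h4 : 1 ≤ H.q ^ 2 := Nat.one_le_pow _ _ (by omega)
      obtain ⟨t, ht⟩ : ∃ t, H.q ^ 2 = t + 1 := ⟨H.q ^ 2 - 1, by omega⟩
      rw [ht, Nat.add_sub_cancel] at hI2 hextra ⊢
      rw [hI2, mul_add t 1 (H.q ^ _), add_mul t 1 (isoCount _ _), one_mul]
      rw [mul_add, mul_one] at hextra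
      omega
    · have hm3 : C.m = 3 := by omega
      have hq2 : H.q = 2 := by omega
      have h5 : isoCount 2 (3 + 2) = 495 := by decide
      have h3 : isoCount 2 3 = 27 := by decide
      rw [hm3, hq2, h5] at heq ⊢
      rw [hm3, hq2, h3] at hlow
      rw [hm3, hq2] at hsub
      by_contra hlt
      have hd : Nat.card X ≤ 164 := by omega
      have hC : 108 ≤ Cv := by omega
      generalize Nat.card X = d at heq hd
      interval_cases d <;> omega
  · have horb : Nat.card {u' : C.U // H.h (u' : V) u' = H.h (u : V) u ∧ u' ≠ 0} = cardNormOne H.q C.m := by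
      rw [← C.card_normU (H.self_fixed (u : V)) huu]
      exact Nat.card_congr (Equiv.subtypeEquivRight fun u' => ⟨fun h => h.1, fun h => ⟨h, fun h0 => huu (by
        rw [← h, h0, Submodule.coe_zero, H.zero_left])⟩⟩)
    rw [horb, ← hI1] at hlow
    have h4 : 1 ≤ H.q ^ 2 := Nat.one_le_pow _ _ (by omega)
    obtain ⟨t, ht⟩ : ∃ t, H.q ^ 2 = t + 1 := ⟨H.q ^ 2 - 1, by omega⟩
    obtain ⟨s, hs⟩ : ∃ s, H.q = s + 1 := ⟨H.q - 1, by omega⟩
    have hqm : 1 ≤ H.q ^ C.m := Nat.one_le_pow _ _ (by omega)
    by_cases heven : Even C.m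
    · -- the even case
      have hCn : H.q * cardNormOne H.q C.m + H.q ^ C.m = H.q ^ (2 * C.m) := by
        rw [cardNormOne, if_pos heven, ← mul_assoc, ← pow_succ', show C.m - 1 + 1 = C.m by omega,
          ← Nat.mul_succ, Nat.succ_eq_add_one, Nat.sub_add_cancel hqm, ← pow_add, two_mul]
      by_cases hq2 : H.q = 2
      · right
        refine ⟨heven, hq2, ?_⟩
        rw [← heq]
        exact Nat.add_le_add_left (Nat.mul_le_mul_left _ (hlow.trans hsub)) _
      left
      have hcase : 4 ≤ C.m ∨ 3 ≤ H.q := Or.inr (by omega)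
      have hid : isoCount H.q C.m + 1 = cardNormOne H.q C.m + H.q ^ C.m := by
        rw [hs, Nat.add_sub_cancel] at hI0
        rw [hs] at hCn ⊢
        rw [add_mul, one_mul] at hCn
        omega
      by_cases hother : ∃ x ∈ cen H y, x ∉ C.U ∧ H.h x C.b * r ≠ H.h x C.a * p
      · obtain ⟨x, hxm, hxU, hxne⟩ := hother
        have hex : ∃ (u3 : C.U) (p3 r3 : F), u3 ≠ 0 ∧ p3 * r ≠ r3 * p ∧
            (u3 : V) + p3 • C.a + r3 • C.b ∈ cen H y := by
          obtain ⟨u2, p2, r2, hx2⟩ := C.decomp x
          have hc2 : H.h x C.a = r2 ∧ H.h x C.b = p2 := by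
            rw [hx2]; simp [H.add_left, H.smul_left, C.ua, C.ub, C.haa, C.hbb, C.hab, C.hba]
          rw [hc2.1, hc2.2] at hxne
          by_cases hu2 : u2 = 0
          · obtain ⟨hxx2, hK⟩ := hxm
            have hδ : p * H.σ r2 + r * H.σ p2 ≠ 0 := by
              intro h0
              rw [hx2, hu2, Submodule.coe_zero, zero_add] at hxx2
              simp only [H.add_left, H.add_right, H.smul_left, H.smul_right, C.haa, C.hbb, C.hab, C.hba, mul_zero,
                mul_one, add_zero, zero_add] at hxx2
              rcases eq_or_ne r2 0 with hr2 | hr2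
              · rw [hr2] at hxne
                rw [hr2, map_zero, mul_zero, zero_add, mul_eq_zero] at h0
                have hp2 : p2 ≠ 0 := fun h => hxne (by rw [h]; ring)
                exact hxne (by rw [h0.resolve_right ((map_ne_zero _).2 hp2)]; ring)
              · refine hxne (mul_left_cancel₀ ((map_ne_zero _).2 hr2 : H.σ r2 ≠ 0) ?_)
                linear_combination -r2 * h0 + r * hxx2
            obtain ⟨c, hc0, hc⟩ := H.conj.exists_skew
            have hfix : H.sT hxx2 hc • y = y := MulAction.mem_stabilizer_iff.1 (hK c hc)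
            have h1 := cen_map_mem (H.sT hxx2 hc) hx
            rw [hfix, H.sT_apply] at h1
            set t0 := H.h ((u : V) + p • C.a + r • C.b) x
            have ht0 : t0 = p * H.σ r2 + r * H.σ p2 := by
              simp [t0, hx2, hu2, H.add_left, H.add_right, H.smul_left, H.smul_right, C.ua, C.ub, C.haa, C.hbb,
                C.hab, C.hba]
            refine ⟨u, p + c * t0 * p2, r + c * t0 * r2, hu, fun h => ?_, ?_⟩
            · refine hxne (mul_left_cancel₀ (mul_ne_zero hc0 (ht0 ▸ hδ)) ?_)
              linear_combination h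
            · convert h1 using 1
              rw [hx2, hu2, Submodule.coe_zero]
              module
          · refine ⟨u2, p2, r2, hu2, hxne, ?_⟩
            rw [← hx2]; exact hxm
        obtain ⟨u3, p3, r3, hu3, hne3, hx3⟩ := hex
        have hpr3 : p3 ≠ 0 ∨ r3 ≠ 0 := by
          by_contra h
          push Not at h
          exact hne3 (by rw [h.1, h.2, zero_mul, zero_mul])
        have h3 := hS.count_low hy hx3 hu3 hpr3
        have horb3 : H.q ^ C.m ≤ Nat.card {u' : C.U // H.h (u' : V) u' = H.h (u3 : V) u3 ∧ u' ≠ 0} := by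
          by_cases h33 : H.h (u3 : V) u3 = 0
          · rw [h33, C.card_isoU hS.hpow]
            have : 1 ≤ cardNormOne H.q C.m := by
              rw [cardNormOne, if_pos heven]
              refine Nat.mul_pos (by positivity) ?_
              have : H.q ≤ H.q ^ C.m := Nat.le_self_pow (by omega) _
              omega
            omega
          · have h33' : Nat.card {u' : C.U // H.h (u' : V) u' = H.h (u3 : V) u3 ∧ u' ≠ 0} = cardNormOne H.q C.m := by
              rw [← C.card_normU (H.self_fixed (u3 : V)) h33]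
              exact Nat.card_congr (Equiv.subtypeEquivRight fun u' => ⟨fun h => h.1, fun h => ⟨h, fun h0 => h33 (by
                rw [← h, h0, Submodule.coe_zero, H.zero_left])⟩⟩)
            rw [h33']
            have hbig : 3 * H.q ^ C.m ≤ H.q ^ (2 * C.m) := by
              rw [two_mul, pow_add]
              exact Nat.mul_le_mul_right _ ((show 3 ≤ H.q by omega).trans (Nat.le_self_pow (by omega) _))
            refine Nat.le_of_mul_le_mul_left ?_ (show 0 < H.q by omega)
            have hbig2 : H.q * H.q ^ C.m + H.q ^ C.m ≤ H.q ^ (2 * C.m) := by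
              rw [two_mul, pow_add, ← Nat.succ_mul]
              refine Nat.mul_le_mul_right _ ?_
              calc H.q + 1 ≤ H.q * H.q := by nlinarith
                _ = H.q ^ 2 := (sq _).symm
                _ ≤ _ := Nat.pow_le_pow_right (by omega) (by omega)
            omega
        let A := {v : V // v ∈ cen H y ∧ v ≠ 0 ∧ ((v ∈ C.U) ∨ H.h v C.b * r = H.h v C.a * p ∨ ¬ (4 ≤ C.m ∨ 3 ≤ H.q))}
        let B := {v : V // v ∈ cen H y ∧ v ≠ 0 ∧ v ∉ C.U ∧ H.h v C.b * r ≠ H.h v C.a * p}
        have hAB : Nat.card A + Nat.card B ≤ Cv := by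
          rw [← Nat.card_sum]
          refine Nat.card_le_card_of_injective
            (Sum.elim (fun v : A => (⟨v.1, v.2.1, v.2.2.1⟩ : {v : V // v ∈ cen H y ∧ v ≠ 0}))
              (fun v : B => ⟨v.1, v.2.1, v.2.2.1⟩)) ?_
          rintro (a | a) (b | b) h <;> have h' := congrArg Subtype.val h <;> simp only [Sum.elim_inl, Sum.elim_inr] at h'
          · exact congrArg Sum.inl (Subtype.ext h')
          · rcases a.2.2.2 with h1 | h1 | h1
            · exact absurd (h' ▸ h1) b.2.2.2.1
            · exact absurd (h' ▸ h1) b.2.2.2.2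
            · exact absurd hcase h1
          · rcases b.2.2.2 with h1 | h1 | h1
            · exact absurd (h'.symm ▸ h1) a.2.2.2.1
            · exact absurd (h'.symm ▸ h1) a.2.2.2.2
            · exact absurd hcase h1
          · exact congrArg Sum.inr (Subtype.ext h')
        have hA3 : Nat.card {v : V // v ∈ cen H y ∧ v ≠ 0 ∧ ((v ∈ C.U) ∨ H.h v C.b * r3 = H.h v C.a * p3 ∨ ¬ (4 ≤ C.m ∨ 3 ≤ H.q))} ≤
            Nat.card {e : C.U // H.h (e : V) e = 0 ∧ e ≠ 0} + Nat.card B := by
          rw [← Nat.card_sum]
          refine Nat.card_le_card_of_injective (fun v => if h : v.1 ∈ C.U then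
            Sum.inl ⟨⟨v.1, h⟩, H.uCentres_iso v.2.1, fun h0 => v.2.2.1 (congrArg Subtype.val h0)⟩
            else Sum.inr ⟨v.1, v.2.1, v.2.2.1, h, fun he => ?_⟩) ?_
          · have he3 := (v.2.2.2.resolve_left h).resolve_right (not_not.2 hcase)
            have hbc : H.h v.1 C.a ≠ 0 ∨ H.h v.1 C.b ≠ 0 := by
              by_contra h0
              push Not at h0
              exact h (C.mem_U.2 h0)
            rcases hbc with h0 | h0
            · refine hne3 (mul_left_cancel₀ h0 ?_)
              linear_combination r3 * he - r * he3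
            · refine hne3 (mul_left_cancel₀ h0 ?_)
              linear_combination p3 * he - p * he3
          · intro a b h
            by_cases h1 : a.1 ∈ C.U <;> by_cases h2 : b.1 ∈ C.U <;>
              simp only [h1, h2, dite_true, dite_false, Sum.inl.injEq, Sum.inr.injEq, reduceCtorEq] at h
            · exact Subtype.ext (congrArg (fun t => ((t.1 : C.U) : V)) h)
            · exact Subtype.ext (congrArg (fun t : B => t.1) h)
        rw [C.card_isoU hS.hpow] at hA3
        refine arith_fin hN ?_ heq
        have h3' := (Nat.mul_le_mul_left (H.q ^ 2 - 1) horb3)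
        have hlow' : isoCount H.q (C.m + 1) + (H.q ^ 2 - 1) * H.q ^ C.m ≤ Cv := by
          change isoCount H.q (C.m + 1) ≤ Nat.card A at hlow
          omega
        rw [ht, Nat.add_sub_cancel] at hI2 hI1 hlow' ⊢
        have hid' := congrArg (t * ·) hid
        simp only [mul_add, mul_one] at hid' hI2
        rw [add_mul, one_mul] at hI2
        omega
      · push Not at hother
        set w0 : V := H.σ p • C.a - H.σ r • C.b with hw0
        have hwU : ∀ e : C.U, H.h w0 e = 0 := fun e => by simp [hw0, H.sub_left, H.smul_left, C.au, C.bu]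
        have horth : ∀ x ∈ cen H y, H.h w0 x = 0 := by
          intro x hxm
          by_cases hxU : x ∈ C.U
          · exact hwU ⟨x, hxU⟩
          obtain ⟨u2, p2, r2, rfl⟩ := C.decomp x
          have h2 := hother _ hxm hxU
          simp only [H.add_left, H.smul_left, C.ua, C.ub, C.haa, C.hbb, C.hab, C.hba, mul_zero, mul_one, zero_add,
            add_zero] at h2
          simp [hw0, H.sub_left, H.add_right, H.smul_left, H.smul_right, C.au, C.bu, C.haa, C.hbb, C.hab, C.hba]
          have h3 := congrArg H.σ h2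
          rw [map_mul, map_mul] at h3
          linear_combination -h3
        have hw00 : H.h w0 w0 = H.h (u : V) u := by
          simp only [hw0, H.sub_left, H.sub_right, H.smul_left, H.smul_right, C.haa, C.hbb, C.hab, C.hba, mul_zero,
            mul_one, zero_sub, sub_zero, H.conj.invol]
          linear_combination -hxx
        have hw0n : H.h w0 w0 ≠ 0 := by rw [hw00]; exact huu
        obtain ⟨b, hb⟩ := H.conj.norm_surjective (a := (H.h w0 w0)⁻¹) (by rw [map_inv₀, H.self_fixed])
        set w : V := b • w0 with hwdef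
        have hw1 : H.h w w = 1 := by
          rw [hwdef, H.smul_left, H.smul_right, ← mul_assoc, hb, inv_mul_cancel₀ hw0n]
        have hworth : ∀ x ∈ cen H y, H.h w x = 0 := fun x hx' => by rw [hwdef, H.smul_left, horth x hx', mul_zero]
        have hline : ∀ z : V, (∀ x ∈ cen H y, H.h z x = 0) → ∃ c : F, c • w = z := by
          intro z hz
          have hW : C.U ≤ H.orth (Submodule.span F ({z} : Set V)) := hS.span_iso_le hy fun e he => by
            rw [H.mem_orth_span]
            rintro _ rfl
            exact H.eq_zero_symm (hz _ (hy.iso e he))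
          have hzU : ∀ e : C.U, H.h z (e : V) = 0 := fun e => H.eq_zero_symm (hW e.2 z (Submodule.mem_span_singleton_self z))
          obtain ⟨u2, p2, r2, rfl⟩ := C.decomp z
          have hu2 : u2 = 0 := C.HU.nondeg u2 fun e => by
            have h1 := hzU e
            simp [H.add_left, H.smul_left, C.au, C.bu] at h1
            exact C.HU.eq_zero_symm h1
          have h1 := hz _ hx
          simp [hu2, H.add_left, H.add_right, H.smul_left, H.smul_right, C.au, C.bu, C.ua, C.ub, C.haa, C.hbb, C.hab,
            C.hba, H.zero_left] at h1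
          have hb0 : b ≠ 0 := fun h => by rw [hwdef, h, zero_smul, H.zero_left] at hw1; exact zero_ne_one hw1
          have hkey : p2 * H.σ r + r2 * H.σ p = 0 := h1
          rcases eq_or_ne (H.σ p) 0 with hp | hp
          · have hr : H.σ r ≠ 0 := fun h => hw0n (by rw [hw0, hp, h]; simp [H.zero_left])
            rw [hp, mul_zero, add_zero, mul_eq_zero] at hkey
            refine ⟨-r2 / (b * H.σ r), ?_⟩
            rw [hwdef, hw0, hu2, hkey.resolve_right hr, hp, Submodule.coe_zero]
            simp only [zero_smul, zero_sub, zero_add, smul_neg, smul_smul, add_zero]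
            rw [← neg_smul]
            congr 1
            field_simp
          · refine ⟨p2 / (b * H.σ p), ?_⟩
            rw [hwdef, hw0, hu2, Submodule.coe_zero, zero_add, smul_sub, smul_sub, smul_smul, smul_smul, smul_smul,
              smul_smul, sub_eq_add_neg, ← neg_smul]
            congr 2
            · field_simp
            · field_simp
              linear_combination -hkey
        have hmove : ∀ z : {z : V // H.h z z = 1}, ∃ g : H.SIsom, g.1.1 w = z.1 := by
          intro z
          have hw0' : w ≠ 0 := fun h => by rw [h, H.zero_left] at hw1; exact zero_ne_one hw1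
          have hz0 : z.1 ≠ 0 := fun h => by
            have h1 := z.2
            rw [h, H.zero_left] at h1
            exact zero_ne_one h1
          obtain ⟨k, hk⟩ := H.exists_isom_same_norm hw0' hz0 (z.2.trans hw1.symm)
          obtain ⟨o, ho, hoz⟩ := H.exists_anisotropic_orth_singleton (by rw [C.hdim]; omega) z.1
          obtain ⟨ζ, hζ⟩ := H.exists_SIsom_correct k ho
          refine ⟨⟨_, hζ⟩, ?_⟩
          show (H.qrefl ho ζ * k).1 w = z.1
          rw [H.mul_apply', hk, H.qrefl_orth ho ζ (H.eq_zero_symm hoz)]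
        choose g hg using hmove
        have hfib : ∀ z z' : {z : V // H.h z z = 1}, g z • y = g z' • y → ∃ c : F, c * H.σ c = 1 ∧ z'.1 = c • z.1 := by
          intro z z' h
          have hfix : ((g z)⁻¹ * g z') • y = y := by rw [mul_smul, ← h, inv_smul_smul]
          obtain ⟨c, hc⟩ := hline (((g z)⁻¹ * g z').1.1 w) fun x hxm => by
            have hfix' : ((g z)⁻¹ * g z')⁻¹ • y = y := by rw [inv_smul_eq_iff, hfix]
            have h1 := cen_map_mem ((g z)⁻¹ * g z')⁻¹ hxm
            rw [hfix'] at h1
            have h2 := hworth _ h1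
            rw [← H.map_form ((g z)⁻¹ * g z').1] at h2
            rwa [show ((g z)⁻¹ * g z').1.1 ((((g z)⁻¹ * g z')⁻¹).1.1 x) = x from H.apply_inv_self _ x] at h2
          have hz' : z'.1 = c • z.1 := by
            have h1 := congrArg (g z).1.1 hc
            rw [map_smul, hg, H.smul_mul_apply, show (g z).1.1 ((g z)⁻¹.1.1 ((g z').1.1 w)) = (g z').1.1 w from
              H.apply_inv_self _ _, hg] at h1
            exact h1.symm
          refine ⟨c, ?_, hz'⟩
          have h1 := z'.2
          rw [hz', H.smul_left, H.smul_right, z.2, mul_one] at h1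
          exact h1
        have := Fintype.ofFinite {z : V // H.h z z = 1}
        have hcount := Finset.card_le_mul_card_image (s := (Finset.univ : Finset {z : V // H.h z z = 1}))
          (f := fun z => g z • y) (H.q + 1) fun b hb => by
            obtain ⟨z, -, rfl⟩ := Finset.mem_image.1 hb
            rw [show H.q + 1 = Nat.card {c : F // c * H.σ c = 1} from (H.conj.card_norm_fiber (map_one _) one_ne_zero).symm,
              ← Fintype.card_coe, ← Nat.card_eq_fintype_card]
            choose c hc1 hc using fun z' : {z' // z' ∈ (Finset.univ : Finset {z : V // H.h z z = 1}).filter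
              (fun z' => g z' • y = g z • y)} => hfib z z'.1 (Finset.mem_filter.1 z'.2).2.symm
            exact Nat.card_le_card_of_injective (fun z' => (⟨c z', hc1 z'⟩ : {c : F // c * H.σ c = 1}))
              fun a b h => Subtype.ext (Subtype.ext (by rw [hc a, hc b, show c a = c b from congrArg Subtype.val h]))
        rw [Finset.card_univ, ← Nat.card_eq_fintype_card, H.card_normOne, C.hdim] at hcount
        have hd' : cardNormOne H.q (C.m + 2) ≤ (H.q + 1) * Nat.card X := hcount.trans
          (Nat.mul_le_mul_left _ ((Finset.card_le_univ _).trans (le_of_eq Nat.card_eq_fintype_card.symm)))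
        have hev2 : Even (C.m + 2) := by simpa [Nat.even_add] using heven
        rw [cardNormOne, if_pos hev2] at hd'
        rw [isoCount, if_pos hev2]
        obtain ⟨A, hA⟩ : ∃ A, H.q ^ (C.m + 2 - 1) = A + 1 := ⟨_, (Nat.sub_add_cancel (Nat.one_le_pow _ _ (by omega))).symm⟩
        rw [hA] at hd' ⊢
        generalize H.q ^ (C.m + 2) - 1 = B at hd' ⊢
        have h2 := Nat.mul_le_mul_right (H.q - 1) hd'
        have hq21 : (H.q + 1) * (H.q - 1) = H.q ^ 2 - 1 := by
          rw [hs, Nat.add_sub_cancel, show (s + 1) ^ 2 = (s + 1 + 1) * s + 1 by ring, Nat.add_sub_cancel]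
        rw [show (H.q + 1) * Nat.card X * (H.q - 1) = Nat.card X * ((H.q + 1) * (H.q - 1)) by ring, hq21] at h2
        refine le_trans ?_ h2
        rw [hs, Nat.add_sub_cancel, show (A + 1) * B * s = B * ((A + 1) * s) by ring]
        refine Nat.mul_le_mul_left _ ?_
        calc A + 1 + 1 ≤ (A + 1) * 2 := by omega
          _ ≤ _ := Nat.mul_le_mul_left _ (by omega)
    · left
      refine arith_fin hN ?_ heq
      have hCn : H.q * cardNormOne H.q C.m = H.q ^ (2 * C.m) + H.q ^ C.m := by
        rw [cardNormOne, if_neg heven, ← mul_assoc, ← pow_succ', show C.m - 1 + 1 = C.m by omega,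
          mul_add, mul_one, ← pow_add, two_mul]
      have hid : isoCount H.q C.m + 1 + H.q ^ C.m = cardNormOne H.q C.m := by
        rw [hs, Nat.add_sub_cancel] at hI0
        rw [hs] at hCn ⊢
        rw [add_mul, one_mul] at hCn
        omega
      have hlow2 := hlow.trans hsub
      rw [ht, Nat.add_sub_cancel] at hI1 hI2 ⊢
      have hid' := congrArg (t * ·) hid
      simp only [mul_add, mul_one] at hid' hI2
      rw [add_mul, one_mul] at hI2
      omega

end Small

end Cfsg.Lib.Known.MinIndexSU
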