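import Cfsg.Agent.Known.MinIndexSU.Levi

/-!
The images of the invariants of an orbit of the radical, and the orbits they give.
-/

set_option autoImplicit false
set_option linter.unusedSectionVars false
set_option linter.unusedSimpArgs false
set_option linter.style.haveILetI false

namespace Cfsg.Lib.Known.MinIndexSU

open Cfsg.Lib.Classical

universe u v w

variable {F : Type u} [Field F] [Finite F] {V : Type v} [AddCommGroup V] [Module F V] [FiniteDimensional F V]
  {H : HermSpace F V}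

namespace Frame

variable (C : Frame H)

instance finite_G2 : Finite C.G2 :=
  have := finite_sisom' (H := H)
  Subtype.finite

instance finite_U' : Finite C.U := C.finite_U

/-- The elements whose factor has norm one. -/
noncomputable def G1 : Subgroup C.G2 where
  carrier := {g | C.lam g * H.σ (C.lam g) = 1}
  one_mem' := by
    show C.lam 1 * H.σ (C.lam 1) = 1
    rw [lam, show ((1 : C.G2).1.1.1 : V ≃ₗ[F] V) C.a = C.a from rfl, C.hab, map_one, one_mul]
  mul_mem' {g g'} hg hg' := by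
    show C.lam (g * g') * H.σ (C.lam (g * g')) = 1
    rw [C.lam_mul, map_mul, mul_mul_mul_comm, show C.lam g * H.σ (C.lam g) = 1 from hg,
      show C.lam g' * H.σ (C.lam g') = 1 from hg', one_mul]
  inv_mem' {g} hg := by
    show C.lam g⁻¹ * H.σ (C.lam g⁻¹) = 1
    have h1 : C.lam (g * g⁻¹) = 1 := by rw [mul_inv_cancel, lam]; exact C.hab
    rw [C.lam_mul] at h1
    have h2 : C.lam g * C.lam g⁻¹ * H.σ (C.lam g * C.lam g⁻¹) = 1 := by rw [h1, map_one, one_mul]
    rw [map_mul, mul_mul_mul_comm, show C.lam g * H.σ (C.lam g) = 1 from hg, one_mul] at h2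
    exact h2

theorem lam_one : C.lam 1 = 1 := C.hab

theorem tau_one (u : C.U) : C.tau 1 u = u := Subtype.ext (by rw [C.tau_coe, C.lam_one, map_one, one_smul]; rfl)

theorem ext_G1 (k : C.HU.SIsom) : C.ext k ∈ C.G1 := by
  show C.lam (C.ext k) * H.σ (C.lam (C.ext k)) = 1
  rw [C.lam_ext, map_one, one_mul]

/-- The images of a subgroup of the orthogonal space. -/
noncomputable def imgs (P : Subgroup C.G2) (K : AddSubgroup C.U) : Finset (AddSubgroup C.U) :=
  letI := Fintype.ofFinite P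
  letI := Classical.decEq (AddSubgroup C.U)
  Finset.univ.image fun g : P => K.map (C.tau g.1)

variable {P : Subgroup C.G2}

theorem mem_imgs {K K' : AddSubgroup C.U} : K' ∈ C.imgs P K ↔ ∃ g ∈ P, K.map (C.tau g) = K' := by
  classical
  simp [imgs]

theorem mem_map_tau {K : AddSubgroup C.U} {g : C.G2} {u : C.U} : C.tau g u ∈ K.map (C.tau g) ↔ u ∈ K :=
  AddSubgroup.mem_map_iff_mem (C.tau_inj g)

theorem map_tau_mul (K : AddSubgroup C.U) (g h : C.G2) :
    (K.map (C.tau h)).map (C.tau g) = K.map (C.tau (g * h)) := by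
  ext u
  constructor
  · rintro ⟨v, ⟨w, hw, rfl⟩, rfl⟩; exact ⟨w, hw, C.tau_mul g h w⟩
  · rintro ⟨w, hw, rfl⟩; exact ⟨_, ⟨w, hw, rfl⟩, (C.tau_mul g h w).symm⟩

theorem map_tau_one (K : AddSubgroup C.U) : K.map (C.tau 1) = K := by
  ext u
  exact ⟨fun ⟨v, hv, e⟩ => by rwa [← e, C.tau_one], fun hu => ⟨u, hu, C.tau_one u⟩⟩

theorem self_imgs (K : AddSubgroup C.U) : K ∈ C.imgs P K := C.mem_imgs.2 ⟨1, P.one_mem, C.map_tau_one K⟩

theorem imgs_closed {K K' : AddSubgroup C.U} {g : C.G2} (hg : g ∈ P) (h : K' ∈ C.imgs P K) :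
    K'.map (C.tau g) ∈ C.imgs P K := by
  obtain ⟨k, hk, rfl⟩ := C.mem_imgs.1 h
  exact C.mem_imgs.2 ⟨g * k, P.mul_mem hg hk, (C.map_tau_mul K g k).symm⟩

theorem card_img {K K' : AddSubgroup C.U} (h : K' ∈ C.imgs P K) : Nat.card K' = Nat.card K := by
  obtain ⟨g, -, rfl⟩ := C.mem_imgs.1 h
  exact (Nat.card_congr (K.equivMapOfInjective _ (C.tau_inj g)).toEquiv).symm

theorem imgs_mono {P P' : Subgroup C.G2} (h : P ≤ P') (K : AddSubgroup C.U) :
    (C.imgs P K).card ≤ (C.imgs P' K).card :=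
  Finset.card_le_card fun _ hK => by
    obtain ⟨g, hg, e⟩ := C.mem_imgs.1 hK
    exact C.mem_imgs.2 ⟨g, h hg, e⟩

open scoped _root_.Classical in
/-- Vectors lying in several members. -/
theorem cover {K : AddSubgroup C.U} (p : C.U → Prop) (hp : ¬ p 0) (r : ℕ)
    (h : ∀ v, p v → r ≤ ((C.imgs P K).filter (v ∈ ·)).card) :
    r * Nat.card {v // p v} + (C.imgs P K).card ≤ (C.imgs P K).card * Nat.card K := by
  have := Fintype.ofFinite C.U
  set S := C.imgs P K
  rw [show S.card * Nat.card K = ∑ M ∈ S, Nat.card M by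
    rw [Finset.sum_congr rfl fun M hM => C.card_img hM, Finset.sum_const, smul_eq_mul]]
  have e : ∀ M : AddSubgroup C.U, Nat.card M = ∑ v : C.U, if v ∈ M then 1 else 0 := fun M => by
    rw [Nat.card_eq_fintype_card, Fintype.card_subtype, Finset.card_filter]
  simp only [e, Finset.sum_comm (s := S)]
  simp only [← Finset.card_filter]
  rw [Nat.card_eq_fintype_card, Fintype.card_subtype]
  have h0 : (S.filter ((0 : C.U) ∈ ·)).card = S.card := by
    rw [Finset.filter_true_of_mem fun M _ => M.zero_mem]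
  calc r * (Finset.univ.filter p).card + S.card
      ≤ ∑ v ∈ Finset.univ.filter p, (S.filter (v ∈ ·)).card + (S.filter ((0 : C.U) ∈ ·)).card := by
        rw [h0, mul_comm, ← smul_eq_mul]
        exact Nat.add_le_add_right (Finset.card_nsmul_le_sum _ _ _ fun v hv => h v (Finset.mem_filter.1 hv).2) _
    _ = ∑ v ∈ insert 0 (Finset.univ.filter p), (S.filter (v ∈ ·)).card := by
        rw [Finset.sum_insert (fun h => hp (Finset.mem_filter.1 h).2), add_comm]
    _ ≤ _ := Finset.sum_le_sum_of_subset (Finset.subset_univ _)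

open scoped _root_.Classical in
theorem cover_one {K : AddSubgroup C.U} (p : C.U → Prop) (hp : ¬ p 0)
    (h : ∀ v, p v → ∃ M ∈ C.imgs P K, v ∈ M) :
    Nat.card {v // p v} + (C.imgs P K).card ≤ (C.imgs P K).card * Nat.card K := by
  have := C.cover p hp 1 fun v hv => by
    obtain ⟨M, hM, hvM⟩ := h v hv
    exact Finset.card_pos.2 ⟨M, Finset.mem_filter.2 ⟨hM, hvM⟩⟩
  rwa [one_mul] at this

/-- The norm of the factor as a map of the skew elements. -/
noncomputable def nrmHom (g : C.G2) : skew H →+ skew H where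
  toFun := C.nrm g
  map_zero' := Subtype.ext (by simp [nrm])
  map_add' c d := Subtype.ext (by simp [nrm, mul_add])

/-- The images of a subgroup of the skew elements. -/
noncomputable def zimgs (Z : AddSubgroup (skew H)) : Finset (AddSubgroup (skew H)) :=
  letI := Fintype.ofFinite C.G2
  letI := Classical.decEq (AddSubgroup (skew H))
  Finset.univ.image fun g : C.G2 => Z.map (C.nrmHom g)

theorem mem_zimgs {Z Z' : AddSubgroup (skew H)} : Z' ∈ C.zimgs Z ↔ ∃ g : C.G2, Z.map (C.nrmHom g) = Z' := by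
  classical
  simp [zimgs]

theorem mem_map_nrm {Z : AddSubgroup (skew H)} {g : C.G2} {c : skew H} :
    C.nrm g c ∈ Z.map (C.nrmHom g) ↔ c ∈ Z :=
  AddSubgroup.mem_map_iff_mem (f := C.nrmHom g) (C.nrm_inv g).1

theorem two_card_le {Z : AddSubgroup (skew H)} (hZ : Z ≠ ⊤) : 2 * Nat.card Z ≤ H.q := by
  rw [← card_skew (H := H), ← Z.index_mul_card]
  refine Nat.mul_le_mul_right _ ?_
  have h0 : Z.index ≠ 0 := AddSubgroup.index_ne_zero_of_finite
  have h1 : Z.index ≠ 1 := fun h => hZ (AddSubgroup.index_eq_one.1 h)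
  omega

open scoped _root_.Classical in
theorem zimgs_ge {Z : AddSubgroup (skew H)} (hZ : Z ≠ ⊤) :
    (H.q - 1) * Nat.card Z ≤ (C.zimgs Z).card * (H.q - Nat.card Z) := by
  have := Fintype.ofFinite F
  obtain ⟨w, hw⟩ : ∃ w, w ∉ Z := by
    by_contra h
    push Not at h
    exact hZ (eq_top_iff.2 fun w _ => h w)
  let sm : fixedField H.σ → skew H → skew H := fun μ c => ⟨(μ : F) * c, by
    rw [mem_skew, map_mul, mem_fixedField.1 μ.2, ← mul_add, skew_add, mul_zero]⟩
  let mh : fixedField H.σ → (skew H →+ skew H) := fun μ =>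
    { toFun := sm μ
      map_zero' := Subtype.ext (mul_zero _)
      map_add' := fun c d => Subtype.ext (mul_add _ _ _) }
  have hinj : ∀ {μ : fixedField H.σ}, μ ≠ 0 → Function.Injective (sm μ) := fun {μ} hμ c d e =>
    Subtype.ext (mul_left_cancel₀ (fun h => hμ (Subtype.ext h)) (congrArg Subtype.val e))
  let img : fixedField H.σ → AddSubgroup (skew H) := fun μ => Z.map (mh μ)
  let M : Finset (fixedField H.σ) := Finset.univ.erase 0
  have hsub : M.image img ⊆ C.zimgs Z := fun Z' hZ' => by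
    obtain ⟨μ, hμ, rfl⟩ := Finset.mem_image.1 hZ'
    obtain ⟨g, hg⟩ := C.exists_norm (mem_fixedField.1 μ.2) fun h => Finset.ne_of_mem_erase hμ (Subtype.ext h)
    exact C.mem_zimgs.2 ⟨g, congrArg (fun f => Z.map f) (AddMonoidHom.ext fun c => Subtype.ext (by
      show C.lam g * H.σ (C.lam g) * (c : F) = (μ : F) * c
      rw [hg]))⟩
  have hmem : ∀ {μ : fixedField H.σ} {t : skew H}, μ ≠ 0 → (sm μ t ∈ img μ ↔ t ∈ Z) := fun {μ t} hμ =>
    AddSubgroup.mem_map_iff_mem (f := mh μ) (hinj hμ)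
  have hfib : ∀ P ∈ M.image img, ((M.filter fun μ => img μ = P).card + 1) * Nat.card Z ≤ H.q := by
    intro P hP
    obtain ⟨m0, hm0, rfl⟩ := Finset.mem_image.1 hP
    have hm00 := Finset.ne_of_mem_erase hm0
    rw [← card_skew (H := H), ← Z.index_mul_card]
    refine Nat.mul_le_mul_right _ ?_
    rw [AddSubgroup.index, ← Finset.card_insert_of_notMem (a := (0 : fixedField H.σ)) (fun h =>
      Finset.ne_of_mem_erase (Finset.mem_filter.1 h).1 rfl), ← Fintype.card_coe, ← Nat.card_eq_fintype_card]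
    let S := insert (0 : fixedField H.σ) (M.filter fun μ => img μ = img m0)
    have hS : ∀ μ ∈ S, ∀ t ∈ Z, sm (μ * m0⁻¹) t ∈ Z := fun μ hμ t ht => by
      rcases Finset.mem_insert.1 hμ with rfl | hμ
      · rw [show sm (0 * m0⁻¹) t = 0 from Subtype.ext (by simp [sm])]; exact zero_mem _
      · obtain ⟨hμ, he⟩ := Finset.mem_filter.1 hμ
        have h1 : sm μ t ∈ img m0 := he ▸ (hmem (Finset.ne_of_mem_erase hμ)).2 ht
        obtain ⟨t', ht', e⟩ := h1
        rwa [show sm (μ * m0⁻¹) t = t' from Subtype.ext (by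
          have e' : (m0 : F) * t' = (μ : F) * t := congrArg Subtype.val e
          show ((μ * m0⁻¹ : fixedField H.σ) : F) * t = t'
          have : (m0 : F) ≠ 0 := fun h => hm00 (Subtype.ext h)
          push_cast
          field_simp
          linear_combination -e')]
    refine Nat.card_le_card_of_injective (fun μ : S => (QuotientAddGroup.mk (sm (μ.1 * m0⁻¹) w) : skew H ⧸ Z))
      fun μ μ' e => Subtype.ext ?_
    by_contra hne
    have hd0 : (μ.1 - μ'.1) * m0⁻¹ ≠ 0 := mul_ne_zero (sub_ne_zero.2 hne) (inv_ne_zero hm00)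
    have hsub' : ∀ t : skew H, sm ((μ.1 - μ'.1) * m0⁻¹) t = sm (μ.1 * m0⁻¹) t - sm (μ'.1 * m0⁻¹) t := fun t =>
      Subtype.ext (by
        show (((μ.1 - μ'.1) * m0⁻¹ : fixedField H.σ) : F) * t =
          ((μ.1 * m0⁻¹ : fixedField H.σ) : F) * t - ((μ'.1 * m0⁻¹ : fixedField H.σ) : F) * t
        push_cast
        ring)
    have hmaps : ∀ t : Z, sm ((μ.1 - μ'.1) * m0⁻¹) t ∈ Z := fun t => by
      rw [hsub']
      exact Z.sub_mem (hS _ μ.2 _ t.2) (hS _ μ'.2 _ t.2)
    have hsurj : Function.Surjective (fun t : Z => (⟨_, hmaps t⟩ : Z)) :=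
      Finite.injective_iff_surjective.1 fun a b h => Subtype.ext (hinj hd0 (congrArg Subtype.val h))
    have hdiff : sm ((μ.1 - μ'.1) * m0⁻¹) w ∈ Z := by
      rw [hsub']
      exact (QuotientAddGroup.eq_iff_sub_mem).1 e
    obtain ⟨t, ht⟩ := hsurj ⟨_, hdiff⟩
    exact hw (hinj hd0 (congrArg Subtype.val ht) ▸ t.2)
  have hcM : M.card = H.q - 1 := by
    rw [Finset.card_erase_of_mem (Finset.mem_univ _), Finset.card_univ, ← Nat.card_eq_fintype_card]
    rfl
  have h1 : (H.q - 1) * Nat.card Z + (M.image img).card * Nat.card Z ≤ (M.image img).card * H.q := by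
    rw [← hcM, Finset.card_eq_sum_card_image img M, ← add_mul]
    calc ((∑ P ∈ M.image img, (M.filter fun μ => img μ = P).card) + (M.image img).card) * Nat.card Z
        = ∑ P ∈ M.image img, ((M.filter fun μ => img μ = P).card + 1) * Nat.card Z := by
          rw [← Finset.sum_mul, Finset.sum_add_distrib, Finset.sum_const, smul_eq_mul, mul_one]
      _ ≤ _ := (Finset.sum_le_card_nsmul _ _ _ hfib).trans (le_of_eq (smul_eq_mul _ _))
  have h2 := Finset.card_le_card hsub
  have h3 : (M.image img).card * (H.q - Nat.card Z) ≤ (C.zimgs Z).card * (H.q - Nat.card Z) :=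
    Nat.mul_le_mul_right _ h2
  have h4 : (M.image img).card * (H.q - Nat.card Z) = (M.image img).card * H.q - (M.image img).card * Nat.card Z :=
    Nat.mul_sub _ _ _
  omega

section Action

variable {X : Type w} [MulAction H.SIsom X] [Fintype X]

theorem Z1_img (g : C.G2) (x : X) : Z1 C (g.1 • x) = (Z1 C x).map (C.nrmHom g) := by
  ext c
  obtain ⟨c, rfl⟩ := (C.nrm_inv g).2 c
  exact (C.Z1_G2 g x).trans C.mem_map_nrm.symm

theorem orb_pos (x : X) : 0 < Nat.card (C.orb x) := by
  have : Nonempty (C.orb x) := ⟨⟨x, C.self_orb x⟩⟩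
  exact Nat.card_pos

theorem orb_card_G2 (g : C.G2) (x : X) : Nat.card (C.orb (g.1 • x)) = Nat.card (C.orb x) := by
  have h1 := C.orb_card (g.1 • x)
  rw [C.Z1_img, C.Kb_G2, ← Nat.card_congr ((Z1 C x).equivMapOfInjective _ (C.nrm_inv g).1).toEquiv,
    ← Nat.card_congr ((C.Kb x).equivMapOfInjective _ (C.tau_inj g)).toEquiv, ← C.orb_card x] at h1
  exact Nat.eq_of_mul_eq_mul_right (Nat.mul_pos Nat.card_pos Nat.card_pos) h1

/-- Points with distinct invariants lie in distinct orbits. -/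
theorem keys_le {ι : Type*} [Fintype ι] (f : ι → X) (x : X) (hf : ∀ i, Nat.card (C.orb (f i)) = Nat.card (C.orb x))
    (hinj : Function.Injective fun i => (Z1 C (f i), C.Kb (f i))) :
    Fintype.card ι * Nat.card (C.orb x) ≤ Nat.card X := by
  classical
  have hfi : Function.Injective f := fun i j e => hinj (by simp only [e])
  have h := C.sum_le (Finset.univ.image f) fun a ha b hb hab => by
    obtain ⟨i, -, rfl⟩ := Finset.mem_image.1 ha
    obtain ⟨j, -, rfl⟩ := Finset.mem_image.1 hb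
    exact congrArg f (hinj (Prod.ext (C.inv_orb hab).1.symm (C.inv_orb hab).2.symm))
  rwa [Finset.sum_image fun a _ b _ e => hfi e, Finset.sum_congr rfl fun i _ => hf i, Finset.sum_const,
    Finset.card_univ, smul_eq_mul] at h

theorem imgs_le (x : X) : (C.imgs ⊤ (C.Kb x)).card * Nat.card (C.orb x) ≤ Nat.card X := by
  classical
  choose g _ hg using fun K : C.imgs ⊤ (C.Kb x) => C.mem_imgs.1 K.2
  have h := C.keys_le (fun K => (g K).1 • x) x (fun K => C.orb_card_G2 _ x) fun K K' e => by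
    simp only [Prod.mk.injEq, C.Kb_G2, hg] at e
    exact Subtype.ext e.2
  rwa [Fintype.card_coe] at h

theorem pairs_le (x : X) :
    (C.zimgs (Z1 C x)).card * (C.imgs C.G1 (C.Kb x)).card * Nat.card (C.orb x) ≤ Nat.card X := by
  classical
  choose g hg using fun Z : C.zimgs (Z1 C x) => C.mem_zimgs.1 Z.2
  choose k hk1 hk using fun K : C.imgs C.G1 (C.Kb x) => C.mem_imgs.1 K.2
  have hZ : ∀ K, Z1 C ((k K).1 • x) = Z1 C x := fun K => by
    rw [C.Z1_img, show C.nrmHom (k K) = AddMonoidHom.id _ from AddMonoidHom.ext fun c => Subtype.ext (by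
      show C.lam (k K) * H.σ (C.lam (k K)) * (c : F) = c
      rw [show C.lam (k K) * H.σ (C.lam (k K)) = 1 from hk1 K, one_mul]), AddSubgroup.map_id]
  have h := C.keys_le (fun p : C.zimgs (Z1 C x) × C.imgs C.G1 (C.Kb x) => (g p.1).1 • (k p.2).1 • x) x
    (fun p => (C.orb_card_G2 _ _).trans (C.orb_card_G2 _ x)) fun p p' e => by
      rw [Prod.mk.injEq, C.Z1_img (g p.1), C.Z1_img (g p'.1), hZ, hZ, hg, hg] at e
      simp only [C.Kb_G2, hk] at e
      have e1 : p.1 = p'.1 := Subtype.ext e.1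
      refine Prod.ext e1 ?_
      have h2 := e.2
      rw [e1] at h2
      exact Subtype.ext (AddSubgroup.map_injective (C.tau_inj _) h2)
  rwa [Fintype.card_prod, Fintype.card_coe, Fintype.card_coe] at h

theorem key_full (x : X) :
    (C.imgs ⊤ (C.Kb x)).card * (H.q * Nat.card C.U) ≤
      Nat.card X * (Nat.card (Z1 C x) * Nat.card (C.Kb x)) := by
  rw [← C.orb_card x, ← mul_assoc]
  exact Nat.mul_le_mul_right _ (C.imgs_le x)

theorem key_pairs {x : X} (hZ : Z1 C x ≠ ⊤) :
    (H.q - 1) * (C.imgs C.G1 (C.Kb x)).card * (H.q * Nat.card C.U) ≤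
      Nat.card X * Nat.card (C.Kb x) * (H.q - Nat.card (Z1 C x)) := by
  refine Nat.le_of_mul_le_mul_left ?_ (Nat.card_pos (α := Z1 C x))
  have h1 := C.zimgs_ge hZ
  have h2 := C.pairs_le x
  calc Nat.card (Z1 C x) * ((H.q - 1) * (C.imgs C.G1 (C.Kb x)).card * (H.q * Nat.card C.U))
      = (H.q - 1) * Nat.card (Z1 C x) * ((C.imgs C.G1 (C.Kb x)).card * (H.q * Nat.card C.U)) := by ring
    _ ≤ (C.zimgs (Z1 C x)).card * (H.q - Nat.card (Z1 C x)) *
        ((C.imgs C.G1 (C.Kb x)).card * (H.q * Nat.card C.U)) := Nat.mul_le_mul_right _ h1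
    _ = (C.zimgs (Z1 C x)).card * (C.imgs C.G1 (C.Kb x)).card * Nat.card (C.orb x) *
        (Nat.card (Z1 C x) * Nat.card (C.Kb x) * (H.q - Nat.card (Z1 C x))) := by
          rw [← C.orb_card x]; ring
    _ ≤ Nat.card X * (Nat.card (Z1 C x) * Nat.card (C.Kb x) * (H.q - Nat.card (Z1 C x))) :=
        Nat.mul_le_mul_right _ h2
    _ = _ := by ring

end Action

end Frame

end Cfsg.Lib.Known.MinIndexSU
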