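import Cfsg.Agent.Known.MinIndexSU.Two

/-!
Over four elements and in even dimension the lines of norm one are the smallest orbit.
-/

set_option autoImplicit false
set_option linter.unusedSectionVars false
set_option linter.unusedSimpArgs false
set_option linter.style.haveILetI false

namespace Cfsg.Lib.Known.MinIndexSU

open Cfsg.Lib.Classical Cfsg.Lib.Classical.UIso

universe u v

variable {F : Type u} [Field F] [Finite F] {V : Type v} [AddCommGroup V] [Module F V] [FiniteDimensional F V]
  {H : HermSpace F V}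

/-- Lines of vectors of norm one. -/
def NormLine (H : HermSpace F V) : Type v :=
  {L : Submodule F V // ∃ w, H.h w w = 1 ∧ L = Submodule.span F {w}}

theorem map_span_normLine (g : H.SIsom) (w : V) :
    (Submodule.span F {w}).map g.1.1.toLinearMap = Submodule.span F {g.1.1 w} := by
  rw [Submodule.map_span, Set.image_singleton]
  rfl

noncomputable instance : MulAction H.SIsom (NormLine H) where
  smul g L := ⟨L.1.map g.1.1.toLinearMap, by
    obtain ⟨w, hw, h⟩ := L.2
    exact ⟨g.1.1 w, by rw [H.map_form, hw], by rw [h, map_span_normLine]⟩⟩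
  one_smul L := Subtype.ext (Submodule.map_id L.1)
  mul_smul g g' L := Subtype.ext (Submodule.map_comp g'.1.1.toLinearMap g.1.1.toLinearMap L.1)

theorem smul_normLine (g : H.SIsom) (L : NormLine H) : (g • L).1 = L.1.map g.1.1.toLinearMap := rfl

theorem normLine_pretransitive (hd : 3 ≤ Module.finrank F V) :
    MulAction.IsPretransitive H.SIsom (NormLine H) := by
  refine ⟨fun L L' => ?_⟩
  obtain ⟨w, hw, h⟩ := L.2
  obtain ⟨w', hw', h'⟩ := L'.2
  have hne : ∀ {v : V}, H.h v v = 1 → v ≠ 0 := fun hv h0 => by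
    rw [h0, H.zero_left] at hv; exact zero_ne_one hv
  obtain ⟨g, hg, -⟩ := H.exists_SIsom_move (U := ⊤) (fun z _ h => H.nondeg z fun x => h x trivial)
    (by rw [finrank_top]; exact hd) (x := ⟨w, trivial⟩) (y := ⟨w', trivial⟩)
    (fun h0 => hne hw (congrArg Subtype.val h0)) (fun h0 => hne hw' (congrArg Subtype.val h0))
    (show H.h w' w' = H.h w w by rw [hw, hw'])
  refine ⟨g, Subtype.ext ?_⟩
  rw [smul_normLine, h, h', map_span_normLine, show g.1.1 w = w' from hg]

theorem card_normLine_mul :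
    Nat.card (NormLine H) * Nat.card {c : F // c * H.σ c = 1} = cardNormOne H.q (Module.finrank F V) := by
  rw [← H.card_normOne, ← Nat.card_prod]
  choose w hw hL using fun L : NormLine H => L.2
  have hw0 : ∀ L, w L ≠ 0 := fun L h0 => by
    have := hw L; rw [h0, H.zero_left] at this; exact zero_ne_one this
  refine Nat.card_congr (Equiv.ofBijective (fun p => ⟨p.2.1 • w p.1, by
    rw [H.smul_left, H.smul_right, hw, mul_one, p.2.2]⟩) ⟨?_, ?_⟩)
  · rintro ⟨L, c⟩ ⟨L', c'⟩ e
    have e' : c.1 • w L = c'.1 • w L' := congrArg Subtype.val e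
    have hc : ∀ d : {c : F // c * H.σ c = 1}, d.1 ≠ 0 := fun d h0 => by
      have := d.2; rw [h0, zero_mul] at this; exact zero_ne_one this
    have hLL : L = L' := Subtype.ext (by
      rw [hL L, hL L', ← Submodule.span_singleton_smul_eq (IsUnit.mk0 _ (hc c)) (w L), e',
        Submodule.span_singleton_smul_eq (IsUnit.mk0 _ (hc c')) (w L')])
    subst hLL
    exact Prod.ext rfl (Subtype.ext (smul_left_injective F (hw0 L) e'))
  · rintro ⟨v, hv⟩
    let L : NormLine H := ⟨Submodule.span F {v}, v, hv, rfl⟩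
    obtain ⟨c, hc⟩ := Submodule.mem_span_singleton.1
      (show v ∈ Submodule.span F {w L} by rw [← hL L]; exact Submodule.mem_span_singleton_self v)
    refine ⟨⟨L, c, ?_⟩, Subtype.ext hc⟩
    rw [← hc, H.smul_left, H.smul_right, hw, mul_one] at hv
    exact hv

theorem center_le_stab_normLine (hd : 2 ≤ Module.finrank F V) (L : NormLine H) :
    Subgroup.center H.SIsom ≤ MulAction.stabilizer H.SIsom L := fun g hg => by
  obtain ⟨a, ha, -, hga⟩ := (H.mem_center_SIsom_iff hd).1 hg
  obtain ⟨w, -, hL⟩ := L.2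
  have ha0 : a ≠ 0 := fun h => by rw [h, zero_mul] at ha; exact zero_ne_one ha
  refine MulAction.mem_stabilizer_iff.2 (Subtype.ext ?_)
  rw [smul_normLine, hL, map_span_normLine, hga, Submodule.span_singleton_smul_eq (IsUnit.mk0 _ ha0)]

section Standard

variable {F : Type u} [Field F] [Fintype F] (hF : Fintype.card F = 2 ^ 2) {n : ℕ}

include hF

theorem card_norm_kernel : Nat.card {c : F // c * (stdHerm n hF).σ c = 1} = 3 := by
  classical
  have h : ∀ c : F, c * (stdHerm n hF).σ c = c ^ 3 := fun c => by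
    rw [hpow_std hF, stdHerm_q]; ring
  have hu : ∀ c : F, c ≠ 0 → c ^ 3 = 1 := fun c hc => by
    have := FiniteField.pow_card_sub_one_eq_one c hc
    rwa [hF] at this
  rw [Nat.card_congr (Equiv.subtypeEquivRight (q := fun c : F => c ≠ 0) fun c => by
      rw [h]
      exact ⟨fun h1 h0 => by rw [h0] at h1; norm_num at h1, hu c⟩),
    Nat.card_eq_fintype_card, Fintype.card_subtype_compl, Fintype.card_subtype_eq, hF]
  norm_num

/-- The stabiliser of a line of norm one. -/
theorem attain_normLine (hn : 3 ≤ n) :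
    ∃ K : Subgroup (Cfsg.PSU n F 2), K.index = cardNormOne 2 n / 3 := by
  have hdim : Module.finrank F (Fin n → F) = n := Module.finrank_fin_fun F
  have := normLine_pretransitive (H := stdHerm n hF) (by rw [hdim]; exact hn)
  have : Nontrivial (Fin n → F) := Module.nontrivial_of_finrank_pos (R := F) (by rw [hdim]; omega)
  obtain ⟨w, hw⟩ := (stdHerm n hF).exists_norm_one
  let L : NormLine (stdHerm n hF) := ⟨_, w, hw, rfl⟩
  obtain ⟨K, hK⟩ := psu_attain hF (M := MulAction.stabilizer (stdHerm n hF).SIsom L)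
    (center_le_stab_normLine (by rw [hdim]; omega) L)
  refine ⟨K, ?_⟩
  have h := card_normLine_mul (H := stdHerm n hF)
  rw [card_norm_kernel hF, hdim, stdHerm_q] at h
  rw [hK, MulAction.index_stabilizer_of_transitive, ← h, Nat.mul_div_cancel _ (by norm_num : 0 < 3)]

/-- The bound over four elements in even dimension. -/
theorem bound_even (hn : 6 ≤ n) (he : Even n) {K : Subgroup (Cfsg.PSU n F 2)} (hK : K ≠ ⊤) :
    2 ^ (n - 1) * (2 ^ n - 1) ≤ 3 * K.index := by
  obtain ⟨K', hK', e⟩ := psu_index hF hK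
  have h := index_bound_all (hpow_std hF) (Module.finrank_fin_fun F (n := n)) (by omega) hK'
  rw [stdHerm_q, e] at h
  norm_num only at h
  obtain ⟨j, rfl⟩ : ∃ j, n = j + 2 := ⟨n - 2, by omega⟩
  have hodd : ¬ Even (j + 2 - 1) := by
    rw [Nat.even_iff] at he ⊢; omega
  rcases h with h | ⟨-, -, h⟩
  · unfold isoCount at h
    rw [if_pos he] at h
    calc 2 ^ (j + 2 - 1) * (2 ^ (j + 2) - 1) ≤ (2 ^ (j + 2) - 1) * (2 ^ (j + 2 - 1) + 1) := by
          rw [mul_comm]; exact Nat.mul_le_mul_left _ (Nat.le_succ _)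
      _ ≤ 3 * K.index := by rw [mul_comm 3]; exact h
  · have hs := isoCount_succ 2 (j + 1) (by norm_num) (by omega)
    rw [show j + 2 - 1 = j + 1 by omega] at h hodd
    rw [show j + 1 + 1 = j + 2 by ring] at hs
    rw [show 2 * (j + 2 - 2) + 1 = 2 * j + 1 by omega] at h
    have h1 : isoCount 2 (j + 2) * 2 ^ (2 * j + 1) ≤ K.index * (3 * cardNormOne 2 (j + 1)) := by
      rw [hs] at h ⊢
      norm_num only at h ⊢
      rw [mul_add] at h
      omega
    unfold isoCount cardNormOne at h1
    rw [if_pos he, if_neg hodd, show j + 2 - 1 = j + 1 by omega, show j + 1 - 1 = j by omega] at h1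
    rw [show j + 2 - 1 = j + 1 by omega]
    refine Nat.le_of_mul_le_mul_right ?_ (show 0 < 2 ^ j * (2 ^ (j + 1) + 1) by positivity)
    calc 2 ^ (j + 1) * (2 ^ (j + 2) - 1) * (2 ^ j * (2 ^ (j + 1) + 1))
        = (2 ^ (j + 2) - 1) * (2 ^ (j + 1) + 1) * 2 ^ (2 * j + 1) := by ring
      _ ≤ K.index * (3 * (2 ^ j * (2 ^ (j + 1) + 1))) := h1
      _ = 3 * K.index * (2 ^ j * (2 ^ (j + 1) + 1)) := by ring

end Standard

end Cfsg.Lib.Known.MinIndexSU
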