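import Cfsg.Agent.Known.MinIndexSU.Eleven
import Cfsg.Agent.Known.MinIndexSU.TwoSix

/-!
The four-dimensional unitary group over four elements has no subgroup of index 24.
-/

set_option autoImplicit false
set_option linter.unusedSectionVars false
set_option linter.unusedSimpArgs false
set_option linter.style.haveILetI false

namespace Cfsg.Lib.Known.MinIndexSU

open Cfsg.Lib.Classical Cfsg.Lib.Classical.UIso

universe u v

variable {F : Type u} [Field F] [Finite F] {V : Type v} [AddCommGroup V] [Module F V] [FiniteDimensional F V]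
  {H : HermSpace F V}

theorem modEq_five {α : Type*} [Fintype α] [DecidableEq α] (σ : Equiv.Perm α) (h : σ ^ 5 = 1) :
    (Finset.univ.filter fun a => σ a = a).card ≡ Fintype.card α [MOD 5] := by
  have : Fact (Nat.Prime 5) := ⟨by norm_num⟩
  have h1 := Equiv.Perm.card_compl_support_modEq (p := 5) (n := 1) (σ := σ) (by rw [pow_one]; exact h)
  convert h1 using 2
  ext a
  simp [Equiv.Perm.mem_support]

/-- An element of order five. -/
structure Pent (H : HermSpace F V) where
  g : H.SIsom
  hg : orderOf g = 5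
  hq : H.q = 2
  hd : Module.finrank F V = 4

namespace Pent

variable (E : Pent H)

/-- Its linear map. -/
noncomputable def T : V →ₗ[F] V := E.g.1.1.toLinearMap

theorem T_iter (j : ℕ) (x : V) : (E.g ^ j).1.1 x = (E.T ^ j) x := by
  induction j generalizing x with
  | zero => rfl
  | succ j ih =>
    rw [pow_succ, pow_succ, Module.End.mul_apply, ← ih]
    rfl

theorem T_pow : E.T ^ 5 = 1 := by
  refine LinearMap.ext fun x => ?_
  rw [← E.T_iter, ← E.hg, pow_orderOf_eq_one]
  rfl

include E in
theorem four : Nat.card F = 4 := by rw [H.card_field, E.hq]; norm_num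

include E in
theorem two : (2 : F) = 0 := by
  have := Fintype.ofFinite F
  have h4 : Fintype.card F % 2 = 0 := by rw [← Nat.card_eq_fintype_card, E.four]
  have hr := (FiniteField.even_card_iff_char_two (F := F)).2 h4
  have := ringChar.Nat.cast_ringChar (R := F)
  rw [hr] at this
  exact_mod_cast this

include E in
theorem five : (5 : F) = 1 := by linear_combination 2 * E.two

/-- Permuting a stable subset without fixed points. -/
theorem five_dvd (S : Set V) (hS : ∀ x ∈ S, E.T x ∈ S) (hfree : ∀ x ∈ S, E.T x ≠ x) : 5 ∣ Nat.card S := by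
  classical
  have : Finite V := Module.finite_of_finite F
  have := Fintype.ofFinite S
  let f : S → S := fun x => ⟨E.T x, hS x x.2⟩
  have hf : Function.Injective f := fun a b h => Subtype.ext (E.g.1.1.injective (congrArg Subtype.val h))
  let σ : Equiv.Perm S := Equiv.ofBijective f (Finite.injective_iff_bijective.1 hf)
  have hσ : ∀ (j : ℕ) (x : S), ((σ ^ j) x : V) = (E.T ^ j) x := by
    intro j
    induction j with
    | zero => intro x; rfl
    | succ j ih =>
      intro x
      rw [pow_succ', pow_succ', Equiv.Perm.mul_apply, Module.End.mul_apply, ← ih]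
      rfl
  have h := modEq_five σ (Equiv.ext fun x => Subtype.ext (by rw [hσ, E.T_pow]; rfl))
  rw [show (Finset.univ.filter fun a => σ a = a) = ∅ by
    ext x
    simp only [Finset.mem_filter, Finset.mem_univ, true_and, Finset.notMem_empty, iff_false]
    exact fun hx => hfree x x.2 (congrArg Subtype.val hx), Finset.card_empty, ← Nat.card_eq_fintype_card] at h
  exact Nat.modEq_zero_iff_dvd.1 h.symm

theorem card_nonzero (W : Submodule F V) : Nat.card {x : V | x ∈ W ∧ x ≠ 0} = Nat.card W - 1 := by
  classical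
  have : Finite W := Module.finite_of_finite F
  have := Fintype.ofFinite W
  let e : {x : V | x ∈ W ∧ x ≠ 0} ≃ {x : W // x ≠ 0} :=
    { toFun := fun x => ⟨⟨x.1, x.2.1⟩, fun h => x.2.2 (congrArg Subtype.val h)⟩
      invFun := fun x => ⟨x.1.1, x.1.2, fun h => x.2 (Subtype.ext h)⟩
      left_inv := fun _ => rfl
      right_inv := fun _ => rfl }
  rw [Nat.card_congr e, Nat.card_eq_fintype_card, Nat.card_eq_fintype_card, Fintype.card_subtype_compl,
    Fintype.card_subtype_eq]

/-- A stable subspace without fixed vectors. -/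
theorem finrank_stable (W : Submodule F V) (hW : ∀ x ∈ W, E.T x ∈ W) (hfree : ∀ x ∈ W, E.T x = x → x = 0) :
    Module.finrank F W = 0 ∨ Module.finrank F W = 2 ∨ Module.finrank F W = 4 := by
  classical
  have : Finite W := Module.finite_of_finite F
  have h := E.five_dvd {x : V | x ∈ W ∧ x ≠ 0}
    (fun x hx => ⟨hW x hx.1, fun h => hx.2 ((map_eq_zero_iff _ E.g.1.1.injective).1 h)⟩)
    fun x hx e => hx.2 (hfree x hx.1 e)
  rw [card_nonzero, Module.natCard_eq_pow_finrank (K := F), E.four] at h
  have hle := Submodule.finrank_le W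
  rw [E.hd] at hle
  generalize Module.finrank F W = j at h hle
  interval_cases j <;> first | omega | exact absurd h (by decide)

/-- A nondegenerate stable plane has a fixed vector. -/
theorem no_plane (W : Submodule F V) (hW : H.NondegOn W) (hst : ∀ x ∈ W, E.T x ∈ W)
    (hfree : ∀ x ∈ W, E.T x = x → x = 0) (h2 : Module.finrank F W = 2) : False := by
  have h := E.five_dvd {x : V | x ∈ W ∧ H.h x x = 1}
    (fun x hx => ⟨hst x hx.1, by rw [show E.T x = E.g.1.1 x from rfl, H.map_form]; exact hx.2⟩)
    fun x hx e => by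
      have := hx.2
      rw [hfree x hx.1 e, H.zero_left] at this
      exact zero_ne_one this
  have hc : Nat.card {x : V | x ∈ W ∧ H.h x x = 1} = 6 := by
    refine (Nat.card_congr (Equiv.subtypeSubtypeEquivSubtypeInter (fun x => x ∈ W) fun x => H.h x x = 1).symm).trans ?_
    refine (H.restrict W hW).card_normOne.trans ?_
    rw [h2, show (H.restrict W hW).q = 2 from E.hq]
    decide
  rw [hc] at h
  omega

/-- The projection on the fixed vectors. -/
noncomputable def π : V →ₗ[F] V := ∑ j ∈ Finset.range 5, E.T ^ j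

theorem π_fix {x : V} (hx : E.T x = x) : E.π x = x := by
  have h : ∀ j, (E.T ^ j) x = x := fun j => by
    induction j with
    | zero => rfl
    | succ j ih => rw [pow_succ, Module.End.mul_apply, hx, ih]
  rw [π, LinearMap.sum_apply, Finset.sum_congr rfl fun j _ => h j, Finset.sum_const, Finset.card_range,
    ← Nat.cast_smul_eq_nsmul F, show ((5 : ℕ) : F) = (5 : F) by norm_num, E.five, one_smul]

theorem T_π : E.T * E.π = E.π := by
  rw [π, Finset.mul_sum]
  simp only [← pow_succ']
  have h := Finset.sum_range_succ (fun j => E.T ^ j) 5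
  rw [Finset.sum_range_succ', pow_zero, E.T_pow] at h
  exact add_right_cancel h

theorem π_T : E.π * E.T = E.π := by
  rw [π, Finset.sum_mul]
  simp only [← pow_succ]
  have h := Finset.sum_range_succ (fun j => E.T ^ j) 5
  rw [Finset.sum_range_succ', pow_zero, E.T_pow] at h
  exact add_right_cancel h

theorem T_π_apply (x : V) : E.T (E.π x) = E.π x := by rw [← Module.End.mul_apply, E.T_π]

theorem free (x : V) (hx : E.T x = x) : x = 0 := by
  set W := LinearMap.ker E.π with hWdef
  have hst : ∀ x ∈ W, E.T x ∈ W := fun x hx => by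
    rw [LinearMap.mem_ker, ← Module.End.mul_apply, E.π_T]
    exact hx
  have hfree : ∀ x ∈ W, E.T x = x → x = 0 := fun x hx h => by rw [← E.π_fix h]; exact hx
  rcases E.finrank_stable W hst hfree with h | h | h
  · exfalso
    have hsurj := LinearMap.surjective_of_injective (LinearMap.ker_eq_bot.1 (Submodule.finrank_eq_zero.1 h))
    have h1 : E.g = 1 := H.sisom_ext fun x => by
      obtain ⟨y, rfl⟩ := hsurj x
      exact E.T_π_apply y
    have := E.hg
    rw [h1, orderOf_one] at this
    omega
  · exfalso
    refine E.no_plane W (fun z hz hzo => H.nondeg z fun y => ?_) hst hfree h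
    have horth : ∀ y, E.T y = y → H.h z y = 0 := fun y hy => by
      have hj : ∀ j, H.h ((E.T ^ j) z) y = H.h z y := fun j => by
        induction j with
        | zero => rfl
        | succ j ih =>
          rw [pow_succ', Module.End.mul_apply]
          conv_lhs => rw [← hy]
          exact (H.map_form E.g.1 _ _).trans ih
      have h1 : H.h (E.π z) y = (5 : F) * H.h z y := by
        simp only [π, Finset.sum_range_succ, Finset.sum_range_zero, zero_add, LinearMap.add_apply, H.add_left, hj]
        ring
      rw [show E.π z = 0 from hz, H.zero_left, E.five, one_mul] at h1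
      exact h1.symm
    have e : y = E.π y + (y - E.π y) := by abel
    rw [e, H.add_left, H.eq_zero_symm (horth _ (E.T_π_apply y)), hzo _ (by
      rw [LinearMap.mem_ker, map_sub, E.π_fix (E.T_π_apply y), sub_self]), add_zero]
  · have : W = ⊤ := Submodule.eq_top_of_finrank_eq (by rw [h, E.hd])
    rw [← E.π_fix hx]
    exact LinearMap.mem_ker.1 (this ▸ Submodule.mem_top : x ∈ W)

/-- A stable subspace with an anisotropic vector is everything. -/
theorem stable_top (W : Submodule F V) (hst : ∀ x ∈ W, E.T x ∈ W) {v : V} (hv : v ∈ W) (hvv : H.h v v ≠ 0) :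
    W = ⊤ := by
  rcases E.finrank_stable W hst fun x _ => E.free x with h | h | h
  · rw [Submodule.finrank_eq_zero.1 h, Submodule.mem_bot] at hv
    rw [hv, H.zero_left] at hvv
    exact absurd rfl hvv
  · exfalso
    refine E.no_plane W (fun z hz hzo => ?_) hst (fun x _ => E.free x) h
    have hRst : ∀ x ∈ W ⊓ H.orth W, E.T x ∈ W ⊓ H.orth W := fun x hx => ⟨hst x hx.1, fun y hy => by
      let f : W →ₗ[F] W := E.T.restrict hst
      have hinj : Function.Injective f := fun a b h => Subtype.ext (E.g.1.1.injective (congrArg Subtype.val h))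
      obtain ⟨⟨y', hy'⟩, e⟩ := LinearMap.surjective_of_injective hinj ⟨y, hy⟩
      rw [← show E.T y' = y from congrArg Subtype.val e]
      exact (H.map_form E.g.1 x y').trans (hx.2 y' hy')⟩
    have hR : W ⊓ H.orth W = ⊥ := by
      rcases E.finrank_stable (W ⊓ H.orth W) hRst (fun x _ => E.free x) with h' | h' | h'
      · exact Submodule.finrank_eq_zero.1 h'
      · exfalso
        have e := Submodule.eq_of_le_of_finrank_eq (inf_le_left (b := H.orth W)) (h'.trans h.symm)
        exact hvv ((e.ge hv).2 v hv)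
      · have := Submodule.finrank_mono (inf_le_left : W ⊓ H.orth W ≤ W)
        omega
    have : z ∈ W ⊓ H.orth W := ⟨hz, fun x hx => H.eq_zero_symm (hzo x hx)⟩
    rwa [hR, Submodule.mem_bot] at this
  · exact Submodule.eq_top_of_finrank_eq (by rw [h, E.hd])

theorem comm_T {c : H.SIsom} (hc : c * E.g = E.g * c) (x : V) : c.1.1 (E.T x) = E.T (c.1.1 x) :=
  congrArg (fun k : H.SIsom => k.1.1 x) hc

theorem card_centralizer : Nat.card (Subgroup.centralizer ({E.g} : Set H.SIsom)) ∣ 40 := by
  classical
  have : Finite V := Module.finite_of_finite F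
  set C0 := Subgroup.centralizer ({E.g} : Set H.SIsom)
  have hu3 : ∀ z : F, z ≠ 0 → z ^ 3 = 1 := fun z hz => by
    have := Fintype.ofFinite F
    have h := FiniteField.pow_card_sub_one_eq_one z hz
    rwa [← Nat.card_eq_fintype_card, E.four] at h
  have hcard : Nat.card (NormLine H) = 40 := by
    have h := card_normLine_mul (H := H)
    have hk : Nat.card {c : F // c * H.σ c = 1} = 3 := by
      have hN : ∀ c : F, c ≠ 0 → c * H.σ c = 1 := fun c hc => by
        have := Fintype.ofFinite (fixedField H.σ)
        have hmem : H.σ (c * H.σ c) = c * H.σ c := by rw [map_mul, H.conj.invol, mul_comm]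
        have hne : c * H.σ c ≠ 0 := mul_ne_zero hc ((map_ne_zero _).2 hc)
        have h := FiniteField.pow_card_sub_one_eq_one (⟨_, mem_fixedField.2 hmem⟩ : fixedField H.σ)
          (fun e => hne (congrArg Subtype.val e))
        rw [← Nat.card_eq_fintype_card, show Nat.card (fixedField H.σ) = H.q from rfl, E.hq] at h
        simpa using congrArg Subtype.val h
      have := Fintype.ofFinite F
      rw [Nat.card_congr (Equiv.subtypeEquivRight (q := fun c : F => c ≠ 0) fun c =>
        ⟨fun h1 h0 => by rw [h0, zero_mul] at h1; exact zero_ne_one h1, hN c⟩), Nat.card_eq_fintype_card,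
        Fintype.card_subtype_compl, Fintype.card_subtype_eq, ← Nat.card_eq_fintype_card, E.four]
    rw [hk, E.hd, E.hq] at h
    have : cardNormOne 2 4 = 120 := by decide
    omega
  rw [← hcard]
  refine card_dvd_of_free fun L => ?_
  rw [eq_bot_iff]
  rintro ⟨c, hc⟩ hcL
  rw [Subgroup.mem_bot]
  refine Subtype.ext ?_
  show c = 1
  have hcomm : c * E.g = E.g * c := (Subgroup.mem_centralizer_iff.1 hc E.g rfl).symm
  obtain ⟨v, hv, hL⟩ := L.2
  have hmem : c.1.1 v ∈ Submodule.span F {v} := by
    have h1 : c • L = L := MulAction.mem_stabilizer_iff.1 hcL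
    have h2 := congrArg Subtype.val h1
    rw [smul_normLine, hL, map_span_normLine] at h2
    rw [← h2]
    exact Submodule.mem_span_singleton_self _
  obtain ⟨z, hz⟩ := Submodule.mem_span_singleton.1 hmem
  have hv0 : v ≠ 0 := fun h => by rw [h, H.zero_left] at hv; exact zero_ne_one hv
  have htop : LinearMap.ker (c.1.1.toLinearMap - z • LinearMap.id) = ⊤ := by
    refine E.stable_top _ (fun x hx => ?_) (v := v) (by
      show c.1.1 v - z • v = 0
      rw [hz, sub_self]) (by rw [hv]; exact one_ne_zero)
    have h1 : c.1.1 x = z • x := sub_eq_zero.1 hx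
    show c.1.1 (E.T x) - z • E.T x = 0
    rw [E.comm_T hcomm, h1, map_smul, sub_self]
  have hall : ∀ x, c.1.1 x = z • x := fun x =>
    sub_eq_zero.1 (LinearMap.mem_ker.1 (htop ▸ Submodule.mem_top : x ∈ LinearMap.ker (c.1.1.toLinearMap - z • LinearMap.id)))
  have hz0 : z ≠ 0 := fun h => hv0 (c.1.1.injective (by rw [hall, h, zero_smul, map_zero]))
  have hdet : z ^ 4 = 1 := by
    have h := congrArg Units.val (MonoidHom.mem_ker.mp c.2)
    change ((LinearEquiv.det c.1.1 : Fˣ) : F) = _ at h
    rw [LinearEquiv.coe_det, show c.1.1.toLinearMap = z • LinearMap.id from LinearMap.ext hall,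
      LinearMap.det_smul, LinearMap.det_id, mul_one, Units.val_one, E.hd] at h
    exact h
  rw [pow_succ, hu3 z hz0, one_mul] at hdet
  exact H.sisom_ext fun x => by rw [hall, hdet, one_smul]; rfl

theorem no_involution {c : H.SIsom} (hc : c * E.g = E.g * c) (h2 : c ^ 2 = 1) : c = 1 := by
  classical
  by_contra hne
  have : Finite V := Module.finite_of_finite F
  let N : V →ₗ[F] V := c.1.1.toLinearMap - LinearMap.id
  have hN : ∀ x, N x = c.1.1 x - x := fun x => rfl
  have hNN : ∀ x, N (N x) = 0 := fun x => by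
    have e : c.1.1 (c.1.1 x) = x := by rw [← H.smul_mul_apply, ← sq, h2]; rfl
    rw [hN, hN, map_sub, e]
    have : (2 : F) • (x - c.1.1 x) = 0 := by rw [E.two, zero_smul]
    linear_combination (norm := module) this
  have hNT : ∀ x, N (E.T x) = E.T (N x) := fun x => by rw [hN, hN, E.comm_T hc, map_sub]
  set W := LinearMap.ker N
  set R := LinearMap.range N
  have hRW : R ≤ W := by rintro _ ⟨x, rfl⟩; exact hNN x
  have hW : ∀ x ∈ W, E.T x ∈ W := fun x hx => by
    show N (E.T x) = 0
    rw [hNT, show N x = 0 from hx, map_zero]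
  have hnc : W ≠ ⊤ := fun h => hne (H.sisom_ext fun x => sub_eq_zero.1 (show N x = 0 from
    LinearMap.mem_ker.1 (h ▸ Submodule.mem_top : x ∈ W)))
  have hsum : Module.finrank F R + Module.finrank F W = 4 := by
    rw [← E.hd]; exact N.finrank_range_add_finrank_ker
  have hle := Submodule.finrank_mono hRW
  have hR2 : Module.finrank F W = 2 := by
    rcases E.finrank_stable W hW fun x _ => E.free x with h | h | h
    · omega
    · exact h
    · exact absurd (Submodule.eq_top_of_finrank_eq (by rw [h, E.hd])) hnc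
  have hRW' : R = W := Submodule.eq_of_le_of_finrank_eq hRW (by omega)
  have hWiso : ∀ x ∈ W, H.h x x = 0 := fun x hx => by
    by_contra h
    exact hnc (E.stable_top W hW hx h)
  have htr : ∀ a : F, (∀ l : F, l * a + H.σ (l * a) = 0) → a = 0 := fun a ha => by
    by_contra h
    obtain ⟨θ, hθ⟩ := H.conj.exists_trace_one
    have h1 := ha (θ / a)
    rw [div_mul_cancel₀ _ h, hθ] at h1
    exact one_ne_zero h1
  have hWW : ∀ x ∈ W, ∀ y ∈ W, H.h x y = 0 := fun x hx y hy => htr _ fun l => by
    have h := hWiso _ (W.add_mem (W.smul_mem l hx) hy)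
    rw [H.add_left, H.add_right, H.add_right, H.smul_left, H.smul_right, H.smul_left, H.smul_right, hWiso x hx,
      hWiso y hy, H.symm y x] at h
    rw [map_mul]
    linear_combination h
  have hwN : ∀ w ∈ W, ∀ y, H.h w (N y) = 0 := fun w hw y => hWW w hw _ (hRW ⟨y, rfl⟩)
  have hherm : ∀ x y, H.h x (N y) = H.h (N x) y := fun x y => by
    have h := H.map_form c.1 x y
    rw [show c.1.1 x = N x + x by rw [hN, sub_add_cancel], show c.1.1 y = N y + y by rw [hN, sub_add_cancel],
      H.add_left, H.add_right, H.add_right, hWW _ (hRW ⟨x, rfl⟩) _ (hRW ⟨y, rfl⟩)] at h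
    linear_combination h - H.h (N x) y * E.two
  let G : V → F := fun x => H.h (N x) x
  have hG : ∀ x y, G (x + y) = G x + G y + (H.h (N x) y + H.σ (H.h (N x) y)) := fun x y => by
    simp only [G, map_add, H.add_left, H.add_right]
    rw [← hherm x y, H.symm (N y) x]
    ring
  have hGw : ∀ x, ∀ w ∈ W, G (x + w) = G x := fun x w hw => by
    rw [hG, show G w = 0 by simp only [G]; rw [show N w = 0 from hw, H.zero_left], hWW _ (hRW ⟨x, rfl⟩) _ hw, map_zero]
    ring
  have hGT : ∀ x, G (E.T x) = G x := fun x => by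
    show H.h (N (E.T x)) (E.T x) = _
    rw [hNT]
    exact H.map_form E.g.1 _ _
  have hGfix : ∀ x, G x ≠ 0 → G x = 1 := fun x hx => by
    have hmem : H.σ (G x) = G x := by
      show H.σ (H.h (N x) x) = H.h (N x) x
      rw [← H.symm, hherm]
    have := Fintype.ofFinite (fixedField H.σ)
    have h := FiniteField.pow_card_sub_one_eq_one (⟨_, mem_fixedField.2 hmem⟩ : fixedField H.σ)
      (fun e => hx (congrArg Subtype.val e))
    rw [← Nat.card_eq_fintype_card, show Nat.card (fixedField H.σ) = H.q from rfl, E.hq] at h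
    simpa using congrArg Subtype.val h
  obtain ⟨x, hx⟩ : ∃ x, G x ≠ 0 := by
    by_contra h
    push Not at h
    refine hnc (eq_top_iff.2 fun x _ => H.nondeg (N x) fun y => H.eq_zero_symm (htr _ fun l => ?_))
    have h1 := hG (l • x) y
    rw [h, h, h, map_smul, H.smul_left] at h1
    linear_combination -h1
  choose s hs using fun r : W => (hRW'.ge r.2 : (r : V) ∈ R)
  let S : Set V := {r | ∃ hr : r ∈ W, G (s ⟨r, hr⟩) = 1}
  have hsG : ∀ (y : V) (hy : N y ∈ W), G (s ⟨N y, hy⟩) = G y := fun y hy => by
    have hm : s ⟨N y, hy⟩ - y ∈ W := by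
      show N _ = 0
      rw [map_sub, hs, sub_self]
    rw [← hGw y _ hm, add_sub_cancel]
  have h5 : 5 ∣ Nat.card S := by
    refine E.five_dvd S (fun r ⟨hr, h⟩ => ⟨hW r hr, ?_⟩) fun r ⟨hr, h⟩ e => ?_
    · have hr' : E.T r = N (E.T (s ⟨r, hr⟩)) := by rw [hNT, hs]
      simp only [hr']
      rw [hsG, hGT, h]
    · obtain rfl := E.free r e
      have h0 := hsG 0 (by rw [map_zero]; exact hr)
      simp only [map_zero] at h0
      rw [h0] at h
      simp only [G, map_zero, H.zero_left] at h
      exact zero_ne_one h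
  have hsm : ∀ (l : Fˣ) (r : S), (l : F) • (r : V) ∈ S := fun l ⟨r, hr, h⟩ => ⟨W.smul_mem _ hr, by
    have hr' : (l : F) • r = N ((l : F) • s ⟨r, hr⟩) := by rw [map_smul, hs]
    simp only [hr']
    rw [hsG]
    show H.h (N _) _ = 1
    have hN1 : (l : F) * H.σ l = 1 := by
      have hmem : H.σ ((l : F) * H.σ l) = (l : F) * H.σ l := by rw [map_mul, H.conj.invol, mul_comm]
      have hne' : (l : F) * H.σ l ≠ 0 := mul_ne_zero l.ne_zero ((map_ne_zero _).2 l.ne_zero)
      have := Fintype.ofFinite (fixedField H.σ)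
      have h := FiniteField.pow_card_sub_one_eq_one (⟨_, mem_fixedField.2 hmem⟩ : fixedField H.σ)
        (fun e => hne' (congrArg Subtype.val e))
      rw [← Nat.card_eq_fintype_card, show Nat.card (fixedField H.σ) = H.q from rfl, E.hq] at h
      simpa using congrArg Subtype.val h
    rw [map_smul, H.smul_left, H.smul_right, ← mul_assoc, hN1, one_mul]
    exact h⟩
  let act : MulAction Fˣ S :=
    { smul := fun l r => ⟨_, hsm l r⟩
      one_smul := fun r => Subtype.ext (one_smul F (r : V))
      mul_smul := fun l l' r => Subtype.ext (mul_smul (l : F) (l' : F) (r : V)) }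
  have hr0 : ∀ r : S, (r : V) ≠ 0 := fun ⟨r, hr, h⟩ h0 => by
    simp only at h0
    subst h0
    have h' := hsG 0 (by rw [map_zero]; exact hr)
    simp only [map_zero] at h'
    rw [h'] at h
    simp only [G, map_zero, H.zero_left] at h
    exact zero_ne_one h
  have h3 : Nat.card Fˣ ∣ Nat.card S := card_dvd_of_free fun r => by
    rw [eq_bot_iff]
    intro l hl
    have e : (l : F) • (r : V) = (1 : F) • (r : V) := by
      rw [one_smul]; exact congrArg Subtype.val (MulAction.mem_stabilizer_iff.1 hl)
    exact Subgroup.mem_bot.2 (Units.ext (smul_left_injective F (hr0 r) e))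
  rw [Nat.card_units, E.four] at h3
  have hW16 : Nat.card W = 16 := by rw [Module.natCard_eq_pow_finrank (K := F), E.four, hR2]; norm_num
  have hsub : S ⊆ {r : V | r ∈ W ∧ r ≠ 0} := fun r hr => ⟨hr.1, hr0 ⟨r, hr⟩⟩
  have hcW : Nat.card {r : V | r ∈ W ∧ r ≠ 0} = 15 := by
    rw [card_nonzero, hW16]
  have hpos : 0 < Nat.card S := Nat.card_pos_iff.2
    ⟨⟨⟨N x, hRW ⟨x, rfl⟩, by rw [hsG]; exact hGfix x hx⟩⟩, inferInstance⟩
  have h15 : 15 ∣ Nat.card S := Nat.Coprime.mul_dvd_of_dvd_of_dvd (show Nat.Coprime 5 3 by norm_num) h5 h3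
  have hSeq : S = {r : V | r ∈ W ∧ r ≠ 0} := by
    refine Set.eq_of_subset_of_ncard_le hsub ?_ (Set.toFinite _)
    rw [← Nat.card_coe_set_eq, ← Nat.card_coe_set_eq, hcW]
    exact Nat.le_of_dvd hpos h15
  have hall : ∀ y, y ∉ W → G y = 1 := fun y hy => by
    have hy0 : N y ∈ S := by rw [hSeq]; exact ⟨hRW ⟨y, rfl⟩, hy⟩
    obtain ⟨hyW, h⟩ := hy0
    rwa [hsG] at h
  have hxW : x ∉ W := fun h => hx (by simp only [G]; rw [show N x = 0 from h, H.zero_left])
  have hx1 := hGfix x hx
  obtain ⟨z, hz⟩ : ∃ z, z ∉ W ⊔ Submodule.span F {x} := by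
    by_contra h
    push Not at h
    have htop : W ⊔ Submodule.span F {x} = ⊤ := eq_top_iff.2 fun y _ => h y
    have h1 := Submodule.finrank_add_le_finrank_add_finrank W (Submodule.span F {x})
    rw [htop, finrank_top, E.hd, hR2, finrank_span_singleton (fun h => hxW (by rw [h]; exact W.zero_mem))] at h1
    omega
  set a := H.h (N x) z
  set z' := z + H.σ (-a) • x
  have hz' : z' ∉ W ⊔ Submodule.span F {x} := fun h => hz (by
    have := Submodule.sub_mem _ h (Submodule.smul_mem _ (H.σ (-a))
      (Submodule.mem_sup_right (S := W) (Submodule.mem_span_singleton_self x)))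
    simpa [z'] using this)
  have hz'W : z' ∉ W := fun h => hz' (Submodule.mem_sup_left h)
  have hxz' : x + z' ∉ W := fun h => hz' (by
    have := Submodule.sub_mem _ (Submodule.mem_sup_left (T := Submodule.span F {x}) h)
      (Submodule.mem_sup_right (S := W) (Submodule.mem_span_singleton_self x))
    simpa using this)
  have hcross : H.h (N x) z' = 0 := by
    have hx1' : H.h (N x) x = 1 := hx1
    simp only [z', H.add_right, H.smul_right, H.conj.invol]
    rw [hx1']
    ring
  have h6 := hG x z'
  rw [hall _ hxz', hx1, hall _ hz'W, hcross, map_zero, add_zero, add_zero] at h6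
  exact one_ne_zero (show (1 : F) = 0 by linear_combination h6 + E.two)

end Pent

/-- No subgroup of index 24. -/
theorem no_index_24 (hq : H.q = 2) (hd : Module.finrank F V = 4) (K : Subgroup H.SIsom) (hK : K.index = 24) :
    False := by
  classical
  have : Finite V := Module.finite_of_finite F
  have hfin : Finite H.SIsom :=
    Finite.of_injective (fun g : H.SIsom => (g.1.1 : V → V)) fun g h e => H.sisom_ext (congrFun e)
  have : Fact (Nat.Prime 5) := ⟨by norm_num⟩
  have : Fact (Nat.Prime 2) := ⟨by norm_num⟩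
  have : Fact (Nat.Prime 3) := ⟨by norm_num⟩
  have : Nontrivial V := Module.nontrivial_of_finrank_pos (R := F) (by omega)
  have hcard : Nat.card H.SIsom = 25920 := by
    have h := H.card_SIsom_mul
    rw [hd, hq] at h
    norm_num [cardGUFormula, Finset.prod_range_succ, Nat.even_iff] at h
    omega
  have hKc := K.card_mul_index
  rw [hcard, hK] at hKc
  have hKc' : Nat.card K = 1080 := by omega
  have hno : ∀ (g s : K), orderOf g = 5 → s * g = g * s → s ^ 2 = 1 → s = 1 := fun g s hg hc h2 => by
    let E : Pent H := ⟨g.1, by rw [Subgroup.orderOf_coe]; exact hg, hq, hd⟩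
    exact Subtype.ext (E.no_involution (c := s.1) (congrArg Subtype.val hc) (congrArg Subtype.val h2))
  have hthree : ∀ (g s : K), orderOf g = 5 → s * g = g * s → orderOf s ≠ 3 := fun g s hg hc h3 => by
    let E : Pent H := ⟨g.1, by rw [Subgroup.orderOf_coe]; exact hg, hq, hd⟩
    have hm : (s : H.SIsom) ∈ Subgroup.centralizer ({E.g} : Set H.SIsom) :=
      Subgroup.mem_centralizer_iff.2 fun t ht => by
        rw [Set.mem_singleton_iff.1 ht]
        exact (congrArg Subtype.val hc).symm
    have h := (Subgroup.orderOf_dvd_natCard _ hm).trans E.card_centralizer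
    rw [Subgroup.orderOf_coe, h3] at h
    omega
  obtain ⟨P⟩ : Nonempty (Sylow 5 K) := inferInstance
  have hPc : Nat.card P = 5 := by
    have h := P.card_eq_multiplicity
    rw [hKc', show (1080 : ℕ) = 216 * 5 by norm_num, Nat.factorization_mul (by norm_num) (by norm_num),
      Finsupp.add_apply, Nat.Prime.factorization_self (by norm_num),
      Nat.factorization_eq_zero_of_not_dvd (by norm_num)] at h
    simpa using h
  obtain ⟨g, hg⟩ := exists_prime_orderOf_dvd_card' (G := P) 5 (by rw [hPc])
  have hg' : orderOf (g : K) = 5 := (Subgroup.orderOf_coe g).trans hg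
  set N := Subgroup.normalizer (P : Set K)
  have hN3 : ¬ 3 ∣ Nat.card N := fun h => by
    obtain ⟨x, hx⟩ := exists_prime_orderOf_dvd_card' (G := N) 3 h
    have hx' : orderOf (x : K) = 3 := (Subgroup.orderOf_coe x).trans hx
    have hP : (P : Subgroup K) = Subgroup.zpowers (g : K) :=
      (Subgroup.eq_of_le_of_card_ge ((Subgroup.zpowers_le).2 g.2) (by rw [Nat.card_zpowers, hg']; exact hPc.le)).symm
    have hmem := (Subgroup.mem_normalizer_iff.1 x.2 (g : K)).1 g.2
    obtain ⟨j, hj⟩ := Subgroup.mem_zpowers_iff.1 ((SetLike.ext_iff.1 hP _).1 hmem)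
    have h1 : (x : K) ^ 3 = 1 := by rw [← hx']; exact pow_orderOf_eq_one _
    have h3 : (g : K) ^ (j * j * j) = g := by
      rw [zpow_mul, zpow_mul, hj, conj_zpow, hj, conj_zpow, conj_zpow, hj]
      calc (x : K) * (x * (x * g * (x : K)⁻¹) * (x : K)⁻¹) * (x : K)⁻¹ = (x : K) ^ 3 * g * ((x : K) ^ 3)⁻¹ := by
            rw [show (x : K) ^ 3 = x * x * x by rw [pow_succ, pow_two]]
            group
        _ = g := by rw [h1, one_mul, inv_one, mul_one]
    have h4 : (5 : ℤ) ∣ j * j * j - 1 := by
      have h5 : (g : K) ^ (j * j * j - 1) = 1 := by rw [zpow_sub, h3, zpow_one, mul_inv_cancel]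
      have := orderOf_dvd_iff_zpow_eq_one.2 h5
      rwa [hg'] at this
    have h5 : (5 : ℤ) ∣ j - 1 := by
      have e : ∀ r : ℕ, r < 5 → (r * r * r) % 5 = 1 → r = 1 := by decide
      obtain ⟨r, hr, hjr⟩ : ∃ r : ℕ, r < 5 ∧ j % 5 = (r : ℤ) := ⟨(j % 5).toNat, by omega, by omega⟩
      have h6 : (((r * r * r) % 5 : ℕ) : ℤ) = 1 := by
        have : (j * j * j) % 5 = 1 := by omega
        rw [Int.mul_emod, Int.mul_emod j j, hjr] at this
        push_cast
        rw [← this]
        simp [Int.mul_emod]
      have := e r hr (by exact_mod_cast h6)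
      omega
    have h7 : (g : K) ^ (j - 1) = 1 := orderOf_dvd_iff_zpow_eq_one.1 (by rw [hg']; exact h5)
    rw [zpow_sub, zpow_one, mul_inv_eq_one] at h7
    rw [h7] at hj
    exact hthree (g : K) (x : K) hg' (mul_inv_eq_iff_eq_mul.1 hj.symm) hx'
  have hn5 : N.index = 216 := by
    have h1 : N.index ∣ 216 := by
      have h := P.card_dvd_index
      rw [P.card_eq_index_normalizer] at h
      have h2 := (P : Subgroup K).card_mul_index
      rw [hKc', show Nat.card (P : Subgroup K) = 5 from hPc] at h2
      rwa [show (P : Subgroup K).index = 216 by omega] at h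
    have h2 : N.index ≡ 1 [MOD 5] := P.card_eq_index_normalizer ▸ card_sylow_modEq_one 5 K
    have h3 := N.card_mul_index
    rw [hKc'] at h3
    have h4 : N.index ≤ 216 := Nat.le_of_dvd (by norm_num) h1
    have e : ∀ i ∈ Nat.divisors 216, i % 5 = 1 → 27 ∣ i → i = 216 := by decide +kernel
    refine e _ (Nat.mem_divisors.2 ⟨h1, by norm_num⟩) (by rw [h2]) ?_
    have h5 : 3 ^ 3 ∣ Nat.card N * N.index := by rw [h3]; norm_num
    exact (Nat.Coprime.dvd_of_dvd_mul_left
      (Nat.Coprime.pow_left 3 ((Nat.Prime.coprime_iff_not_dvd (by norm_num)).2 hN3)) h5)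
  have hNP : N = (P : Subgroup K) := by
    have h3 := N.card_mul_index
    rw [hKc', hn5] at h3
    have h5 : Nat.card N = 5 := by omega
    refine (Subgroup.eq_of_le_of_card_ge Subgroup.le_normalizer ?_).symm
    exact (h5.trans hPc.symm).le
  have : IsCyclic (P : Subgroup K) := isCyclic_of_prime_card (p := 5) hPc
  have hP : Subgroup.normalizer (P : Set K) ≤ Subgroup.centralizer (P : Set K) := by
    show N ≤ _
    rw [hNP]
    intro a ha
    rw [Subgroup.mem_centralizer_iff]
    intro b hb
    exact congrArg Subtype.val ((IsCyclic.isMulCommutative (α := (P : Subgroup K))).is_comm.comm ⟨b, hb⟩ ⟨a, ha⟩)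
  set R := (MonoidHom.transferSylow P hP).ker
  have hR : Nat.card R = 216 := by
    have hRP : Nat.card R * Nat.card (P : Subgroup K) = Nat.card K :=
      (MonoidHom.ker_transferSylow_isComplement' P hP).card_mul_card
    rw [show Nat.card (P : Subgroup K) = 5 from hPc, hKc'] at hRP
    omega
  have hRi : R.index = 5 := by
    have h := R.card_mul_index
    rw [hKc', hR] at h
    omega
  obtain ⟨S⟩ : Nonempty (Sylow 2 R) := inferInstance
  set S' : Subgroup K := (S : Subgroup R).map R.subtype
  set M := Subgroup.normalizer (S' : Set K)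
  have hM : 5 ∣ Nat.card M := by
    have h := Subgroup.relIndex_sup_right (H := M) (K := R)
    rw [Sylow.normalizer_sup_eq_top S, Subgroup.relIndex_top_right, hRi] at h
    rw [h]
    exact Subgroup.relIndex_dvd_card _ _
  obtain ⟨a, ha⟩ := exists_prime_orderOf_dvd_card' (G := M) 5 hM
  have ha' : orderOf (a : K) = 5 := (Subgroup.orderOf_coe a).trans ha
  have hS : Nat.card S' = 8 := by
    rw [Nat.card_congr ((S : Subgroup R).equivMapOfInjective R.subtype R.subtype_injective).symm.toEquiv,
      show Nat.card (S : Subgroup R) = Nat.card S from rfl, S.card_eq_multiplicity, hR,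
      show (216 : ℕ) = 27 * 2 ^ 3 by norm_num, Nat.factorization_mul (by norm_num) (by norm_num), Finsupp.add_apply,
      Nat.Prime.factorization_pow (by norm_num), Finsupp.single_eq_same,
      Nat.factorization_eq_zero_of_not_dvd (by norm_num)]
    norm_num
  have := Fintype.ofFinite S'
  let f : S' → S' := fun s => ⟨(a : K) * s * (a : K)⁻¹, (Subgroup.mem_normalizer_iff.1 a.2 s).1 s.2⟩
  have hf : Function.Injective f := fun s t h => Subtype.ext (by
    have e : (a : K) * s * (a : K)⁻¹ = (a : K) * t * (a : K)⁻¹ := congrArg Subtype.val h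
    exact mul_left_cancel (mul_right_cancel e))
  let σ : Equiv.Perm S' := Equiv.ofBijective f (Finite.injective_iff_bijective.1 hf)
  have hσ : ∀ (j : ℕ) (s : S'), ((σ ^ j) s : K) = (a : K) ^ j * s * ((a : K) ^ j)⁻¹ := by
    intro j
    induction j with
    | zero => intro s; simp
    | succ j ih =>
      intro s
      rw [pow_succ', Equiv.Perm.mul_apply]
      show (a : K) * ((σ ^ j) s : K) * (a : K)⁻¹ = _
      rw [ih, pow_succ']
      group
  have hmod := modEq_five σ (Equiv.ext fun s => Subtype.ext (by
    rw [hσ, ← ha', pow_orderOf_eq_one, one_mul, inv_one, mul_one]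
    rfl))
  rw [← Nat.card_eq_fintype_card, hS] at hmod
  obtain ⟨s, hs, hs1⟩ : ∃ s : S', σ s = s ∧ s ≠ 1 := by
    by_contra h
    push Not at h
    have hsub : (Finset.univ.filter fun s => σ s = s) ⊆ {1} := fun s hs => by
      rw [Finset.mem_singleton]
      exact h s (Finset.mem_filter.1 hs).2
    have h1 := Finset.card_le_card hsub
    rw [Finset.card_singleton] at h1
    generalize (Finset.univ.filter fun s => σ s = s).card = c at hmod h1
    interval_cases c <;> exact absurd hmod (by decide)
  have hcomm : (s : K) * a = a * s := by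
    have e : (a : K) * s * (a : K)⁻¹ = s := congrArg Subtype.val hs
    exact (mul_inv_eq_iff_eq_mul.1 e).symm
  have hord : orderOf s ∣ 2 ^ 3 := by
    rw [show 2 ^ 3 = Nat.card S' by rw [hS]; norm_num]
    exact orderOf_dvd_natCard s
  obtain ⟨k, -, hk⟩ := (Nat.dvd_prime_pow Nat.prime_two).1 hord
  have hk0 : k ≠ 0 := fun h => hs1 (orderOf_eq_one_iff.1 (by rw [hk, h, pow_zero]))
  obtain ⟨i, rfl⟩ : ∃ i, k = i + 1 := ⟨k - 1, by omega⟩
  have h2 : (((s : K)) ^ (2 ^ i)) ^ 2 = 1 := by
    rw [← pow_mul, ← pow_succ, ← SubmonoidClass.coe_pow, ← hk, pow_orderOf_eq_one, OneMemClass.coe_one]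
  have h1 := hno (a : K) _ ha' ((show Commute (s : K) a from hcomm).pow_left _).eq h2
  have h7 : s ^ (2 ^ i) = 1 := Subtype.ext (by rw [SubmonoidClass.coe_pow]; exact h1)
  have h8 := orderOf_dvd_of_pow_eq_one h7
  rw [hk] at h8
  have h9 := Nat.pow_dvd_pow_iff_le_right (show 1 < 2 by norm_num) |>.1 h8
  omega

end Cfsg.Lib.Known.MinIndexSU
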