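import Cfsg.Agent.Known.MinIndexSU.Weak

/-!
A point of the moved orbit fixed by the special unitary group of the orthogonal space.
-/

set_option autoImplicit false
set_option linter.unusedSectionVars false
set_option linter.unusedSimpArgs false
set_option linter.style.haveILetI false

namespace Cfsg.Lib.Known.MinIndexSU

open Cfsg.Lib.Classical Cfsg.Lib.Classical.UIso
open scoped commutatorElement

universe u v w

/-- A fixed point of an element of prime order on a stable set of coprime size. -/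
theorem exists_fixed {G : Type*} [Group G] {X : Type w} [MulAction G X] [Fintype X] (g : G) {r : ℕ}
    [hr : Fact r.Prime] (hgr : g ^ r = 1) (O : Set X) (hO : ∀ x ∈ O, g • x ∈ O) (hcop : ¬ r ∣ Nat.card O) :
    ∃ y ∈ O, g • y = y := by
  classical
  let σ : Function.End O := fun x => ⟨g • x.1, hO _ x.2⟩
  have hinj : Function.Injective σ := fun x y e => Subtype.ext (MulAction.injective g (congrArg Subtype.val e))
  let π : Equiv.Perm O := Equiv.ofBijective σ (Finite.injective_iff_bijective.1 hinj)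
  have hπ : ∀ (k : ℕ) (x : O), ((π ^ k) x : X) = g ^ k • (x : X) := by
    intro k
    induction k with
    | zero => intro x; simp
    | succ k ih =>
      intro x
      rw [pow_succ', pow_succ', Equiv.Perm.mul_apply, mul_smul, ← ih]
      rfl
  obtain ⟨a, ha⟩ := Equiv.Perm.exists_fixed_point_of_prime (p := r) (n := 1) (σ := π)
    (by rw [← Nat.card_eq_fintype_card]; exact hcop)
    (Equiv.ext fun x => Subtype.ext (by rw [pow_one, hπ, hgr, one_smul]; rfl))
  exact ⟨a.1, a.2, congrArg Subtype.val ha⟩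

variable {F : Type u} [Field F] [Finite F] {V : Type v} [AddCommGroup V] [Module F V] [FiniteDimensional F V]
  {H : HermSpace F V}

namespace Frame

variable (C : Frame H)

theorem ext_ab (k : C.HU.SIsom) : (C.ext k).1.1.1 C.a = C.a ∧ (C.ext k).1.1.1 C.b = C.b :=
  ⟨extI_orth C.nondeg k.1 C.ab_mem.1, extI_orth C.nondeg k.1 C.ab_mem.2⟩

theorem ext_eq (k : C.HU.SIsom) {g : H.SIsom} (ha : g.1.1 C.a = C.a) (hb : g.1.1 C.b = C.b)
    (hu : ∀ u : C.U, g.1.1 (u : V) = (k.1.1 u : V)) : (C.ext k).1 = g := by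
  refine H.sisom_ext fun x => ?_
  obtain ⟨u, p, r, rfl⟩ := C.decomp x
  rw [map_add, map_add, map_smul, map_smul, map_add, map_add, map_smul, map_smul, C.ext_apply, hu,
    (C.ext_ab k).1, (C.ext_ab k).2, ha, hb]

theorem ext_sT {e : C.U} (he : H.h (e : V) e = 0) {c : F} (hc : c + H.σ c = 0) :
    (C.ext (C.HU.sT (show C.HU.h e e = 0 from he) (show c + C.HU.σ c = 0 from hc))).1 = H.sT he hc := by
  refine C.ext_eq _ ?_ ?_ fun u => ?_
  · rw [H.sT_apply, C.au, mul_zero, zero_smul, add_zero]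
  · rw [H.sT_apply, C.bu, mul_zero, zero_smul, add_zero]
  · rw [H.sT_apply, C.HU.sT_apply]
    rfl

theorem ext_T (k : C.HU.SIsom) (c : skew H) : (C.ext k).1 * C.rho 0 c = C.rho 0 c * (C.ext k).1 := by
  rw [C.ext_rho, map_zero]

/-- An element acting by scalars on the pair and on the orthogonal space. -/
theorem exists_scalar {l ε : F} (hl : l ≠ 0) (hε : ε * H.σ ε = 1) (hdet : ε ^ C.m * l = H.σ l) :
    ∃ g : C.G2, C.lam g = l ∧ (∀ u : C.U, g.1.1.1 (u : V) = ε • (u : V)) ∧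
      (∀ u : C.U, C.tau g u = (H.σ l * ε) • u) := by
  have hε0 : ε ≠ 0 := fun h => by rw [h, zero_mul] at hε; exact zero_ne_one hε
  have hmap : ∀ u v : C.U, C.HU.h (ε • u) (ε • v) = C.HU.h u v := fun u v => by
    rw [C.HU.smul_left, C.HU.smul_right, ← mul_assoc, C.HU_σ, hε, one_mul]
  let k : C.HU.Isom := ⟨LinearEquiv.smulOfUnit (Units.mk0 ε hε0), hmap⟩
  obtain ⟨g, hg, hu, hτ⟩ := C.exists_gel k hl (by
    show ((LinearEquiv.det k.1 : Fˣ) : F) * l = _
    rw [LinearEquiv.coe_det, show k.1.toLinearMap = ε • (LinearMap.id : C.U →ₗ[F] C.U) from rfl, LinearMap.det_smul,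
      C.finrank_U, LinearMap.det_id, mul_one, hdet])
  refine ⟨g, hg, fun u => hu u, fun u => ?_⟩
  rw [hτ, mul_smul]
  rfl

theorem scalar_pow {g : C.G2} {ε : F} (hu : ∀ u : C.U, g.1.1.1 (u : V) = ε • (u : V)) {r : ℕ}
    (h1 : ε ^ r = 1) (h2 : C.lam g ^ r = 1) : g.1 ^ r = 1 := by
  obtain ⟨hl, ha, hb⟩ := C.lam_spec g
  have key : ∀ j : ℕ, (∀ u : C.U, (g.1 ^ j).1.1 (u : V) = ε ^ j • (u : V)) ∧
      (g.1 ^ j).1.1 C.a = C.lam g ^ j • C.a ∧ (g.1 ^ j).1.1 C.b = (H.σ (C.lam g))⁻¹ ^ j • C.b := by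
    intro j
    induction j with
    | zero => simp only [pow_zero, one_smul]; exact ⟨fun u => rfl, rfl, rfl⟩
    | succ j ih =>
      obtain ⟨i1, i2, i3⟩ := ih
      rw [pow_succ']
      refine ⟨fun u => ?_, ?_, ?_⟩
      · rw [H.smul_mul_apply, i1, map_smul, hu, smul_smul, ← pow_succ]
      · rw [H.smul_mul_apply, i2, map_smul, ha, smul_smul, ← pow_succ]
      · rw [H.smul_mul_apply, i3, map_smul, hb, smul_smul, ← pow_succ]
  refine H.sisom_ext fun x => ?_
  obtain ⟨u, p, q, rfl⟩ := C.decomp x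
  rw [map_add, map_add, map_smul, map_smul, (key r).1, (key r).2.1, (key r).2.2, h1, h2, inv_pow, ← map_pow, h2,
    map_one, inv_one, one_smul, one_smul, one_smul]
  rfl

theorem scalar_comm {g : C.G2} {ε : F} (hu : ∀ u : C.U, g.1.1.1 (u : V) = ε • (u : V)) (k : C.HU.SIsom) :
    g.1 * (C.ext k).1 = (C.ext k).1 * g.1 := by
  obtain ⟨hl, ha, hb⟩ := C.lam_spec g
  refine H.sisom_ext fun x => ?_
  obtain ⟨u, p, r, rfl⟩ := C.decomp x
  rw [H.smul_mul_apply, H.smul_mul_apply]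
  simp only [map_add, map_smul, C.ext_apply, (C.ext_ab k).1, (C.ext_ab k).2, ha, hb, hu]

section Action

variable {X : Type w} [MulAction H.SIsom X]

/-- A moved point whose centres contain the isotropic vectors of the orthogonal space. -/
structure Good (y : X) : Prop where
  moved : Z1 C y ≠ ⊤
  iso : ∀ e : C.U, H.h (e : V) e = 0 → (e : V) ∈ cen H y
  upT : ∀ k : C.HU.SIsom, ∃ c, (C.ext k).1 • y = C.rho 0 c • y
  fixL : (4 ≤ C.m ∨ 3 ≤ H.q) → ∀ k : C.HU.SIsom, (C.ext k).1 • y = y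

end Action

end Frame

namespace Small

variable {C : Frame H} {X : Type w} [MulAction H.SIsom X] [Fintype X] (hS : Small C X)

include hS

/-- An element commuting with a fixed-point-free element fixes its fixed point up to the centre. -/
theorem lift {h : C.G2} (hfree : ∀ u, C.tau h u = u → u = 0) {y : X} (hy : Z1 C y ≠ ⊤)
    (hfix : h.1 • y = y) {g : C.G2} (hcomm : h.1 * g.1 = g.1 * h.1) : ∃ c, g.1 • y = C.rho 0 c • y := by
  obtain ⟨u, c, huc⟩ := C.mem_orb.1 (hS.orb_unique hy (hS.moved_G2 g hy))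
  have h1 : C.rho (C.tau h u) (C.nrm h c) • y = g.1 • y := by
    rw [← C.G2_rho, mul_smul, mul_smul, inv_smul_eq_iff.2 hfix.symm, huc, smul_smul, hcomm, mul_smul, hfix]
  have h2 : ((C.rho u c)⁻¹ * C.rho (C.tau h u) (C.nrm h c)) • y = y := by
    rw [mul_smul, h1, ← huc, inv_smul_smul]
  rw [C.rho_inv, C.rho_mul] at h2
  have h3 : -u + C.tau h u ∈ C.Kb y := C.mem_Kb.2 ⟨_, h2⟩
  rw [(hS.regular hy).2.1, AddSubgroup.mem_bot, neg_add_eq_zero] at h3
  obtain rfl := hfree u h3.symm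
  exact ⟨c, huc.symm⟩

theorem T_unique {y : X} (hy : Z1 C y ≠ ⊤) {c d : skew H} (h : C.rho 0 c • y = C.rho 0 d • y) : c = d := by
  have h1 : ((C.rho 0 d)⁻¹ * C.rho 0 c) • y = y := by rw [mul_smul, h, inv_smul_smul]
  rw [C.rho_inv, neg_zero, C.beta_zero_left, sub_zero, C.rho_T] at h1
  have h2 : -d + c ∈ Z1 C y := mem_Z1.2 h1
  rw [(hS.regular hy).1, AddSubgroup.mem_bot, neg_add_eq_zero] at h2
  exact h2.symm

theorem fix_commutator {y : X} (hy : Z1 C y ≠ ⊤) (hup : ∀ k : C.HU.SIsom, ∃ c, (C.ext k).1 • y = C.rho 0 c • y)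
    (k k' : C.HU.SIsom) : (C.ext ⁅k, k'⁆).1 • y = y := by
  choose ζ hζ using hup
  have hmul : ∀ k k' : C.HU.SIsom, ζ (k * k') = ζ k + ζ k' := fun k k' => by
    refine hS.T_unique hy ?_
    rw [← hζ, map_mul]
    show ((C.ext k).1 * (C.ext k').1) • y = _
    rw [mul_smul, hζ, smul_smul, C.ext_T, mul_smul, hζ, smul_smul, C.rho_T, add_comm (ζ k')]
  have hone : ζ 1 = 0 := by
    have h := hmul 1 1
    rw [one_mul] at h
    exact left_eq_add.1 h
  have hinv : ∀ k, ζ k⁻¹ = -ζ k := fun k => by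
    have h := hmul k k⁻¹
    rw [mul_inv_cancel, hone, eq_comm, add_eq_zero_iff_eq_neg'] at h
    exact h
  rw [hζ, commutatorElement_def, hmul, hmul, hmul, hinv, hinv, show ζ k + ζ k' + -ζ k + -ζ k' = 0 by abel,
    C.rho_zero_zero, one_smul]

theorem iso_of_transv {y : X}
    (h : ∀ (e : C.U) (he : C.HU.h e e = 0) (c : F) (hc : c + C.HU.σ c = 0), (C.ext (C.HU.sT he hc)).1 • y = y)
    (e : C.U) (he : H.h (e : V) e = 0) : (e : V) ∈ cen H y := by
  refine ⟨he, fun c hc => ?_⟩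
  rw [MulAction.mem_stabilizer_iff]
  show H.sT he hc • y = y
  rw [← C.ext_sT (e := e) he hc]
  exact h e he c hc

theorem good_of_upT {y : X} (hy : Z1 C y ≠ ⊤) (hup : ∀ k : C.HU.SIsom, ∃ c, (C.ext k).1 • y = C.rho 0 c • y) :
    C.Good y := by
  have hdim := C.finrank_U
  have hm := hS.hm
  refine ⟨hy, hS.iso_of_transv fun e he c hc => ?_, hup, fun hcase => ?_⟩
  · obtain ⟨a, ha, b, hb, hab⟩ := C.HU.exists_commutator_eq_uT (by omega) he hc
    have e1 : C.HU.sT he hc = ⁅(⟨a, ha⟩ : C.HU.SIsom), ⟨b, hb⟩⁆ := Subtype.ext hab.symm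
    rw [e1]
    exact hS.fix_commutator hy hup _ _
  · intro k
    let K : Subgroup C.HU.SIsom := (MulAction.stabilizer H.SIsom y).comap (C.G2.subtype.comp C.ext)
    have hK : K = ⊤ := by
      rw [eq_top_iff, ← C.HU.commutator_SIsom (by
        rcases hcase with h | h
        · left; omega
        · rcases eq_or_lt_of_le hm with h' | h'
          · exact Or.inr ⟨by omega, h⟩
          · left; omega), commutator_def, Subgroup.commutator_le]
      intro a _ b _
      exact hS.fix_commutator hy hup a b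
    exact MulAction.mem_stabilizer_iff.1 (show k ∈ K by rw [hK]; exact Subgroup.mem_top k)

theorem orb_coprime {r : ℕ} (hr : r.Prime) (hrq : ¬ r ∣ H.q) {x : X} (hx : Z1 C x ≠ ⊤) :
    ¬ r ∣ Nat.card (C.orb x) := by
  rw [(hS.regular hx).2.2]
  exact fun h => hrq (hr.dvd_of_dvd_pow h)

/-- A scalar element with no fixed vectors gives a good point. -/
theorem good_of_scalar {l ε : F} (hl : l ≠ 0) (hε : ε * H.σ ε = 1) (hdet : ε ^ C.m * l = H.σ l)
    (hfree : H.σ l * ε ≠ 1) {r : ℕ} (hr : r.Prime) (hrq : ¬ r ∣ H.q) (hl1 : l ^ r = 1) (hε1 : ε ^ r = 1) :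
    ∃ y : X, C.Good y := by
  have : Fact r.Prime := ⟨hr⟩
  obtain ⟨g, hg, hu, hτ⟩ := C.exists_scalar hl hε hdet
  obtain ⟨x, hx⟩ := @exists_moved _ _ _ _ _ _ _ _ X _ C hS.hne hS.hmove
  obtain ⟨y, hy, hfix⟩ := exists_fixed g.1 (C.scalar_pow hu hε1 (by rw [hg]; exact hl1)) (C.orb x)
    (fun z hz => (hS.mem_moved hx).2 (hS.moved_G2 g ((hS.mem_moved hx).1 hz))) (hS.orb_coprime hr hrq hx)
  have hy' := (hS.mem_moved hx).1 hy
  refine ⟨y, hS.good_of_upT hy' fun k => hS.lift (h := g) (fun u hu' => ?_) hy' hfix (C.scalar_comm hu k)⟩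
  rw [hτ] at hu'
  by_contra h0
  have : (H.σ l * ε - 1) • u = 0 := by rw [sub_smul, hu', one_smul, sub_self]
  exact h0 ((smul_eq_zero.1 this).resolve_left (sub_ne_zero.2 hfree))

/-- At least three scalars, or two scalars and a suitable dimension. -/
theorem good_generic (h : 3 ≤ H.q ∨ C.m % 3 ≠ 1) : ∃ y : X, C.Good y := by
  have hq := H.two_le_q
  rcases Nat.lt_or_ge H.q 3 with hq2 | hq3
  · have hq2 : H.q = 2 := by omega
    have hm : C.m % 3 ≠ 1 := h.resolve_left (by omega)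
    obtain ⟨u, hu⟩ := exists_prime_orderOf_dvd_card' (G := Fˣ) 3 (by rw [Nat.card_units, H.card_field, hq2]; norm_num)
    set ω : F := (u : F)
    have h3 : ω ^ 3 = 1 := by rw [← Units.val_pow_eq_pow_val, ← hu, pow_orderOf_eq_one, Units.val_one]
    have hne : ∀ j, j % 3 ≠ 0 → ω ^ j ≠ 1 := fun j hj hc => hj (by
      have h1 : u ^ j = 1 := Units.ext (by rw [Units.val_pow_eq_pow_val]; exact hc)
      have h2 := orderOf_dvd_of_pow_eq_one h1
      rw [hu] at h2
      omega)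
    have hσ : ∀ x, H.σ x = x ^ 2 := fun x => by rw [hS.hpow, hq2]
    refine hS.good_of_scalar (l := ω ^ C.m) (ε := ω) (pow_ne_zero _ u.ne_zero) ?_ ?_ ?_ Nat.prime_three ?_ ?_ h3
    · rw [hσ, ← pow_succ', h3]
    · rw [hσ, ← pow_add, ← pow_mul, mul_two]
    · rw [hσ, ← pow_mul, ← pow_succ]
      exact hne _ (by omega)
    · rw [hq2]; norm_num
    · rw [← pow_mul, mul_comm, pow_mul, h3, one_pow]
  · have hr : (H.q - 1).minFac.Prime := Nat.minFac_prime (by omega)
    have hdvd : (H.q - 1).minFac ∣ H.q - 1 := Nat.minFac_dvd _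
    have : Fact (H.q - 1).minFac.Prime := ⟨hr⟩
    obtain ⟨u, hu⟩ := exists_prime_orderOf_dvd_card' (G := (fixedField H.σ)ˣ) (H.q - 1).minFac
      (by rw [Nat.card_units]; exact hdvd)
    set l : F := ((u : fixedField H.σ) : F) with hldef
    have hl0 : l ≠ 0 := fun h => u.ne_zero (Subtype.ext h)
    have hσl : H.σ l = l := mem_fixedField.1 (u : fixedField H.σ).2
    refine hS.good_of_scalar (l := l) (ε := 1) hl0 ?_ ?_ ?_ hr (fun h => ?_) ?_ (one_pow _)
    · rw [map_one, one_mul]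
    · rw [one_pow, one_mul, hσl]
    · rw [mul_one, hσl]
      intro h
      have h1 : u = 1 := Units.ext (Subtype.ext h)
      rw [h1, orderOf_one] at hu
      exact hr.one_lt.ne hu
    · have h1 := Nat.dvd_sub h hdvd
      rw [show H.q - (H.q - 1) = 1 by omega] at h1
      exact hr.one_lt.ne' (Nat.dvd_one.1 h1)
    · have h1 : u ^ (H.q - 1).minFac = 1 := by rw [← hu, pow_orderOf_eq_one]
      have h2 := congrArg (fun t : (fixedField H.σ)ˣ => ((t : fixedField H.σ) : F)) h1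
      simpa [hldef] using h2

end Small

end Cfsg.Lib.Known.MinIndexSU
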