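import Cfsg.Agent.Known.MinIndexSU.Fixed

/-!
Two fixed scalars and dimension divisible by three: the fixed points of elements of order three.
-/

set_option autoImplicit false
set_option linter.unusedSectionVars false
set_option linter.unusedSimpArgs false
set_option linter.style.haveILetI false

namespace Cfsg.Lib.Known.MinIndexSU

open Cfsg.Lib.Classical Cfsg.Lib.Classical.UIso

universe u v w

variable {F : Type u} [Field F] [Finite F] {V : Type v} [AddCommGroup V] [Module F V] [FiniteDimensional F V]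
  {H : HermSpace F V}

/-- A cube root of unity in the field of four elements. -/
structure Omega (C : Frame H) where
  ω : F
  h3 : ω ^ 3 = 1
  h1 : ω ≠ 1
  hσ : ∀ x, H.σ x = x ^ 2
  hm : C.m % 3 = 1
  hm4 : 4 ≤ C.m
  h2 : (2 : F) = 0
  hq : H.q = 2

theorem exists_omega (C : Frame H) (hpow : ∀ x, H.σ x = x ^ H.q) (hq : H.q = 2) (hm : C.m % 3 = 1)
    (hm4 : 4 ≤ C.m) : Nonempty (Omega C) := by
  obtain ⟨u, hu⟩ := exists_prime_orderOf_dvd_card' (G := Fˣ) 3 (by rw [Nat.card_units, H.card_field, hq]; norm_num)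
  refine ⟨⟨(u : F), ?_, fun h => ?_, fun x => by rw [hpow, hq], hm, hm4, ?_, hq⟩⟩
  · rw [← Units.val_pow_eq_pow_val, ← hu, pow_orderOf_eq_one, Units.val_one]
  · have : u = 1 := Units.ext h
    rw [this, orderOf_one] at hu
    exact absurd hu (by norm_num)
  · have := Fintype.ofFinite F
    have h4 : Fintype.card F % 2 = 0 := by rw [← Nat.card_eq_fintype_card, H.card_field, hq]; rfl
    have hr := (FiniteField.even_card_iff_char_two (F := F)).2 h4
    have := ringChar.Nat.cast_ringChar (R := F)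
    rw [hr] at this
    exact_mod_cast this

namespace Omega

variable {C : Frame H} (O : Omega C)

theorem ne_zero : O.ω ≠ 0 := fun h => by
  have := O.h3
  rw [h, zero_pow three_ne_zero] at this
  exact zero_ne_one this

theorem norm_one : O.ω * H.σ O.ω = 1 := by rw [O.hσ, ← pow_succ', O.h3]

theorem quad : O.ω ^ 2 + O.ω + 1 = 0 := by
  refine (mul_eq_zero.1 (show (O.ω - 1) * (O.ω ^ 2 + O.ω + 1) = 0 by linear_combination O.h3)).resolve_left
    (sub_ne_zero.2 O.h1)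

theorem eq_one_of_norm (O : Omega C) {a : F} (ha : a ≠ 0) : a * H.σ a = 1 := by
  have := Fintype.ofFinite F
  have h := FiniteField.pow_card_sub_one_eq_one a ha
  rw [← Nat.card_eq_fintype_card, H.card_field, O.hq] at h
  rw [O.hσ, ← pow_succ']
  exact h

theorem inv_mem : (Units.mk0 O.ω O.ne_zero)⁻¹ ∈ (normUnits C.HU.σ).ker := by
  refine Subgroup.inv_mem _ ?_
  rw [MonoidHom.mem_ker]
  exact Units.ext O.norm_one

/-- The scalar `ω` on the orthogonal space. -/
noncomputable def scal : C.HU.Isom :=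
  ⟨LinearEquiv.smulOfUnit (Units.mk0 O.ω O.ne_zero), fun u v => by
    show C.HU.h (O.ω • u) (O.ω • v) = C.HU.h u v
    rw [C.HU.smul_left, C.HU.smul_right, ← mul_assoc, C.HU_σ, O.norm_one, one_mul]⟩

/-- The element fixing a vector and multiplying its orthogonal by `ω`. -/
noncomputable def kw {w : C.U} (hw : C.HU.h w w = 1) : C.HU.SIsom :=
  ⟨C.HU.qrefl hw ⟨_, O.inv_mem⟩ * O.scal, by
    rw [HermSpace.SIsom, MonoidHom.mem_ker, map_mul, C.HU.det_qrefl]
    refine Units.ext ?_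
    rw [Units.val_mul, Units.val_inv_eq_inv_val, Units.val_mk0, Units.val_one]
    show O.ω⁻¹ * ((LinearEquiv.det O.scal.1 : Fˣ) : F) = 1
    rw [LinearEquiv.coe_det, show O.scal.1.toLinearMap = O.ω • (LinearMap.id : C.U →ₗ[F] C.U) from rfl,
      LinearMap.det_smul, C.finrank_U, LinearMap.det_id, mul_one]
    obtain ⟨j, hj⟩ : ∃ j, C.m = 3 * j + 1 := ⟨C.m / 3, by have := O.hm; omega⟩
    rw [hj, pow_add, pow_mul, O.h3, one_pow, one_mul, pow_one, inv_mul_cancel₀ O.ne_zero]⟩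

theorem kw_apply {w : C.U} (hw : C.HU.h w w = 1) (u : C.U) :
    (O.kw hw).1.1 u = O.ω • u + ((1 - O.ω) * C.HU.h u w) • w := by
  show (C.HU.qrefl hw ⟨_, O.inv_mem⟩ * O.scal).1 u = _
  rw [C.HU.mul_apply', C.HU.qrefl_apply]
  show O.ω • u + (((((Units.mk0 O.ω O.ne_zero)⁻¹ : Fˣ) : F) - 1) * C.HU.h (O.ω • u) w) • w = _
  rw [Units.val_inv_eq_inv_val, Units.val_mk0, C.HU.smul_left]
  congr 2
  field_simp [O.ne_zero]

theorem kw_fix {w : C.U} (hw : C.HU.h w w = 1) {u : C.U} (hu : (O.kw hw).1.1 u = u) : u = C.HU.h u w • w := by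
  rw [O.kw_apply] at hu
  refine smul_right_injective C.U (sub_ne_zero.2 O.h1) ?_
  show (O.ω - 1) • u = (O.ω - 1) • C.HU.h u w • w
  linear_combination (norm := module) hu

theorem kw_self {w : C.U} (hw : C.HU.h w w = 1) : (O.kw hw).1.1 w = w := by
  rw [O.kw_apply, hw]; module

theorem kw_orth {w : C.U} (hw : C.HU.h w w = 1) {u : C.U} (hu : C.HU.h u w = 0) :
    (O.kw hw).1.1 u = O.ω • u := by
  rw [O.kw_apply, hu, mul_zero, zero_smul, add_zero]

theorem kw_cube {w : C.U} (hw : C.HU.h w w = 1) : O.kw hw ^ 3 = 1 := by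
  refine C.HU.sisom_ext fun u => ?_
  obtain ⟨t, s, ht, rfl⟩ : ∃ (t : C.U) (s : F), C.HU.h t w = 0 ∧ u = s • w + t :=
    ⟨u - C.HU.h u w • w, C.HU.h u w, by rw [C.HU.sub_left, C.HU.smul_left, hw, mul_one, sub_self], by abel⟩
  have hs : ∀ s : F, C.HU.h (s • t) w = 0 := fun s => by rw [C.HU.smul_left, ht, mul_zero]
  rw [pow_succ, pow_two, C.HU.smul_mul_apply, C.HU.smul_mul_apply]
  simp only [map_add, map_smul, O.kw_self, O.kw_orth hw ht, O.kw_orth hw (hs _), smul_smul]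
  rw [show O.ω * (O.ω * O.ω) = 1 by rw [← O.h3]; ring, one_smul]
  rfl

/-- Elements moving the vector by a scalar commute. -/
theorem kw_comm {w : C.U} (hw : C.HU.h w w = 1) {g : C.HU.SIsom} {ζ : F} (hζ : ζ * H.σ ζ = 1)
    (hg : g.1.1 w = ζ • w) : g * O.kw hw = O.kw hw * g := by
  refine C.HU.sisom_ext fun u => ?_
  have hgu : C.HU.h (g.1.1 u) w = ζ * C.HU.h u w := by
    have h1 := C.HU.map_form g.1 u w
    rw [hg, C.HU.smul_right, C.HU_σ] at h1
    rw [← h1, ← mul_assoc, hζ, one_mul]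
  rw [C.HU.smul_mul_apply, C.HU.smul_mul_apply, O.kw_apply, O.kw_apply, map_add, map_smul, map_smul, hg, hgu,
    smul_smul]
  module

theorem kw_comm_kw {w w' : C.U} (hw : C.HU.h w w = 1) (hw' : C.HU.h w' w' = 1) (h : C.HU.h w w' = 0) :
    O.kw hw' * O.kw hw = O.kw hw * O.kw hw' := O.kw_comm hw O.norm_one (O.kw_orth hw' h)

theorem kw_conj {w w' : C.U} (hw : C.HU.h w w = 1) (hw' : C.HU.h w' w' = 1) (g : C.HU.SIsom)
    (hg : g.1.1 w = w') : g * O.kw hw = O.kw hw' * g := by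
  refine C.HU.sisom_ext fun u => ?_
  rw [C.HU.smul_mul_apply, C.HU.smul_mul_apply, O.kw_apply, O.kw_apply, map_add, map_smul, map_smul, hg,
    show C.HU.h (g.1.1 u) w' = C.HU.h u w by rw [← hg]; exact C.HU.map_form g.1 u w]

end Omega

namespace Small

variable {C : Frame H} {X : Type w} [MulAction H.SIsom X] [Fintype X] (hS : Small C X) (O : Omega C)

/-- The moved points fixed by the element of a vector. -/
def FixW {w : C.U} (hw : C.HU.h w w = 1) : Set X :=
  {z | Z1 C z ≠ ⊤ ∧ (C.ext (O.kw hw)).1 • z = z}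

include hS

theorem FixW_stable {w : C.U} (hw : C.HU.h w w = 1) {g : C.HU.SIsom} (hg : g * O.kw hw = O.kw hw * g) {z : X}
    (hz : z ∈ FixW O hw) : (C.ext g).1 • z ∈ FixW O hw := by
  refine ⟨hS.moved_G2 _ hz.1, ?_⟩
  rw [smul_smul, ← Subgroup.coe_mul, ← map_mul, ← hg, map_mul, Subgroup.coe_mul, mul_smul, hz.2]

theorem param {w : C.U} (hw : C.HU.h w w = 1) {y z : X} (hy : y ∈ FixW O hw) (hz : z ∈ FixW O hw) :
    ∃ (u : C.U) (c : skew H), u = C.HU.h u w • w ∧ C.rho u c • y = z := by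
  obtain ⟨u, c, huc⟩ := C.mem_orb.1 (hS.orb_unique hy.1 hz.1)
  have h1 : C.rho ((O.kw hw).1.1 u) c • y = z := by
    conv_rhs => rw [← hz.2, ← huc, smul_smul, C.ext_rho, mul_smul, hy.2]
  have h2 : ((C.rho u c)⁻¹ * C.rho ((O.kw hw).1.1 u) c) • y = y := by rw [mul_smul, h1, ← huc, inv_smul_smul]
  rw [C.rho_inv, C.rho_mul] at h2
  have h3 : -u + (O.kw hw).1.1 u ∈ C.Kb y := C.mem_Kb.2 ⟨_, h2⟩
  rw [(hS.regular hy.1).2.1, AddSubgroup.mem_bot, neg_add_eq_zero] at h3
  exact ⟨u, c, O.kw_fix hw h3.symm, huc⟩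

theorem FixW_nonempty {w : C.U} (hw : C.HU.h w w = 1) : (FixW (X := X) O hw).Nonempty := by
  have : Fact (Nat.Prime 3) := ⟨Nat.prime_three⟩
  obtain ⟨x, hx⟩ := @exists_moved _ _ _ _ _ _ _ _ X _ C hS.hne hS.hmove
  obtain ⟨y, hy, hfix⟩ := exists_fixed (C.ext (O.kw hw)).1 (r := 3)
    (by rw [← SubmonoidClass.coe_pow, ← map_pow, O.kw_cube, map_one]; rfl) (C.orb x)
    (fun z hz => (hS.mem_moved hx).2 (hS.moved_G2 _ ((hS.mem_moved hx).1 hz)))
    (hS.orb_coprime Nat.prime_three (by rw [O.hq]; norm_num) hx)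
  exact ⟨y, (hS.mem_moved hx).1 hy, hfix⟩

theorem card_FixW {w : C.U} (hw : C.HU.h w w = 1) : Nat.card (FixW (X := X) O hw) = 8 := by
  obtain ⟨y, hy⟩ := hS.FixW_nonempty O hw
  have hmem : ∀ p : F × skew H, C.rho (p.1 • w) p.2 • y ∈ FixW O hw := fun p => by
    refine ⟨fun h => hy.1 (((C.inv_orb (C.mem_orb.2 ⟨_, _, rfl⟩)).1).symm.trans h), ?_⟩
    rw [smul_smul, C.ext_rho, mul_smul, hy.2, map_smul, O.kw_self]
  suffices hbij : Function.Bijective (fun p : F × skew H => (⟨_, hmem p⟩ : FixW (X := X) O hw)) by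
    rw [← Nat.card_eq_of_bijective _ hbij, Nat.card_prod, card_skew, H.card_field, O.hq]
    norm_num
  refine ⟨?_, ?_⟩
  · rintro ⟨s, c⟩ ⟨s', c'⟩ h
    have h' : C.rho (s • w) c • y = C.rho (s' • w) c' • y := congrArg Subtype.val h
    have h2 : ((C.rho (s • w) c)⁻¹ * C.rho (s' • w) c') • y = y := by rw [mul_smul, ← h', inv_smul_smul]
    rw [C.rho_inv, C.rho_mul] at h2
    have h3 : -(s • w) + s' • w ∈ C.Kb y := C.mem_Kb.2 ⟨_, h2⟩
    rw [(hS.regular hy.1).2.1, AddSubgroup.mem_bot, neg_add_eq_zero] at h3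
    have hw0 : w ≠ 0 := fun h => by rw [h, C.HU.zero_left] at hw; exact zero_ne_one hw
    obtain rfl : s = s' := smul_left_injective F hw0 h3
    have h4 : C.rho (0 : C.U) c • y = C.rho 0 c' • y := by
      have h5 := congrArg (fun t => C.rho (-(s • w)) 0 • t) h'
      simp only [smul_smul, C.rho_mul, neg_add_cancel, zero_add] at h5
      have e : ∀ d : skew H, C.rho 0 (d + C.beta (-(s • w)) (s • w)) =
          C.rho 0 (C.beta (-(s • w)) (s • w)) * C.rho 0 d := fun d => by rw [C.rho_T, add_comm]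
      rw [e, e, mul_smul, mul_smul, smul_left_cancel_iff] at h5
      exact h5
    rw [hS.T_unique hy.1 h4]
  · rintro ⟨z, hz⟩
    obtain ⟨u, c, hu, huc⟩ := hS.param O hw hy hz
    refine ⟨(C.HU.h u w, c), Subtype.ext ?_⟩
    show C.rho (C.HU.h u w • w) c • y = z
    rw [← hu]
    exact huc

theorem exists_common {w w' : C.U} (hw : C.HU.h w w = 1) (hw' : C.HU.h w' w' = 1) (h : C.HU.h w w' = 0) :
    ∃ y : X, y ∈ FixW O hw ∧ y ∈ FixW O hw' := by
  have : Fact (Nat.Prime 3) := ⟨Nat.prime_three⟩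
  obtain ⟨y, hy, hfix⟩ := exists_fixed (C.ext (O.kw hw')).1 (r := 3)
    (by rw [← SubmonoidClass.coe_pow, ← map_pow, O.kw_cube, map_one]; rfl) (FixW (X := X) O hw)
    (fun z hz => hS.FixW_stable O hw (O.kw_comm_kw hw hw' h) hz) (by rw [hS.card_FixW]; norm_num)
  exact ⟨y, hy, hy.1, hfix⟩

/-- An element commuting with both elements moves a common fixed point by the centre. -/
theorem lift_pair {w w' : C.U} (hw : C.HU.h w w = 1) (hw' : C.HU.h w' w' = 1) (h : C.HU.h w w' = 0) {y : X}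
    (hy : y ∈ FixW O hw) (hy' : y ∈ FixW O hw') {g : C.HU.SIsom} (hg : g * O.kw hw = O.kw hw * g)
    (hg' : g * O.kw hw' = O.kw hw' * g) : ∃ c, (C.ext g).1 • y = C.rho 0 c • y := by
  have hz := hS.FixW_stable O hw hg hy
  have hz' := hS.FixW_stable O hw' hg' hy'
  obtain ⟨u, c, hu, huc⟩ := hS.param O hw hy hz
  obtain ⟨u', c', hu', huc'⟩ := hS.param O hw' hy' hz'
  have h2 : ((C.rho u c)⁻¹ * C.rho u' c') • y = y := by rw [mul_smul, huc', ← huc, inv_smul_smul]
  rw [C.rho_inv, C.rho_mul] at h2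
  have h3 : -u + u' ∈ C.Kb y := C.mem_Kb.2 ⟨_, h2⟩
  rw [(hS.regular hy.1).2.1, AddSubgroup.mem_bot, neg_add_eq_zero] at h3
  subst h3
  have h4 : C.HU.h u w = 0 := by rw [hu', C.HU.smul_left, C.HU.eq_zero_symm h, mul_zero]
  rw [h4, zero_smul] at hu
  exact ⟨c, by rw [← hu]; exact huc.symm⟩

/-- A third element fixes the common point. -/
theorem third_fix {w w' w'' : C.U} (hw : C.HU.h w w = 1) (hw' : C.HU.h w' w' = 1) (hw'' : C.HU.h w'' w'' = 1)
    (h : C.HU.h w w' = 0) (h1 : C.HU.h w w'' = 0) (h2 : C.HU.h w' w'' = 0) {y : X}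
    (hy : y ∈ FixW O hw) (hy' : y ∈ FixW O hw') : y ∈ FixW O hw'' := by
  obtain ⟨c, hc⟩ := hS.lift_pair O hw hw' h hy hy' (O.kw_comm_kw hw hw'' h1) (O.kw_comm_kw hw' hw'' h2)
  refine ⟨hy.1, ?_⟩
  have h3 : ((C.ext (O.kw hw'')).1 ^ 3) • y = y := by
    rw [← SubmonoidClass.coe_pow, ← map_pow, O.kw_cube, map_one]
    exact one_smul _ _
  have step : ∀ d : skew H, (C.ext (O.kw hw'')).1 • C.rho 0 d • y = C.rho 0 (d + c) • y := fun d => by
    rw [smul_smul, C.ext_T, mul_smul, hc, smul_smul, C.rho_T]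
  rw [pow_succ, pow_two, mul_smul, hc, mul_smul, step, step] at h3
  have h4 := hS.T_unique hy.1 (h3.trans (by rw [C.rho_zero_zero, one_smul]) : _ = C.rho 0 0 • y)
  have hcc : c + c = 0 := Subtype.ext (by show (c : F) + c = 0; linear_combination (c : F) * O.h2)
  rw [hcc, zero_add] at h4
  rw [hc, h4, C.rho_zero_zero, one_smul]

end Small

end Cfsg.Lib.Known.MinIndexSU
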