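import Cfsg.Agent.Known.MinIndexSU.Regular

/-!
Dimension four: no transitive action of degree below `q⁴ + q³`.
-/

set_option autoImplicit false
set_option linter.unusedSectionVars false
set_option linter.unusedSimpArgs false
set_option linter.style.haveILetI false

namespace Cfsg.Lib.Known.MinIndexSU

open Cfsg.Lib.Classical Cfsg.Lib.Classical.UIso

universe u v w

variable {F : Type u} [Field F] [Finite F] {V : Type v} [AddCommGroup V] [Module F V] [FiniteDimensional F V]
  {H : HermSpace F V}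

theorem exists_quartic (h2 : (2 : F) = 0) (a : F) : ∃ l : F, l ^ 4 = a := by
  have hinj : Function.Injective fun l : F => l ^ 4 := by
    have hsq : Function.Injective fun l : F => l ^ 2 := fun a b e => by
      have e' : a ^ 2 = b ^ 2 := e
      have h : (a - b) ^ 2 = 0 := by linear_combination e' + (b ^ 2 - a * b) * h2
      exact sub_eq_zero.1 (pow_eq_zero_iff two_ne_zero |>.1 h)
    intro a b e
    exact hsq (hsq (by show (a ^ 2) ^ 2 = (b ^ 2) ^ 2; rw [← pow_mul, ← pow_mul]; exact e))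
  exact (Finite.injective_iff_surjective.1 hinj) a

namespace Frame

variable (C : Frame H)

/-- In characteristic two the elements with factor of norm one are transitive on isotropic vectors. -/
theorem exists_tau_iso_two (hm : C.m = 2) (h2 : (2 : F) = 0) {x y : C.U} (hx : x ≠ 0) (hy : y ≠ 0)
    (hxx : H.h (x : V) x = 0) (hyy : H.h (y : V) y = 0) : ∃ g ∈ C.G1, C.tau g x = y := by
  obtain ⟨k0, hk0⟩ := C.HU.exists_isom_same_norm hx hy (hyy.trans hxx.symm)
  set δ : F := (C.HU.detHom k0 : F)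
  have hδ : δ * H.σ δ = 1 := congrArg Units.val (MonoidHom.mem_ker.1 (C.HU.det_mem_norm_ker k0))
  obtain ⟨l, hl⟩ := exists_quartic h2 δ⁻¹
  have hδ0 : δ ≠ 0 := fun h => by rw [h, zero_mul] at hδ; exact zero_ne_one hδ
  have hl0 : l ≠ 0 := fun h => by
    rw [h, zero_pow four_ne_zero, eq_comm, inv_eq_zero] at hl
    exact hδ0 hl
  have hN : l * H.σ l = 1 := by
    have h4 : (l * H.σ l) ^ 4 = 1 := by
      rw [mul_pow, ← map_pow, hl, map_inv₀, ← mul_inv, hδ, inv_one]
    have hsq : ∀ a : F, a ^ 2 = 1 → a = 1 := fun a ha => by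
      have h : (a - 1) ^ 2 = 0 := by linear_combination ha + (1 - a) * h2
      exact sub_eq_zero.1 (pow_eq_zero_iff two_ne_zero |>.1 h)
    exact hsq _ (hsq _ (by rw [← pow_mul]; exact h4))
  have hmap : ∀ u v : C.U, C.HU.h (l • k0.1 u) (l • k0.1 v) = C.HU.h u v := fun u v => by
    rw [C.HU.smul_left, C.HU.smul_right, C.HU.map_form, ← mul_assoc, C.HU_σ, hN, one_mul]
  let k : C.HU.Isom := ⟨k0.1.trans (LinearEquiv.smulOfUnit (Units.mk0 l hl0)), hmap⟩
  have hdet : (C.HU.detHom k : F) = l ^ 2 * δ := by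
    show ((LinearEquiv.det k.1 : Fˣ) : F) = _
    rw [LinearEquiv.coe_det, show k.1.toLinearMap = l • k0.1.toLinearMap from rfl, LinearMap.det_smul, C.finrank_U,
      hm, ← LinearEquiv.coe_det]
    rfl
  obtain ⟨g, hg, -, hτ⟩ := C.exists_gel k hl0 (by
    rw [hdet]
    have : H.σ l = l⁻¹ := eq_inv_of_mul_eq_one_right hN
    rw [this]
    field_simp
    linear_combination δ * hl + mul_inv_cancel₀ hδ0)
  refine ⟨g, by show C.lam g * H.σ (C.lam g) = 1; rw [hg]; exact hN, ?_⟩
  rw [hτ]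
  show H.σ l • l • k0.1 x = y
  rw [hk0, smul_smul, mul_comm, hN, one_smul]

theorem orth_line (hm : C.m = 2) {e x : C.U} (he0 : e ≠ 0) (he : H.h (e : V) e = 0) (hx : H.h (x : V) e = 0) :
    x ∈ Submodule.span F ({e} : Set C.U) := by
  have hle : Submodule.span F ({e} : Set C.U) ≤ C.HU.orth (Submodule.span F {e}) := by
    rw [Submodule.span_singleton_le_iff_mem, C.HU.mem_orth_span]
    rintro _ rfl
    exact he
  have heq := Submodule.eq_of_le_of_finrank_eq hle (by
    rw [C.HU.finrank_orth, finrank_span_singleton he0, C.finrank_U, hm])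
  rw [heq, C.HU.mem_orth_span]
  rintro _ rfl
  exact hx

theorem card_isoPtU (hpow : ∀ x, H.σ x = x ^ H.q) (hm : C.m = 2) : Nat.card C.HU.IsoPt = H.q + 1 := by
  have h := card_isoPt_mul (H := C.HU)
  rw [card_iso_vectors (H := C.HU) (C.hpowU hpow), C.finrank_U, hm] at h
  change Nat.card C.HU.IsoPt * (H.q ^ 2 - 1) = isoCount H.q 2 at h
  rw [show isoCount H.q 2 = (H.q + 1) * (H.q ^ 2 - 1) by
    simp only [isoCount, if_pos (show Even 2 by decide)]; rw [Nat.add_one_sub_one, pow_one, mul_comm]] at h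
  exact Nat.eq_of_mul_eq_mul_right (show 0 < H.q ^ 2 - 1 by
    have := H.two_le_q
    have : 4 ≤ H.q ^ 2 := by nlinarith
    omega) h

section Action

variable {X : Type w} [MulAction H.SIsom X] [Fintype X]

theorem imgs_ge_q (hpow : ∀ x, H.σ x = x ^ H.q) (hm : C.m = 2) {x : X} (hZ : Z1 C x ≠ ⊤)
    (hK : C.Kb x ≠ ⊥) : H.q ≤ (C.imgs C.G1 (C.Kb x)).card := by
  classical
  by_contra hlt
  push Not at hlt
  set K := C.Kb x with hKdef
  have hq := H.two_le_q
  have hk := C.kb_le x hZ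
  rw [← hKdef, hm] at hk
  have : Finite C.HU.IsoPt := Subtype.finite
  have := Fintype.ofFinite C.HU.IsoPt
  let S : C.HU.IsoPt → Type v := fun p => {w : K // (w : C.U) ∈ Submodule.span F ({p.1.rep} : Set C.U)}
  have hsq : ∀ p, Nat.card K ≤ Nat.card (S p) * Nat.card (S p) := by
    intro p
    set e := p.1.rep with he
    have he0 : e ≠ 0 := p.1.rep_nonzero
    have hee : C.HU.h e e = 0 := p.2
    have := Fintype.ofFinite (skew H)
    obtain ⟨c1, -, c2, -, hne, heq⟩ := Finset.exists_ne_map_eq_of_card_lt_of_maps_to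
      (s := (Finset.univ : Finset (skew H))) (t := C.imgs C.G1 K)
      (f := fun c => K.map (C.tau (C.ext (C.HU.sT hee (show (c : F) + C.HU.σ (c : F) = 0 from skew_add c)))))
      (by rw [Finset.card_univ, ← Nat.card_eq_fintype_card, card_skew]; exact hlt)
      (fun c _ => C.mem_imgs.2 ⟨_, C.ext_G1 _, rfl⟩)
    set c : F := (c1 : F) - c2
    have hc0 : c ≠ 0 := fun h => hne (Subtype.ext (sub_eq_zero.1 h))
    have happ : ∀ w : K, (c * C.HU.h w e) • e ∈ K := fun w => by
      have h1 := (C.mem_map_tau (g := C.ext (C.HU.sT hee (show (c1 : F) + C.HU.σ (c1 : F) = 0 from skew_add c1)))).2 w.2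
      try simp only at heq
      rw [heq] at h1
      obtain ⟨w', hw', e'⟩ := h1
      rw [C.tau_ext, C.tau_ext, C.HU.sT_apply, C.HU.sT_apply] at e'
      have h3 := congrArg (fun t => C.HU.h t e) e'
      simp only [C.HU.add_left, C.HU.smul_left, hee, mul_zero, add_zero] at h3
      rw [h3] at e'
      have h4 := K.sub_mem hw' w.2
      have e2 : w' - (w : C.U) = (c * C.HU.h w e) • e := by
        rw [sub_eq_iff_eq_add]
        linear_combination (norm := (simp only [c]; module)) e'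
      rwa [e2] at h4
    let φ : K →+ K :=
      { toFun := fun w => ⟨_, happ w⟩
        map_zero' := Subtype.ext (by show (c * C.HU.h 0 e) • e = 0; rw [C.HU.zero_left, mul_zero, zero_smul])
        map_add' := fun a b => Subtype.ext (by
          show (c * C.HU.h ((a : C.U) + b) e) • e = (c * C.HU.h a e) • e + (c * C.HU.h b e) • e
          rw [C.HU.add_left, mul_add, add_smul]) }
    have hker : ∀ w : φ.ker, (w.1 : C.U) ∈ Submodule.span F ({e} : Set C.U) := fun w => by
      refine C.orth_line hm he0 hee ?_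
      have h : (c * C.HU.h (w.1 : C.U) e) • e = 0 := congrArg Subtype.val w.2
      exact (mul_eq_zero.1 ((smul_eq_zero.1 h).resolve_right he0)).resolve_left hc0
    have hran : ∀ w : φ.range, ((w.1 : K) : C.U) ∈ Submodule.span F ({e} : Set C.U) := fun w => by
      obtain ⟨t, ht⟩ := w.2
      rw [← ht]
      exact Submodule.smul_mem _ _ (Submodule.mem_span_singleton_self _)
    rw [← φ.ker.card_mul_index, AddSubgroup.index_ker]
    exact Nat.mul_le_mul
      (Nat.card_le_card_of_injective (fun w : φ.ker => (⟨w.1, hker w⟩ : S p))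
        fun a b h => Subtype.ext (congrArg Subtype.val h :))
      (Nat.card_le_card_of_injective (fun w : φ.range => (⟨w.1, hran w⟩ : S p))
        fun a b h => Subtype.ext (congrArg Subtype.val h :))
  let T : C.HU.IsoPt → Type v := fun p => {w : S p // w.1 ≠ 0}
  have hT : ∀ p, Nat.card (T p) = Nat.card (S p) - 1 := fun p => by
    have := Fintype.ofFinite (S p)
    let z : S p := ⟨0, by simp⟩
    have hz : Nat.card (T p) = Nat.card {w : S p // w ≠ z} :=
      Nat.card_congr (Equiv.subtypeEquivRight fun w => not_congr ⟨fun h => Subtype.ext h, fun h => by rw [h]⟩)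
    rw [hz, Nat.card_eq_fintype_card, Nat.card_eq_fintype_card, Fintype.card_subtype, Finset.filter_ne',
      Finset.card_erase_of_mem (Finset.mem_univ _), Finset.card_univ]
  let ψ : (Σ p, T p) → {w : K // w ≠ 0} := fun t => ⟨t.2.1.1, t.2.2⟩
  have hψ : Function.Injective ψ := by
    rintro ⟨p, ⟨⟨w, hw⟩, hw0⟩⟩ ⟨p', ⟨⟨w', hw'⟩, hw0'⟩⟩ h
    obtain rfl : w = w' := congrArg Subtype.val h
    obtain rfl : p = p' := by
      obtain ⟨s, hs⟩ := Submodule.mem_span_singleton.1 hw
      obtain ⟨t, ht⟩ := Submodule.mem_span_singleton.1 hw'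
      have hs0 : s ≠ 0 := fun h => hw0 (Subtype.ext (by rw [← hs, h, zero_smul]; rfl))
      refine Subtype.ext ?_
      rw [← Projectivization.mk_rep p.1, ← Projectivization.mk_rep p'.1, Projectivization.mk_eq_mk_iff']
      exact ⟨s⁻¹ * t, by rw [mul_smul, ht, ← hs, inv_smul_smul₀ hs0]⟩
    rfl
  have hKc : Nat.card {w : K // w ≠ 0} = Nat.card K - 1 := by
    have := Fintype.ofFinite K
    rw [Nat.card_eq_fintype_card, Nat.card_eq_fintype_card, Fintype.card_subtype, Finset.filter_ne',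
      Finset.card_erase_of_mem (Finset.mem_univ _), Finset.card_univ]
  have hsum := Nat.card_le_card_of_injective ψ hψ
  rw [hKc, Nat.card_sigma] at hsum
  simp only [hT] at hsum
  have hpts := C.card_isoPtU hpow hm
  obtain ⟨p0, -, hmin⟩ := Finset.exists_min_image (Finset.univ : Finset C.HU.IsoPt) (fun p => Nat.card (S p))
    (by rw [Finset.univ_nonempty_iff]; exact (Nat.card_pos_iff.1 (by rw [hpts]; omega)).1)
  have hlow : (H.q + 1) * (Nat.card (S p0) - 1) ≤ ∑ p : C.HU.IsoPt, (Nat.card (S p) - 1) := by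
    rw [← hpts, Nat.card_eq_fintype_card, ← Finset.card_univ, ← smul_eq_mul]
    exact Finset.card_nsmul_le_sum _ _ _ fun p hp => Nat.sub_le_sub_right (hmin p hp) 1
  have h2k : 2 ≤ Nat.card K := by
    have h0 : 0 < Nat.card K := Nat.card_pos
    have h1 : Nat.card K ≠ 1 := fun h => hK (AddSubgroup.eq_bot_of_card_eq _ h)
    omega
  have hs := hsq p0
  have htq : H.q ≤ Nat.card (S p0) := by
    by_contra h
    push Not at h
    have h' := hlow.trans hsum
    have h'' : Nat.card (S p0) * Nat.card (S p0) ≥ 2 := h2k.trans hs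
    generalize Nat.card (S p0) = t at h h' h'' hs
    obtain ⟨r, rfl⟩ : ∃ r, t = r + 2 := ⟨t - 2, by rcases t with _ | _ | t <;> simp at h'' ⊢⟩
    have hb : (r + 4) * (r + 1) ≤ (H.q + 1) * (r + 2 - 1) := Nat.mul_le_mul (by omega) (by omega)
    have hc : Nat.card K - 1 ≤ (r + 2) * (r + 2) - 1 := Nat.sub_le_sub_right hs 1
    have hd : (r + 2) * (r + 2) = (r + 3) * (r + 1) + 1 := by ring
    have he : (r + 4) * (r + 1) = (r + 3) * (r + 1) + (r + 1) := by ring
    omega
  have hkq : Nat.card K = H.q ^ 2 := by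
    have h' := hlow.trans hsum
    have h'' : (H.q + 1) * (H.q - 1) ≤ (H.q + 1) * (Nat.card (S p0) - 1) := Nat.mul_le_mul_left _ (by omega)
    obtain ⟨r, hr⟩ : ∃ r, H.q = r + 1 := ⟨H.q - 1, by omega⟩
    rw [hr] at h'' hk ⊢
    have : (r + 1) ^ 2 = (r + 1 + 1) * (r + 1 - 1) + 1 := by rw [Nat.add_sub_cancel]; ring
    rw [hr] at h'
    omega
  have htq' : Nat.card (S p0) = H.q := by
    have h' := hlow.trans hsum
    rw [hkq] at h'
    by_contra hne
    have h'' : (H.q + 1) * H.q ≤ (H.q + 1) * (Nat.card (S p0) - 1) := Nat.mul_le_mul_left _ (by omega)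
    have : H.q ^ 2 < (H.q + 1) * H.q := by rw [sq, add_mul, one_mul]; omega
    omega
  have hsurj : Function.Surjective ψ := by
    refine (hψ.bijective_of_nat_card_le ?_).2
    rw [hKc, Nat.card_sigma, hkq]
    simp only [hT]
    refine le_trans ?_ hlow
    rw [htq']
    obtain ⟨r, hr⟩ : ∃ r, H.q = r + 1 := ⟨H.q - 1, by omega⟩
    rw [hr, Nat.add_sub_cancel, show (r + 1) ^ 2 = (r + 1 + 1) * r + 1 by ring, Nat.add_sub_cancel]
  have hiso : ∀ u ∈ K, H.h (u : V) u = 0 := fun u hu => by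
    rcases eq_or_ne u 0 with rfl | hu0
    · rw [Submodule.coe_zero, H.zero_left]
    obtain ⟨⟨p, w, hw0⟩, hpw⟩ := hsurj ⟨⟨u, hu⟩, fun h => hu0 (congrArg Subtype.val h)⟩
    have e : ((w.1 : K) : C.U) = u := congrArg (fun t => ((t.1 : K) : C.U)) hpw
    obtain ⟨s, hs⟩ := Submodule.mem_span_singleton.1 w.2
    show C.HU.h u u = 0
    rw [← e, ← hs, C.HU.smul_left, C.HU.smul_right, p.2, mul_zero, mul_zero]
  by_cases h2 : (2 : F) = 0
  · obtain ⟨u, hu, hu0⟩ : ∃ u ∈ K, u ≠ 0 := by
      by_contra h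
      push Not at h
      exact hK (eq_bot_iff.2 fun u hu => AddSubgroup.mem_bot.2 (h u hu))
    have h1 := C.cover_one (P := C.G1) (K := K) (fun v : C.U => H.h (v : V) v = 0 ∧ v ≠ 0) (fun h => h.2 rfl)
      fun v hv => by
        obtain ⟨g, hg, rfl⟩ := C.exists_tau_iso_two hm h2 hu0 hv.2 (hiso u hu) hv.1
        exact ⟨_, C.mem_imgs.2 ⟨g, hg, rfl⟩, C.mem_map_tau.2 hu⟩
    rw [C.card_isoU hpow, hm, hkq, show isoCount H.q 2 = (H.q + 1) * (H.q ^ 2 - 1) by
      simp only [isoCount, if_pos (show Even 2 by decide)]; rw [Nat.add_one_sub_one, pow_one, mul_comm]] at h1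
    have h4 : 1 ≤ H.q ^ 2 := Nat.one_le_pow _ _ (by omega)
    obtain ⟨r, hr⟩ : ∃ r, H.q ^ 2 = r + 1 := ⟨H.q ^ 2 - 1, by omega⟩
    have : 4 ≤ H.q ^ 2 := by nlinarith
    rw [hr, Nat.add_sub_cancel, Nat.mul_succ] at h1
    have : (C.imgs C.G1 K).card * r < (H.q + 1) * r := Nat.mul_lt_mul_of_pos_right (by omega) (by omega)
    omega
  · obtain ⟨u, hu0⟩ : ∃ u : S p0, u.1 ≠ 0 := by
      have : 0 < Nat.card (T p0) := by rw [hT, htq']; omega
      obtain ⟨u⟩ := (Nat.card_pos_iff.1 this).1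
      exact ⟨u.1, u.2⟩
    have hu00 : (u.1 : C.U) ≠ 0 := fun h => hu0 (Subtype.ext h)
    let φ : K →+ skew H :=
      { toFun := fun w => ⟨H.h ((w : C.U) : V) (u.1 : C.U),
          iso_skew (hiso _ w.2) (hiso _ u.1.2) (hiso _ (K.add_mem w.2 u.1.2))⟩
        map_zero' := Subtype.ext (H.zero_left _)
        map_add' := fun a b => Subtype.ext (H.add_left _ _ _) }
    have hker : Nat.card φ.ker ≤ H.q := by
      rw [← htq']
      refine Nat.card_le_card_of_injective (fun w : φ.ker => (⟨w.1, ?_⟩ : S p0))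
        fun a b h => Subtype.ext (congrArg Subtype.val h :)
      obtain ⟨s, hs⟩ := Submodule.mem_span_singleton.1 u.2
      have hs0 : s ≠ 0 := fun h => hu00 (by rw [← hs, h, zero_smul])
      have h1 : C.HU.h (w.1 : C.U) (u.1 : C.U) = 0 := congrArg Subtype.val w.2
      rw [← hs, C.HU.smul_right, mul_eq_zero] at h1
      exact C.orth_line hm p0.1.rep_nonzero p0.2 (h1.resolve_left ((map_ne_zero _).2 hs0))
    have hran : φ.range = ⊤ := by
      refine AddSubgroup.eq_top_of_card_eq _ (le_antisymm (Nat.card_le_card_of_injective _ Subtype.val_injective) ?_)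
      rw [card_skew]
      have h3 := φ.ker.card_mul_index
      rw [AddSubgroup.index_ker, hkq, sq] at h3
      refine Nat.le_of_mul_le_mul_left ?_ (show 0 < H.q by omega)
      rw [← h3]
      exact Nat.mul_le_mul_right _ hker
    refine hZ (eq_top_iff.2 fun c _ => ?_)
    obtain ⟨w, hw⟩ : (⟨(c : F) / 2, by
        rw [mem_skew, map_div₀, map_ofNat, ← add_div, skew_add, zero_div]⟩ : skew H) ∈ φ.range :=
      hran ▸ AddSubgroup.mem_top _
    have h4 := C.comm_mem w.2 u.1.2
    have e : C.comm (w : C.U) (u.1 : C.U) = c := Subtype.ext (by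
      have hw' : H.h ((w : C.U) : V) (u.1 : C.U) = (c : F) / 2 := congrArg Subtype.val hw
      rw [comm, nu_coe, hw', map_div₀, map_ofNat, skew_conj, sub_eq_iff_eq_add, neg_div]
      field_simp
      ring)
    rwa [e] at h4

theorem imgs_ge_succ (hpow : ∀ x, H.σ x = x ^ H.q) (hm : C.m = 2) {x : X} (hZ : Z1 C x ≠ ⊤)
    (hZb : Z1 C x = ⊥) (hK : C.Kb x ≠ ⊥) : H.q + 1 ≤ (C.imgs ⊤ (C.Kb x)).card := by
  classical
  have hq := H.two_le_q
  have hk := C.kb_le x hZ
  rw [hm] at hk
  obtain ⟨u, hu, hu0⟩ : ∃ u ∈ C.Kb x, u ≠ 0 := by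
    by_contra h
    push Not at h
    exact hK (eq_bot_iff.2 fun u hu => AddSubgroup.mem_bot.2 (h u hu))
  have hsq : 4 ≤ H.q ^ 2 := by nlinarith
  by_cases hiso : ∀ u ∈ C.Kb x, H.h (u : V) u = 0
  · by_cases h2 : (2 : F) = 0
    · have h1 := C.cover_one (P := ⊤) (K := C.Kb x) (fun v : C.U => H.h (v : V) v = 0 ∧ v ≠ 0) (fun h => h.2 rfl)
        fun v hv => by
          obtain ⟨g, -, rfl⟩ := C.exists_tau_iso_two hm h2 hu0 hv.2 (hiso u hu) hv.1
          exact ⟨_, C.mem_imgs.2 ⟨g, Subgroup.mem_top _, rfl⟩, C.mem_map_tau.2 hu⟩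
      rw [C.card_isoU hpow, hm, show isoCount H.q 2 = (H.q + 1) * (H.q ^ 2 - 1) by
        simp only [isoCount, if_pos (show Even 2 by decide)]; rw [Nat.add_one_sub_one, pow_one, mul_comm]] at h1
      have h3 := h1.trans (Nat.mul_le_mul_left _ hk)
      obtain ⟨r, hr⟩ : ∃ r, H.q ^ 2 = r + 1 := ⟨H.q ^ 2 - 1, by omega⟩
      rw [hr, Nat.add_sub_cancel, Nat.mul_succ] at h3
      exact Nat.le_of_mul_le_mul_right (by omega) (show 0 < r by omega)
    · have hline : ∀ w ∈ C.Kb x, w ∈ Submodule.span F ({u} : Set C.U) := fun w hw => by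
        refine C.orth_line hm hu0 (hiso u hu) ?_
        have hs := iso_skew (hiso w hw) (hiso u hu) (hiso _ ((C.Kb x).add_mem hw hu))
        have hc := C.comm_mem hw hu
        rw [hZb, AddSubgroup.mem_bot] at hc
        have hc' : H.h (w : V) u - H.σ (H.h (w : V) u) = 0 := congrArg Subtype.val hc
        rw [mem_skew] at hs
        exact (mul_eq_zero.1 (show (2 : F) * H.h (w : V) u = 0 by linear_combination hs + hc')).resolve_left h2
      have huu : C.HU.h u u = 0 := hiso u hu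
      have := C.HU.isoPt_pretransitive
      choose k hk using fun p : C.HU.IsoPt => MulAction.exists_smul_eq C.HU.SIsom (C.HU.isoMk u hu0 huu) p
      rw [← C.card_isoPtU hpow hm, ← Fintype.card_coe, ← Nat.card_eq_fintype_card]
      refine Nat.card_le_card_of_injective (fun p : C.HU.IsoPt =>
        (⟨_, C.mem_imgs.2 ⟨C.ext (k p), Subgroup.mem_top _, rfl⟩⟩ : C.imgs ⊤ (C.Kb x))) fun p p' e => ?_
      have e' : (C.Kb x).map (C.tau (C.ext (k p))) = (C.Kb x).map (C.tau (C.ext (k p'))) := congrArg Subtype.val e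
      have h1 : C.tau (C.ext (k p)) u ∈ (C.Kb x).map (C.tau (C.ext (k p'))) := e' ▸ C.mem_map_tau.2 hu
      obtain ⟨w, hw, hw'⟩ := h1
      obtain ⟨s, rfl⟩ := Submodule.mem_span_singleton.1 (hline w hw)
      rw [C.tau_ext, C.tau_ext, map_smul] at hw'
      rw [← hk p, ← hk p', HermSpace.smul_isoMk, HermSpace.smul_isoMk, HermSpace.isoMk_eq_iff]
      exact ⟨s, hw'⟩
  · push Not at hiso
    obtain ⟨w, hw, hww⟩ := hiso
    have hq3 : 3 ≤ H.q := by
      by_contra h
      have hq2 : H.q = 2 := by omega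
      have h2 : (2 : F) = 0 := by
        have := Fintype.ofFinite F
        have h4 : Fintype.card F % 2 = 0 := by rw [← Nat.card_eq_fintype_card, H.card_field, hq2]; rfl
        have hr := (FiniteField.even_card_iff_char_two (F := F)).2 h4
        have := ringChar.Nat.cast_ringChar (R := F)
        rw [hr] at this
        exact_mod_cast this
      have hc : H.h (w : V) w + H.σ (H.h (w : V) w) = 0 := by rw [H.self_fixed, ← two_mul, h2, zero_mul]
      have h3 := C.sq_mem h2 hw ⟨_, hc⟩ rfl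
      rw [hZb, AddSubgroup.mem_bot] at h3
      exact hww (congrArg Subtype.val h3)
    have h1 := (C.imgs_noniso hpow hw hww).trans (Nat.mul_le_mul_left _ hk)
    rw [hm, show cardNormOne H.q 2 = H.q * (H.q ^ 2 - 1) by simp [cardNormOne, show Even 2 by decide]] at h1
    obtain ⟨r, hr⟩ : ∃ r, H.q ^ 2 = r + 1 := ⟨H.q ^ 2 - 1, by omega⟩
    rw [hr, Nat.add_sub_cancel, Nat.mul_succ] at h1
    refine Nat.le_of_mul_le_mul_right (le_trans ?_ (show (H.q - 1) * (H.q * r) ≤ _ by omega)) (show 0 < r by omega)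
    rw [← mul_assoc]
    refine Nat.mul_le_mul_right _ ?_
    obtain ⟨t, ht⟩ : ∃ t, H.q = t + 3 := ⟨H.q - 3, by omega⟩
    rw [ht, show t + 3 - 1 = t + 2 by omega]
    nlinarith

/-- The weak bound in dimension four. -/
theorem weak_four (hpow : ∀ x, H.σ x = x ^ H.q) (hm : C.m = 2) (hd : Nat.card X < H.q ^ 4 + H.q ^ 3)
    {x : X} (hZ : Z1 C x ≠ ⊤) : False := by
  have hq := H.two_le_q
  have hk := C.kb_le x hZ
  rw [hm] at hk
  have hk0 : 0 < Nat.card (C.Kb x) := Nat.card_pos
  have hz0 : 0 < Nat.card (Z1 C x) := Nat.card_pos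
  by_cases hz : Nat.card (Z1 C x) = 1
  · have h := C.key_full x
    rw [C.card_U, ← pow_succ', hm, hz, one_mul] at h
    have h5 : H.q ^ 4 + H.q ^ 3 ≤ Nat.card X := by
      rcases eq_or_ne (C.Kb x) ⊥ with hK | hK
      · rw [hK, AddSubgroup.card_bot, mul_one] at h
        have hM : 1 ≤ (C.imgs ⊤ (⊥ : AddSubgroup C.U)).card := Finset.card_pos.2 ⟨_, C.self_imgs _⟩
        refine le_trans ?_ ((Nat.le_mul_of_pos_left _ hM).trans h)
        calc H.q ^ 4 + H.q ^ 3 ≤ H.q ^ 4 + H.q ^ 4 := by gcongr <;> omega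
          _ = 2 * H.q ^ 4 := by ring
          _ ≤ H.q * H.q ^ 4 := Nat.mul_le_mul_right _ hq
          _ = _ := by ring
      · have hM := C.imgs_ge_succ hpow hm hZ (AddSubgroup.eq_bot_of_card_eq _ hz) hK
        refine Nat.le_of_mul_le_mul_right ?_ (show 0 < H.q ^ 2 by positivity)
        calc (H.q ^ 4 + H.q ^ 3) * H.q ^ 2 = (H.q + 1) * H.q ^ (2 * 2 + 1) := by ring
          _ ≤ _ := (Nat.mul_le_mul_right _ hM).trans h
          _ ≤ _ := Nat.mul_le_mul_left _ hk
    omega
  · have h := C.key_pairs hZ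
    rw [C.card_U, ← pow_succ', hm] at h
    have h1 : (H.q - 1) * H.q ^ 4 ≤ Nat.card X * (H.q - 2) := by
      refine le_trans ?_ (Nat.mul_le_mul_left _ (show H.q - Nat.card (Z1 C x) ≤ H.q - 2 by omega))
      rcases eq_or_ne (C.Kb x) ⊥ with hK | hK
      · rw [hK, AddSubgroup.card_bot, mul_one] at h
        refine le_trans (Nat.mul_le_mul ?_ (Nat.pow_le_pow_right (by omega) (show 4 ≤ 2 * 2 + 1 by norm_num))) h
        exact Nat.le_mul_of_pos_right _ (Finset.card_pos.2 ⟨_, C.self_imgs _⟩)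
      · have hM := C.imgs_ge_q hpow hm hZ hK
        refine Nat.le_of_mul_le_mul_right ?_ (show 0 < H.q ^ 2 by positivity)
        calc (H.q - 1) * H.q ^ 4 * H.q ^ 2 = (H.q - 1) * H.q * H.q ^ (2 * 2 + 1) := by ring
          _ ≤ _ := (Nat.mul_le_mul_right _ (Nat.mul_le_mul_left _ hM)).trans h
          _ ≤ Nat.card X * H.q ^ 2 * (H.q - Nat.card (Z1 C x)) :=
            Nat.mul_le_mul_right _ (Nat.mul_le_mul_left _ hk)
          _ = _ := by ring
    obtain ⟨r, hr⟩ : ∃ r, H.q = r + 2 := ⟨H.q - 2, by omega⟩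
    rw [hr, Nat.add_sub_cancel, show r + 2 - 1 = r + 1 by omega] at h1
    rw [hr] at hd
    have h2 := Nat.mul_le_mul_right r hd.le
    have h3 : 0 < (r + 2) ^ 3 := by positivity
    nlinarith

end Action

end Frame

end Cfsg.Lib.Known.MinIndexSU
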