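import Cfsg.Agent.Known.MinIndexSU.Four

/-!
The weak bound in every dimension from four on, the moved orbit, and a double count.
-/

set_option autoImplicit false
set_option linter.unusedSectionVars false
set_option linter.unusedSimpArgs false
set_option linter.style.haveILetI false

namespace Cfsg.Lib.Known.MinIndexSU

open Cfsg.Lib.Classical Cfsg.Lib.Classical.UIso

universe u v w

section General

variable {F : Type u} [Field F] [Finite F] {V : Type v} [AddCommGroup V] [Module F V] [FiniteDimensional F V]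
  {H : HermSpace F V}

theorem stab_ne_top {K : Subgroup H.SIsom} (hK : K ≠ ⊤) (x : H.SIsom ⧸ K) :
    MulAction.stabilizer H.SIsom x ≠ ⊤ := by
  intro h
  induction x using QuotientGroup.induction_on with
  | _ g =>
    refine hK (eq_top_iff.2 fun k _ => ?_)
    have h1 : (g * k * g⁻¹) • ((g : H.SIsom) : H.SIsom ⧸ K) = (g : H.SIsom) :=
      MulAction.mem_stabilizer_iff.1 (h ▸ Subgroup.mem_top _)
    rw [MulAction.Quotient.smul_coe, smul_eq_mul, inv_mul_cancel_right] at h1
    have h2 := K.inv_mem (QuotientGroup.eq.1 h1)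
    rwa [mul_inv_rev, inv_inv, inv_mul_cancel_left] at h2

end General

variable {F : Type u} [Field F] [Finite F]

/-- The weak bound for the special unitary groups. -/
theorem weak : ∀ (n : ℕ), 4 ≤ n → ∀ {V : Type v} [AddCommGroup V] [Module F V] [FiniteDimensional F V]
    (H : HermSpace F V), Module.finrank F V = n → (∀ x, H.σ x = x ^ H.q) →
    ∀ K : Subgroup H.SIsom, K ≠ ⊤ → H.q ^ (n + 2) + H.q ≤ K.index * (H.q ^ 2 - 1) := by
  intro n
  induction n using Nat.strong_induction_on with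
  | _ n ih =>
    intro hn V _ _ _ H hdim hpow K hK
    obtain ⟨C, hC⟩ := exists_frame (H := H) (m := n - 2) (by omega) (by omega)
    have hfin := finite_sisom' (H := H)
    have := Fintype.ofFinite (H.SIsom ⧸ K)
    obtain ⟨x, hx⟩ := exists_moved (X := H.SIsom ⧸ K) C (stab_ne_top hK)
    have hq := H.two_le_q
    by_contra hlt
    push Not at hlt
    rw [Subgroup.index] at hlt
    have hq1 : 1 ≤ H.q ^ 2 := Nat.one_le_pow _ _ (by omega)
    obtain ⟨j, rfl⟩ | hn5 : (∃ j, n = j + 5) ∨ n < 5 := by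
      rcases Nat.lt_or_ge n 5 with h | h
      · exact Or.inr h
      · exact Or.inl ⟨n - 5, by omega⟩
    · have hm : C.m = j + 3 := by omega
      have hle : H.q ^ (j + 5 + 2) + H.q ≤ H.q ^ (2 * C.m + 3) + H.q ^ (C.m + 2) := by
        refine Nat.add_le_add (Nat.pow_le_pow_right (by omega) (by omega)) ?_
        exact Nat.le_self_pow (by omega) _
      obtain ⟨-, -, hreg⟩ := C.regular hpow (by omega) (lt_of_lt_of_le hlt hle)
        (fun h4 M hM => ih C.m (by omega) h4 C.HU C.finrank_U (C.hpowU hpow) M hM) hx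
      have hle' := Nat.card_le_card_of_injective (fun y : C.orb x => (y : H.SIsom ⧸ K)) Subtype.val_injective
      rw [hreg] at hle'
      have h3 : H.q ^ (2 * C.m + 1) * 3 ≤ Nat.card (H.SIsom ⧸ K) * (H.q ^ 2 - 1) :=
        Nat.mul_le_mul hle' (by have : 4 ≤ H.q ^ 2 := by nlinarith
                                omega)
      have h4 : H.q ^ (j + 5 + 2) ≤ H.q ^ (2 * C.m + 1) := Nat.pow_le_pow_right (by omega) (by omega)
      have h5 : H.q ≤ H.q ^ (2 * C.m + 1) := Nat.le_self_pow (by omega) _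
      omega
    · obtain rfl : n = 4 := by omega
      refine C.weak_four hpow (by omega) ?_ hx
      by_contra h
      push Not at h
      have h1 := Nat.mul_le_mul_right (H.q ^ 2 - 1) h
      obtain ⟨r, hr⟩ : ∃ r, H.q = r + 2 := ⟨H.q - 2, by omega⟩
      rw [hr, show (r + 2) ^ 2 - 1 = r ^ 2 + 4 * r + 3 by
        rw [show (r + 2) ^ 2 = r ^ 2 + 4 * r + 3 + 1 by ring, Nat.add_sub_cancel]] at h1 hlt
      have e : ((r + 2) ^ 4 + (r + 2) ^ 3) * (r ^ 2 + 4 * r + 3) =
          (r + 2) ^ (4 + 2) + (r + 2) ^ 3 * (r ^ 2 + 3 * r + 1) := by ring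
      have h6 : r + 2 ≤ (r + 2) ^ 3 * (r ^ 2 + 3 * r + 1) :=
        (Nat.le_self_pow (by norm_num) _).trans (Nat.le_mul_of_pos_right _ (by positivity))
      omega

variable {V : Type v} [AddCommGroup V] [Module F V] [FiniteDimensional F V] {H : HermSpace F V}

/-- The standing hypotheses on an action of small degree. -/
structure Small (C : Frame H) (X : Type w) [MulAction H.SIsom X] : Prop where
  hm : 3 ≤ C.m
  hpow : ∀ x, H.σ x = x ^ H.q
  hd : Nat.card X * (H.q ^ 2 - 1) < H.q ^ (2 * C.m + 3) + H.q ^ (C.m + 2)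
  hmove : ∀ x : X, MulAction.stabilizer H.SIsom x ≠ ⊤
  htrans : MulAction.IsPretransitive H.SIsom X
  hne : Nonempty X

namespace Small

variable {C : Frame H} {X : Type w} [MulAction H.SIsom X] [Fintype X] (hS : Small C X)

include hS

theorem two_le : 2 ≤ H.q := H.two_le_q

theorem regular {x : X} (hx : Z1 C x ≠ ⊤) :
    Z1 C x = ⊥ ∧ C.Kb x = ⊥ ∧ Nat.card (C.orb x) = H.q ^ (2 * C.m + 1) :=
  C.regular hS.hpow hS.hm hS.hd
    (fun h4 M hM => weak C.m h4 C.HU C.finrank_U (C.hpowU hS.hpow) M hM) hx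

theorem deg_lt : Nat.card X < 2 * H.q ^ (2 * C.m + 1) := by
  by_contra h
  push Not at h
  have h1 := Nat.mul_le_mul_right (H.q ^ 2 - 1) h
  have hd := hS.hd
  have hq := H.two_le_q
  have h2 : H.q ^ (C.m + 2) ≤ H.q ^ (2 * C.m + 1) := Nat.pow_le_pow_right (by omega) (by have := hS.hm; omega)
  rw [show 2 * C.m + 3 = 2 + (2 * C.m + 1) by omega, pow_add] at hd
  have hq4 : 4 ≤ H.q ^ 2 := by nlinarith
  obtain ⟨r, hr⟩ : ∃ r, H.q ^ 2 = r + 4 := ⟨H.q ^ 2 - 4, by omega⟩
  rw [hr, show r + 4 - 1 = r + 3 by omega] at h1 hd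
  nlinarith

theorem orb_unique {x y : X} (hx : Z1 C x ≠ ⊤) (hy : Z1 C y ≠ ⊤) : y ∈ C.orb x := by
  classical
  by_contra h
  have hxy : x ≠ y := fun e => h (e ▸ C.self_orb x)
  have h1 := C.sum_le {x, y} fun a ha b hb hab => by
    simp only [Finset.mem_insert, Finset.mem_singleton] at ha hb
    rcases ha with rfl | rfl <;> rcases hb with rfl | rfl
    · rfl
    · exact absurd hab h
    · exact absurd (C.orb_eq hab ▸ C.self_orb a) h
    · rfl
  rw [Finset.sum_pair hxy, (hS.regular hx).2.2, (hS.regular hy).2.2] at h1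
  have := hS.deg_lt
  omega

theorem mem_moved {x y : X} (hx : Z1 C x ≠ ⊤) : y ∈ C.orb x ↔ Z1 C y ≠ ⊤ :=
  ⟨fun h => by rwa [(C.inv_orb h).1], hS.orb_unique hx⟩

/-- The points fixed by the root group. -/
theorem card_fixed : Nat.card {y : X // C.a ∈ cen H y} + H.q ^ (2 * C.m + 1) = Nat.card X := by
  classical
  obtain ⟨x, hx⟩ := @exists_moved _ _ _ _ _ _ _ _ X _ C hS.hne hS.hmove
  rw [← (hS.regular hx).2.2, ← Nat.card_sum]
  refine Nat.card_congr ((Equiv.sumCongr (Equiv.refl _) (Equiv.subtypeEquivRight fun y => ?_)).trans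
    (Equiv.sumCompl fun y : X => C.a ∈ cen H y))
  rw [hS.mem_moved hx, ne_eq, Z1_top]
  rfl

theorem moved_G2 (g : C.G2) {x : X} (hx : Z1 C x ≠ ⊤) : Z1 C (g.1 • x) ≠ ⊤ := by
  have hb := (hS.regular hx).1
  rw [C.Z1_img, hb, AddSubgroup.map_bot, ← hb]
  exact hx

end Small

open scoped _root_.Classical in
/-- Double count of points and root groups fixing them. -/
theorem double_count {X : Type w} [MulAction H.SIsom X] [Fintype X] [MulAction.IsPretransitive H.SIsom X]
    (C : Frame H) (hm : 1 ≤ C.m) (x : X) :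
    Nat.card X * Nat.card {v : V // v ∈ cen H x ∧ v ≠ 0} =
      Nat.card {v : V // H.h v v = 0 ∧ v ≠ 0} * Nat.card {y : X // C.a ∈ cen H y} := by
  have : Finite V := Module.finite_of_finite F
  have := Fintype.ofFinite V
  let D : Finset V := Finset.univ.filter fun v => H.h v v = 0 ∧ v ≠ 0
  have h1 : ∀ v ∈ D, (Finset.univ.filter fun y : X => v ∈ cen H y).card = Nat.card {y : X // C.a ∈ cen H y} := by
    intro v hv
    obtain ⟨hvv, hv0⟩ := (Finset.mem_filter.1 hv).2
    obtain ⟨g, hg⟩ := exists_move_iso (H := H) (by have := C.hdim; omega) hv0 C.ha0 hvv C.haa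
    rw [← Fintype.card_subtype, ← Nat.card_eq_fintype_card]
    exact Nat.card_congr ((MulAction.toPerm g).subtypeEquiv fun y => by
      rw [MulAction.toPerm_apply, ← hg, cen_map])
  have h2 : ∀ y : X, (D.filter (· ∈ cen H y)).card = Nat.card {v : V // v ∈ cen H x ∧ v ≠ 0} := fun y => by
    obtain ⟨g, rfl⟩ := MulAction.exists_smul_eq H.SIsom x y
    rw [Finset.filter_filter, ← Fintype.card_subtype, ← Nat.card_eq_fintype_card]
    refine (Nat.card_congr (g.1.1.toEquiv.subtypeEquiv fun v => ?_)).symm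
    show v ∈ cen H x ∧ v ≠ 0 ↔ (H.h (g.1.1 v) (g.1.1 v) = 0 ∧ g.1.1 v ≠ 0) ∧ g.1.1 v ∈ cen H (g • x)
    rw [cen_map, H.map_form, ne_eq, ne_eq, map_eq_zero_iff _ g.1.1.injective]
    exact ⟨fun h => ⟨⟨H.uCentres_iso h.1, h.2⟩, h.1⟩, fun h => ⟨h.2, h.1.2⟩⟩
  have hswap : ∑ v ∈ D, (Finset.univ.filter fun y : X => v ∈ cen H y).card =
      ∑ y : X, (D.filter (· ∈ cen H y)).card := by
    simp only [Finset.card_filter]
    exact Finset.sum_comm
  rw [Finset.sum_congr rfl h1, Finset.sum_congr rfl fun y _ => h2 y, Finset.sum_const, Finset.sum_const,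
    smul_eq_mul, smul_eq_mul, Finset.card_univ, ← Nat.card_eq_fintype_card] at hswap
  rw [← hswap]
  congr 1
  rw [Nat.card_eq_fintype_card, Fintype.card_subtype]

end Cfsg.Lib.Known.MinIndexSU
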