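import Cfsg.Agent.Known.MinIndexSU.Four
import Cfsg.Agent.Known.MinIndexSU.Weak

/-!
Dimension four: the moved orbits in degree below `(q + 1)(q³ + 1)`.
-/

set_option autoImplicit false
set_option linter.unusedSectionVars false
set_option linter.unusedSimpArgs false
set_option linter.style.haveILetI false

namespace Cfsg.Lib.Known.MinIndexSU

open Cfsg.Lib.Classical Cfsg.Lib.Classical.UIso

universe u v w

variable {F : Type u} [Field F] [Finite F] {V : Type v} [AddCommGroup V] [Module F V] [FiniteDimensional F V]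
  {H : HermSpace F V}

theorem two_mul_le_sq {q k : ℕ} (hF : Nat.card F = q ^ 2) (hdvd : k ∣ q ^ 4) (hk : k < q ^ 2) :
    2 * k ≤ q ^ 2 := by
  have := Fintype.ofFinite F
  obtain ⟨p, hchar⟩ := CharP.exists F
  obtain ⟨n, hp, hn⟩ := FiniteField.card F p
  rw [Nat.card_eq_fintype_card, hn] at hF
  rw [show q ^ 4 = (q ^ 2) ^ 2 by ring, ← hF, ← pow_mul] at hdvd
  obtain ⟨j, -, rfl⟩ := (Nat.dvd_prime_pow hp).1 hdvd
  rw [← hF] at hk ⊢
  calc 2 * p ^ j ≤ p * p ^ j := Nat.mul_le_mul_right _ hp.two_le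
    _ = p ^ (j + 1) := by ring
    _ ≤ p ^ (n : ℕ) := Nat.pow_le_pow_right hp.pos ((Nat.pow_lt_pow_iff_right hp.one_lt).1 hk)

theorem four_arith {q d c f : ℕ} (hq : 2 ≤ q) (hd : d = f + (q + 1) * q ^ 3) (hf0 : 0 < f) (hf : f ≤ q)
    (h : d * c = (q ^ 2 + 1) * (q ^ 3 + 1) * f) : False := by
  obtain ⟨r, rfl⟩ : ∃ r, q = r + 2 := ⟨q - 2, by omega⟩
  subst hd
  set Q := r + 2 with hQ
  zify at h hf hf0
  set D : ℤ := (f : ℤ) + ((Q : ℤ) + 1) * (Q : ℤ) ^ 3 with hD
  set t : ℤ := (c : ℤ) - (f : ℤ) * ((Q : ℤ) - 1) with ht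
  have hQ2 : (2 : ℤ) ≤ Q := by omega
  have e : D * t = (f : ℤ) * (2 * (Q : ℤ) ^ 3 + (Q : ℤ) ^ 2 + 1 - (f : ℤ) * ((Q : ℤ) - 1)) := by
    rw [ht, hD]; linear_combination h
  have hQ23 : (Q : ℤ) ^ 2 * 2 ≤ (Q : ℤ) ^ 3 := by nlinarith
  have hQ22 : (4 : ℤ) ≤ (Q : ℤ) ^ 2 := by nlinarith
  have hfQ : (f : ℤ) * ((Q : ℤ) - 1) ≤ (Q : ℤ) ^ 2 := by nlinarith
  have hDpos : 0 < D := by positivity
  have hrhs : 0 < D * t := by rw [e]; exact mul_pos hf0 (by nlinarith)
  have ht0 : 0 < t := pos_of_mul_pos_right hrhs hDpos.le |> id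
  have hlt : D * t < D * 2 := by
    rw [e, hD]
    nlinarith
  have ht2 : t < 2 := lt_of_mul_lt_mul_left hlt hDpos.le
  have ht1 : t = 1 := by omega
  rw [ht1, mul_one, hD] at e
  have e' : (f : ℤ) * (2 * (Q : ℤ) ^ 3 + (Q : ℤ) ^ 2) - (f : ℤ) ^ 2 * ((Q : ℤ) - 1) = ((Q : ℤ) + 1) * (Q : ℤ) ^ 3 := by
    linear_combination -e
  have hdvd : Q ^ 2 ∣ f ^ 2 * (Q - 1) := by
    have h1 : ((Q : ℤ) ^ 2) ∣ (f : ℤ) ^ 2 * ((Q : ℤ) - 1) :=
      ⟨(f : ℤ) * (2 * Q + 1) - ((Q : ℤ) + 1) * Q, by linear_combination -e'⟩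
    rw [show ((Q : ℤ) - 1) = ((Q - 1 : ℕ) : ℤ) by omega] at h1
    exact_mod_cast h1
  have hcop : Nat.Coprime (Q ^ 2) (Q - 1) :=
    Nat.Coprime.pow_left _ ((Nat.coprime_self_sub_right (show 1 ≤ Q by omega)).2 (Nat.coprime_one_right _))
  have h2 := (Nat.pow_dvd_pow_iff two_ne_zero).1 (hcop.dvd_of_dvd_mul_right hdvd)
  have hfe : f = Q := le_antisymm (by omega) (Nat.le_of_dvd (by omega) h2)
  rw [hfe] at e'
  nlinarith

/-- An action of degree below the number of totally isotropic lines. -/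
structure Low (C : Frame H) (X : Type w) [MulAction H.SIsom X] : Prop where
  hm : C.m = 2
  hpow : ∀ x, H.σ x = x ^ H.q
  hd : Nat.card X < (H.q + 1) * (H.q ^ 3 + 1)
  hmove : ∀ x : X, MulAction.stabilizer H.SIsom x ≠ ⊤
  htrans : MulAction.IsPretransitive H.SIsom X
  hne : Nonempty X

namespace Low

variable {C : Frame H} {X : Type w} [MulAction H.SIsom X] [Fintype X] (hL : Low C X)

include hL

theorem facts {x : X} (hZ : Z1 C x ≠ ⊤) :
    Z1 C x = ⊥ ∧ Nat.card (C.Kb x) = H.q ^ 2 ∧ Nat.card (C.orb x) = H.q ^ 3 ∧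
      (C.imgs ⊤ (C.Kb x)).card = H.q + 1 := by
  have hq := H.two_le_q
  have hm := hL.hm
  have hd := hL.hd
  have hk := C.kb_le x hZ
  rw [hm] at hk
  have hz : Nat.card (Z1 C x) = 1 := by
    by_contra hz
    have hz0 : 0 < Nat.card (Z1 C x) := Nat.card_pos
    have h := C.key_pairs hZ
    rw [C.card_U, ← pow_succ', hm] at h
    have h1 : (H.q - 1) * H.q ^ 4 ≤ Nat.card X * (H.q - 2) := by
      refine le_trans ?_ (Nat.mul_le_mul_left _ (show H.q - Nat.card (Z1 C x) ≤ H.q - 2 by omega))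
      rcases eq_or_ne (C.Kb x) ⊥ with hK | hK
      · rw [hK, AddSubgroup.card_bot, mul_one] at h
        refine le_trans (Nat.mul_le_mul ?_ (Nat.pow_le_pow_right (by omega) (show 4 ≤ 2 * 2 + 1 by norm_num))) h
        exact Nat.le_mul_of_pos_right _ (Finset.card_pos.2 ⟨_, C.self_imgs _⟩)
      · have hM := C.imgs_ge_q hL.hpow hm hZ hK
        refine Nat.le_of_mul_le_mul_right ?_ (show 0 < H.q ^ 2 by positivity)
        calc (H.q - 1) * H.q ^ 4 * H.q ^ 2 = (H.q - 1) * H.q * H.q ^ (2 * 2 + 1) := by ring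
          _ ≤ _ := (Nat.mul_le_mul_right _ (Nat.mul_le_mul_left _ hM)).trans h
          _ ≤ Nat.card X * H.q ^ 2 * (H.q - Nat.card (Z1 C x)) :=
            Nat.mul_le_mul_right _ (Nat.mul_le_mul_left _ hk)
          _ = _ := by ring
    obtain ⟨r, hr⟩ : ∃ r, H.q = r + 2 := ⟨H.q - 2, by omega⟩
    rw [hr, Nat.add_sub_cancel, show r + 2 - 1 = r + 1 by omega] at h1
    rw [hr] at hd
    have h2 := Nat.mul_le_mul_right r hd.le
    have h3 : 0 < (r + 2) ^ 3 := by positivity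
    nlinarith
  have hZb : Z1 C x = ⊥ := AddSubgroup.eq_bot_of_card_eq _ hz
  have h := C.key_full x
  rw [C.card_U, ← pow_succ', hm, hz, one_mul] at h
  have hK : C.Kb x ≠ ⊥ := fun hK => by
    rw [hK, AddSubgroup.card_bot, mul_one] at h
    have hM : 1 ≤ (C.imgs ⊤ (⊥ : AddSubgroup C.U)).card := Finset.card_pos.2 ⟨_, C.self_imgs _⟩
    have h1 := (Nat.le_mul_of_pos_left _ hM).trans h
    obtain ⟨r, hr⟩ : ∃ r, H.q = r + 2 := ⟨H.q - 2, by omega⟩
    rw [hr] at h1 hd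
    have e : (r + 2) ^ (2 * 2 + 1) =
        (r + 2 + 1) * ((r + 2) ^ 3 + 1) + (r ^ 5 + 9 * r ^ 4 + 31 * r ^ 3 + 50 * r ^ 2 + 35 * r + 5) := by ring
    omega
  have hM := C.imgs_ge_succ hL.hpow hm hZ hZb hK
  have hk2 : Nat.card (C.Kb x) = H.q ^ 2 := by
    refine le_antisymm hk (not_lt.1 fun hlt => ?_)
    have h2k := two_mul_le_sq H.card_field (by
      have h1 := AddSubgroup.card_addSubgroup_dvd_card (C.Kb x)
      rwa [C.card_U, hm] at h1) hlt
    have h1 := (Nat.mul_le_mul_right _ hM).trans h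
    have h2 : 2 * ((H.q + 1) * H.q ^ (2 * 2 + 1)) ≤ Nat.card X * H.q ^ 2 := by
      refine le_trans (Nat.mul_le_mul_left _ h1) ?_
      rw [mul_left_comm]
      exact Nat.mul_le_mul_left _ h2k
    have h3 : 2 * ((H.q + 1) * H.q ^ 3) ≤ Nat.card X := by
      refine Nat.le_of_mul_le_mul_right ?_ (show 0 < H.q ^ 2 by positivity)
      calc 2 * ((H.q + 1) * H.q ^ 3) * H.q ^ 2 = 2 * ((H.q + 1) * H.q ^ (2 * 2 + 1)) := by ring
        _ ≤ _ := h2
    have h4 : H.q + 1 < (H.q + 1) * H.q ^ 3 := by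
      refine lt_mul_of_one_lt_right (by omega) ?_
      exact Nat.one_lt_pow (by norm_num) (by omega)
    nlinarith
  have horb : Nat.card (C.orb x) = H.q ^ 3 := by
    have h1 := C.orb_card x
    rw [hz, one_mul, hk2, C.card_U, hm] at h1
    exact Nat.eq_of_mul_eq_mul_right (show 0 < H.q ^ 2 by positivity) (by rw [h1]; ring)
  refine ⟨hZb, hk2, horb, le_antisymm (not_lt.1 fun hlt => ?_) hM⟩
  have h1 := (Nat.mul_le_mul_right _ (show H.q + 2 ≤ (C.imgs ⊤ (C.Kb x)).card from hlt)).trans (C.imgs_le x)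
  rw [horb] at h1
  have h4 : H.q + 1 ≤ H.q ^ 3 := by
    have : H.q + 1 ≤ H.q * H.q := by nlinarith
    exact this.trans (by rw [← sq]; exact Nat.pow_le_pow_right (by omega) (by norm_num))
  nlinarith

open scoped _root_.Classical in
/-- Representatives of the moved orbits. -/
theorem exists_reps : ∃ S : Finset X, S.card = H.q + 1 ∧ (∀ s ∈ S, Z1 C s ≠ ⊤) ∧
    (∀ s ∈ S, ∀ t ∈ S, C.Kb s = C.Kb t → s = t) ∧ ∀ y : X, Z1 C y ≠ ⊤ → ∃ s ∈ S, y ∈ C.orb s := by
  obtain ⟨x, hx⟩ := @exists_moved _ _ _ _ _ _ _ _ X _ C hL.hne hL.hmove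
  choose g _ hg using fun K : C.imgs ⊤ (C.Kb x) => C.mem_imgs.1 K.2
  let f : C.imgs ⊤ (C.Kb x) → X := fun K => (g K).1 • x
  have hZf : ∀ K, Z1 C (f K) ≠ ⊤ := fun K => by
    have hb := (hL.facts hx).1
    show Z1 C ((g K).1 • x) ≠ ⊤
    rw [C.Z1_img, hb, AddSubgroup.map_bot, ← hb]
    exact hx
  have hKf : ∀ K, C.Kb (f K) = K.1 := fun K => (C.Kb_G2 _ x).trans (hg K)
  have hinj : Function.Injective f := fun K K' e => Subtype.ext (by rw [← hKf K, ← hKf K', e])
  refine ⟨Finset.univ.image f, ?_, ?_, ?_, ?_⟩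
  · rw [Finset.card_image_of_injective _ hinj, Finset.card_univ, Fintype.card_coe, (hL.facts hx).2.2.2]
  · simp only [Finset.mem_image, Finset.mem_univ, true_and, forall_exists_index, forall_apply_eq_imp_iff]
    exact hZf
  · simp only [Finset.mem_image, Finset.mem_univ, true_and, forall_exists_index, forall_apply_eq_imp_iff, hKf]
    exact fun K K' e => by rw [Subtype.ext e]
  · intro y hy
    by_contra hc
    push Not at hc
    simp only [Finset.mem_image, Finset.mem_univ, true_and, forall_exists_index, forall_apply_eq_imp_iff] at hc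
    have h1 := C.sum_le (insert y (Finset.univ.image f)) fun a ha b hb hab => by
      simp only [Finset.mem_insert, Finset.mem_image, Finset.mem_univ, true_and] at ha hb
      rcases ha with rfl | ⟨K, rfl⟩ <;> rcases hb with rfl | ⟨K', rfl⟩
      · rfl
      · exact absurd (C.orb_eq hab ▸ C.self_orb _) (hc K')
      · exact absurd hab (hc K)
      · exact congrArg f (Subtype.ext (by rw [← hKf K, ← hKf K', (C.inv_orb hab).2]))
    rw [Finset.sum_insert (by
        simp only [Finset.mem_image, Finset.mem_univ, true_and, not_exists]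
        exact fun K e => hc K (e ▸ C.self_orb _)),
      Finset.sum_image fun a _ b _ e => hinj e, (hL.facts hy).2.2.1,
      Finset.sum_congr rfl fun K _ => (hL.facts (hZf K)).2.2.1, Finset.sum_const, Finset.card_univ,
      Fintype.card_coe, (hL.facts hx).2.2.2, smul_eq_mul] at h1
    have hd := hL.hd
    have hq := H.two_le_q
    have h4 : H.q + 1 ≤ H.q ^ 3 := by
      calc H.q + 1 ≤ H.q * H.q := by nlinarith
        _ = H.q ^ 2 := by ring
        _ ≤ _ := Nat.pow_le_pow_right (by omega) (by norm_num)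
    rw [mul_add, mul_one] at hd
    omega

theorem same_orb {x y : X} (hx : Z1 C x ≠ ⊤) (hy : Z1 C y ≠ ⊤) (h : C.Kb y = C.Kb x) : y ∈ C.orb x := by
  obtain ⟨S, -, -, hSK, hcov⟩ := hL.exists_reps
  obtain ⟨s, hs, hxs⟩ := hcov x hx
  obtain ⟨t, ht, hyt⟩ := hcov y hy
  obtain rfl : s = t := hSK s hs t ht (by rw [← (C.inv_orb hxs).2, ← (C.inv_orb hyt).2, h])
  rw [C.orb_eq hxs]
  exact hyt

theorem card_moved : Nat.card {y : X // C.a ∈ cen H y} + (H.q + 1) * H.q ^ 3 = Nat.card X := by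
  classical
  obtain ⟨S, hS, hSZ, hSK, hcov⟩ := hL.exists_reps
  have hiff : ∀ y : X, ¬ C.a ∈ cen H y ↔ y ∈ S.biUnion fun s => (C.orb s).toFinset := fun y => by
    simp only [Finset.mem_biUnion, Set.mem_toFinset]
    refine ⟨fun h => hcov y fun e => h (Z1_top.1 e), fun ⟨s, hs, hys⟩ h => hSZ s hs ?_⟩
    rw [← (C.inv_orb hys).1]
    exact Z1_top.2 h
  rw [← Nat.card_congr (Equiv.sumCompl fun y : X => C.a ∈ cen H y), Nat.card_sum]
  congr 1
  rw [Nat.card_congr (Equiv.subtypeEquivRight hiff), Nat.card_eq_fintype_card, Fintype.card_coe,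
    Finset.card_biUnion fun s hs t ht hst => ?_]
  · rw [← hS, ← smul_eq_mul, ← Finset.sum_const]
    exact Finset.sum_congr rfl fun s hs => by
      rw [← (hL.facts (hSZ s hs)).2.2.1, Set.toFinset_card, Nat.card_eq_fintype_card]
  · refine Finset.disjoint_left.2 fun z hz hz' => hst (hSK s hs t ht ?_)
    rw [Set.mem_toFinset] at hz hz'
    rw [← (C.inv_orb hz).2, ← (C.inv_orb hz').2]

/-- No root group fixes a point. -/
theorem no_centre (y : X) : C.a ∉ cen H y := by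
  intro hy
  have hq := H.two_le_q
  have hm := hL.hm
  have hd := hL.hd
  have hdim : Module.finrank F V = 4 := by rw [C.hdim, hm]
  have hf := hL.card_moved
  set f := Nat.card {y : X // C.a ∈ cen H y} with hfdef
  have hf0 : 0 < f := Nat.card_pos_iff.2 ⟨⟨⟨y, hy⟩⟩, inferInstance⟩
  have hfq : f ≤ H.q := by
    have e : (H.q + 1) * (H.q ^ 3 + 1) = (H.q + 1) * H.q ^ 3 + (H.q + 1) := by ring
    omega
  have := hL.htrans
  have hdc := double_count (X := X) C (by omega) y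
  rw [card_iso_vectors hL.hpow, hdim, ← hfdef] at hdc
  have hI : isoCount H.q 4 = (H.q ^ 2 + 1) * (H.q ^ 3 + 1) * (H.q ^ 2 - 1) := by
    simp only [isoCount, if_pos (show Even 4 by decide)]
    have : H.q ^ 4 - 1 = (H.q ^ 2 + 1) * (H.q ^ 2 - 1) := by
      rw [show H.q ^ 4 = (H.q ^ 2) ^ 2 by ring, show (H.q ^ 2) ^ 2 - 1 = (H.q ^ 2) ^ 2 - 1 ^ 2 by norm_num,
        Nat.sq_sub_sq]
    rw [this]
    ring
  obtain ⟨c, hc⟩ : H.q ^ 2 - 1 ∣ Nat.card {v : V // v ∈ cen H y ∧ v ≠ 0} := by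
    rw [show H.q ^ 2 - 1 = Nat.card Fˣ by rw [Nat.card_units, H.card_field]]
    have hsm : ∀ (a : Fˣ) (v : {v : V // v ∈ cen H y ∧ v ≠ 0}),
        (a : F) • (v : V) ∈ cen H y ∧ (a : F) • (v : V) ≠ 0 :=
      fun a v => ⟨H.uCentres_smul v.2.1 _, smul_ne_zero a.ne_zero v.2.2⟩
    let act : MulAction Fˣ {v : V // v ∈ cen H y ∧ v ≠ 0} :=
      { smul := fun a v => ⟨_, hsm a v⟩
        one_smul := fun v => Subtype.ext (one_smul F (v : V))
        mul_smul := fun a b v => Subtype.ext (mul_smul (a : F) (b : F) (v : V)) }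
    refine ⟨Nat.card (Quotient (MulAction.orbitRel Fˣ {v : V // v ∈ cen H y ∧ v ≠ 0})), ?_⟩
    have hfree : ∀ v : {v : V // v ∈ cen H y ∧ v ≠ 0}, MulAction.stabilizer Fˣ v = ⊥ := fun v => by
     rw [eq_bot_iff]
     intro a ha
     have e : (a : F) • (v : V) = (1 : F) • (v : V) := by
       rw [one_smul]; exact congrArg Subtype.val (MulAction.mem_stabilizer_iff.1 ha)
     exact Subgroup.mem_bot.2 (Units.ext (smul_left_injective F v.2.2 e))
    rw [Nat.card_congr (MulAction.selfEquivOrbitsQuotientProd hfree), Nat.card_prod, mul_comm]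
  rw [hc, hI] at hdc
  refine four_arith (d := Nat.card X) (c := c) hq (by omega) hf0 hfq ?_
  refine Nat.eq_of_mul_eq_mul_right (show 0 < H.q ^ 2 - 1 by
    have : 4 ≤ H.q ^ 2 := by nlinarith
    omega) ?_
  rw [mul_assoc, mul_comm c, hdc]
  ring

theorem card_eq : Nat.card X = (H.q + 1) * H.q ^ 3 := by
  have h := hL.card_moved
  have : IsEmpty {y : X // C.a ∈ cen H y} := ⟨fun y => hL.no_centre y.1 y.2⟩
  rwa [Nat.card_of_isEmpty, zero_add, eq_comm] at h

theorem all_moved (y : X) : Z1 C y ≠ ⊤ := fun h => hL.no_centre y (Z1_top.1 h)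

/-- No transvection fixes a point. -/
theorem no_transvection {v : V} (hv : H.h v v = 0) (hv0 : v ≠ 0) {c : F} (hc : c + H.σ c = 0) (hc0 : c ≠ 0)
    (y : X) : H.sT hv hc • y ≠ y := by
  intro h
  obtain ⟨g, hg⟩ := exists_move_iso (H := H) (by rw [C.hdim, hL.hm]; norm_num) hv0 C.ha0 hv C.haa
  have h1 := (fix_conj (X := X) g (H.sT hv hc)).2 h
  rw [H.sT_conj g hv hc] at h1
  have h2 : H.sT C.haa hc • g • y = g • y := by
    refine Eq.trans ?_ h1
    congr 1
    exact H.sT_congr _ _ _ _ hg.symm rfl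
  have h3 : (⟨c, hc⟩ : skew H) ∈ Z1 C (g • y) := by
    rw [mem_Z1, C.rho_zero]
    exact h2
  rw [(hL.facts (hL.all_moved _)).1, AddSubgroup.mem_bot] at h3
  exact hc0 (congrArg Subtype.val h3)

end Low

end Cfsg.Lib.Known.MinIndexSU
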