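import Cfsg.Agent.Known.MinIndexSU.FourScalar
import Cfsg.Agent.Known.MinIndexSU.Five
import Cfsg.Agent.Classical.Unitary.IsoLines

/-!
The minimal index of a proper subgroup in dimension four.
-/

set_option autoImplicit false
set_option linter.unusedSectionVars false
set_option linter.unusedSimpArgs false
set_option linter.style.haveILetI false

namespace Cfsg.Lib.Known.MinIndexSU

open Cfsg.Lib.Classical Cfsg.Lib.Classical.UIso

universe u v

section Abstract

variable {F : Type u} [Field F] [Finite F] {V : Type v} [AddCommGroup V] [Module F V] [FiniteDimensional F V]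
  {H : HermSpace F V}

/-- The bound in dimension four. -/
theorem index_four (hpow : ∀ x, H.σ x = x ^ H.q) (hd : Module.finrank F V = 4) {K : Subgroup H.SIsom}
    (hK : K ≠ ⊤) : (H.q + 1) * (H.q ^ 3 + 1) ≤ K.index := by
  by_contra hlt
  push Not at hlt
  have := finite_sisom' (H := H)
  have := Fintype.ofFinite (H.SIsom ⧸ K)
  obtain ⟨C, hC⟩ := exists_frame (H := H) (m := 2) le_rfl hd
  have hL : Low C (H.SIsom ⧸ K) := ⟨hC, hpow, hlt, stab_ne_top hK, inferInstance, ⟨QuotientGroup.mk 1⟩⟩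
  have hq := H.two_le_q
  rcases Nat.lt_or_ge H.q 4 with h | h
  · rcases Nat.lt_or_ge H.q 3 with h' | h'
    · have h2 : H.q = 2 := by omega
      refine no_index_24 h2 hd K ?_
      have h3 := hL.card_eq
      rw [h2] at h3
      exact h3
    · exact hL.not_three (by omega)
  · exact hL.not_four_le h

/-- Totally isotropic planes. -/
def TIPlane (H : HermSpace F V) : Type v :=
  {W : Submodule F V // Module.finrank F W = 2 ∧ ∀ u ∈ W, ∀ v ∈ W, H.h u v = 0}

noncomputable instance : MulAction H.SIsom (TIPlane H) where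
  smul g W := ⟨W.1.map g.1.1.toLinearMap, by rw [LinearEquiv.finrank_map_eq]; exact W.2.1, by
    rintro _ ⟨u, hu, rfl⟩ _ ⟨v, hv, rfl⟩
    exact (H.map_form g.1 u v).trans (W.2.2 u hu v hv)⟩
  one_smul W := Subtype.ext (Submodule.map_id W.1)
  mul_smul g g' W := Subtype.ext (Submodule.map_comp g'.1.1.toLinearMap g.1.1.toLinearMap W.1)

theorem smul_tiPlane (g : H.SIsom) (W : TIPlane H) : (g • W).1 = W.1.map g.1.1.toLinearMap := rfl

theorem plane_basis (W : TIPlane H) : ∃ p q : V, p ∈ W.1 ∧ q ∈ W.1 ∧ p ≠ 0 ∧ q ≠ 0 ∧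
    p ∉ Submodule.span F ({q} : Set V) ∧ W.1 = Submodule.span F ({p, q} : Set V) := by
  obtain ⟨q, hq, hq0⟩ := Submodule.exists_mem_ne_zero_of_ne_bot (p := W.1) fun h => by
    have := W.2.1
    rw [h, finrank_bot] at this
    omega
  obtain ⟨p, hp, hpq⟩ : ∃ p ∈ W.1, p ∉ Submodule.span F ({q} : Set V) := by
    by_contra h
    push Not at h
    have h1 := Submodule.finrank_mono (show W.1 ≤ Submodule.span F {q} from h)
    rw [W.2.1, finrank_span_singleton hq0] at h1
    omega
  have hp0 : p ≠ 0 := fun h => hpq (h ▸ Submodule.zero_mem _)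
  refine ⟨p, q, hp, hq, hp0, hq0, hpq, (Submodule.eq_of_le_of_finrank_le ?_ ?_).symm⟩
  · rw [Submodule.span_le]
    rintro x (rfl | rfl) <;> assumption
  · have hlt : Submodule.span F ({q} : Set V) < Submodule.span F ({p, q} : Set V) :=
      lt_of_le_of_ne (Submodule.span_mono (by simp)) fun h => hpq (h ▸ Submodule.subset_span (by simp))
    have := Submodule.finrank_lt_finrank_of_lt hlt
    rw [finrank_span_singleton hq0] at this
    rw [W.2.1]
    omega

theorem tiPlane_pretransitive : MulAction.IsPretransitive H.SIsom (TIPlane H) := by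
  refine ⟨fun W W' => ?_⟩
  obtain ⟨p, q, hp, hq, hp0, hq0, hpq, hW⟩ := plane_basis W
  obtain ⟨p', q', hp', hq', hp0', hq0', hpq', hW'⟩ := plane_basis W'
  have := H.isoPt_pretransitive
  obtain ⟨g, hg⟩ := MulAction.exists_smul_eq H.SIsom (H.isoMk p hp0 (W.2.2 p hp p hp))
    (H.isoMk p' hp0' (W'.2.2 p' hp' p' hp'))
  rw [HermSpace.smul_isoMk, HermSpace.isoMk_eq_iff] at hg
  obtain ⟨a, ha⟩ := hg
  have ha0 : a ≠ 0 := fun h => by
    rw [h, zero_smul] at ha
    exact hp0 (g.1.1.injective (by rw [← ha, map_zero]))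
  have hq1 : g.1.1 q ≠ 0 := fun h => hq0 (g.1.1.injective (by rw [h, map_zero]))
  have hpq1 : p' ∉ Submodule.span F ({g.1.1 q} : Set V) := fun h => by
    obtain ⟨b, hb⟩ := Submodule.mem_span_singleton.1 h
    exact hpq (Submodule.mem_span_singleton.2 ⟨a * b, g.1.1.injective (by rw [map_smul, mul_smul, hb, ha])⟩)
  have hort : H.h p' (g.1.1 q) = 0 := by
    have h1 : H.h (a • p') (g.1.1 q) = 0 := by rw [ha, H.map_form]; exact W.2.2 p hp q hq
    rw [H.smul_left, mul_eq_zero] at h1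
    exact h1.resolve_left ha0
  obtain ⟨k, hk, ⟨b, hb⟩, hkq⟩ := H.exists_SIsom_map_orth (W'.2.2 p' hp' p' hp')
    (show H.h (g.1.1 q) (g.1.1 q) = 0 by rw [H.map_form]; exact W.2.2 q hq q hq) (W'.2.2 q' hq' q' hq')
    hort (W'.2.2 p' hp' q' hq') hpq1 hpq' hq1 hq0'
  refine ⟨⟨k, hk⟩ * g, Subtype.ext (Submodule.eq_of_le_of_finrank_le ?_ ?_)⟩
  · rw [smul_tiPlane, hW, Submodule.map_span, Submodule.span_le]
    rintro _ ⟨x, (rfl | rfl), rfl⟩
    · show k.1 (g.1.1 x) ∈ W'.1
      rw [← ha, map_smul, hb]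
      exact W'.1.smul_mem _ (W'.1.smul_mem _ hp')
    · show k.1 (g.1.1 x) ∈ W'.1
      rw [hkq]
      exact hq'
  · rw [smul_tiPlane, LinearEquiv.finrank_map_eq, W.2.1, W'.2.1]

theorem center_le_stab_tiPlane (hd : 2 ≤ Module.finrank F V) (W : TIPlane H) :
    Subgroup.center H.SIsom ≤ MulAction.stabilizer H.SIsom W := fun g hg => by
  obtain ⟨a, ha, -, hga⟩ := (H.mem_center_SIsom_iff hd).1 hg
  refine MulAction.mem_stabilizer_iff.2 (Subtype.ext (Submodule.eq_of_le_of_finrank_le ?_ ?_))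
  · rintro _ ⟨x, hx, rfl⟩
    show g.1.1 x ∈ W.1
    rw [hga]
    exact W.1.smul_mem _ hx
  · rw [smul_tiPlane, LinearEquiv.finrank_map_eq]

end Abstract

section Standard

variable {F : Type u} [Field F] [Fintype F] {q : ℕ} (hF : Fintype.card F = q ^ 2)

include hF

/-- The minimal index in dimension four. -/
theorem min_index_four (hq : 2 ≤ q) :
    (∀ K : Subgroup (Cfsg.PSU 4 F q), K ≠ ⊤ → (q + 1) * (q ^ 3 + 1) ≤ K.index) ∧
      ∃ K : Subgroup (Cfsg.PSU 4 F q), K.index = (q + 1) * (q ^ 3 + 1) := by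
  have hdim : Module.finrank F (Fin 4 → F) = 4 := Module.finrank_fin_fun F
  refine ⟨fun K hK => ?_, ?_⟩
  · obtain ⟨K', hK', e⟩ := psu_index hF hK
    have h := index_four (hpow_std hF) hdim hK'
    rwa [stdHerm_q, e] at h
  · have hc : Nat.card (TIPlane (stdHerm 4 hF)) = (q + 1) * (q ^ 3 + 1) := by
      rw [← card_planes_four hF]
      simp only [← stdHerm_h hF]
      rfl
    have := tiPlane_pretransitive (H := stdHerm 4 hF)
    obtain ⟨W⟩ : Nonempty (TIPlane (stdHerm 4 hF)) := (Nat.card_pos_iff.1 (by rw [hc]; positivity)).1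
    obtain ⟨K, hK⟩ := psu_attain hF (M := MulAction.stabilizer (stdHerm 4 hF).SIsom W)
      (center_le_stab_tiPlane (by rw [hdim]; norm_num) W)
    exact ⟨K, by rw [hK, MulAction.index_stabilizer_of_transitive, hc]⟩

end Standard

end Cfsg.Lib.Known.MinIndexSU
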