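import Cfsg.Agent.Known.MinIndexSU.FourBound
import Cfsg.Agent.Known.MinIndexSU.Fixed

/-!
Dimension four: some transvection fixes a point when there are at least three scalars.
-/

set_option autoImplicit false
set_option linter.unusedSectionVars false
set_option linter.unusedSimpArgs false
set_option linter.style.haveILetI false

namespace Cfsg.Lib.Known.MinIndexSU

open Cfsg.Lib.Classical Cfsg.Lib.Classical.UIso

universe u v w

variable {F : Type u} [Field F] [Finite F] {V : Type v} [AddCommGroup V] [Module F V] [FiniteDimensional F V]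
  {H : HermSpace F V}

theorem sT_pow {e : V} (he : H.h e e = 0) {c : F} (hc : c + H.σ c = 0) (j : ℕ) (x : V) :
    ((H.sT he hc) ^ j).1.1 x = x + ((j : F) * c * H.h x e) • e := by
  induction j generalizing x with
  | zero => simp
  | succ j ih =>
    rw [pow_succ', H.smul_mul_apply, ih, H.sT_apply, H.add_left, H.smul_left, he, mul_zero, add_zero]
    push_cast
    module

theorem exists_fixed_scalar (h4 : 4 ≤ H.q) : ∃ l : F, H.σ l = l ∧ l ≠ 0 ∧ l * l ≠ 1 := by
  classical
  have := Fintype.ofFinite (fixedField H.σ)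
  have hc : Nat.card (fixedField H.σ) = H.q := rfl
  by_contra h
  push Not at h
  have hsub : (Finset.univ : Finset (fixedField H.σ)) ⊆ {0, 1, -1} := fun x _ => by
    simp only [Finset.mem_insert, Finset.mem_singleton]
    rcases eq_or_ne x 0 with hx | hx
    · exact Or.inl hx
    refine Or.inr ?_
    have h1 := h (x : F) (mem_fixedField.1 x.2) fun e => hx (Subtype.ext e)
    rcases mul_self_eq_one_iff.1 h1 with e | e
    · exact Or.inl (Subtype.ext e)
    · exact Or.inr (Subtype.ext e)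
  have h1 := (Finset.card_le_card hsub).trans Finset.card_le_three
  rw [Finset.card_univ, ← Nat.card_eq_fintype_card, hc] at h1
  omega

namespace Frame

variable (C : Frame H)

theorem sT_join {u : C.U} (hu : H.h (u : V) u = 0) (α : F) {c : F} (hc : c + H.σ c = 0)
    (hw : H.h (α • C.a + (u : V)) (α • C.a + (u : V)) = 0) (d : skew H) (hd : (d : F) = c * (α * H.σ α)) :
    H.sT hw hc = C.rho ((c * H.σ α) • u) d * H.sT hu hc := H.sisom_ext fun x => by
  have hσc : H.σ c = -c := eq_neg_of_add_eq_zero_right hc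
  rw [H.smul_mul_apply, C.rho_apply, H.sT_apply, H.sT_apply, Submodule.coe_smul]
  simp only [H.add_left, H.add_right, H.smul_left, H.smul_right, hu, C.ua, C.au, hd, map_mul, H.conj.invol, hσc,
    mul_zero, add_zero, sub_zero]
  module

end Frame

namespace Low

variable {C : Frame H} {X : Type w} [MulAction H.SIsom X] [Fintype X] (hL : Low C X)

include hL

theorem kb_iso (h3 : 3 ≤ H.q) (y : X) {u : C.U} (hu : u ∈ C.Kb y) : H.h (u : V) u = 0 := by
  by_contra huu
  have h := C.imgs_noniso hL.hpow hu huu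
  obtain ⟨-, hk, -, hM⟩ := hL.facts (hL.all_moved y)
  rw [hM, hk, hL.hm, show cardNormOne H.q 2 = H.q * (H.q ^ 2 - 1) by
    simp [cardNormOne, show Even 2 by decide]] at h
  obtain ⟨r, hr⟩ : ∃ r, H.q = r + 3 := ⟨H.q - 3, by omega⟩
  rw [hr, show (r + 3) ^ 2 - 1 = r ^ 2 + 6 * r + 8 by
    rw [show (r + 3) ^ 2 = r ^ 2 + 6 * r + 8 + 1 by ring, Nat.add_sub_cancel], show r + 3 - 1 = r + 2 by omega] at h
  have e : (r + 2) * ((r + 3) * (r ^ 2 + 6 * r + 8)) + (r + 3 + 1) =
      (r + 3 + 1) * (r + 3) ^ 2 + (r ^ 4 + 10 * r ^ 3 + 34 * r ^ 2 + 44 * r + 16) := by ring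
  omega

theorem kb_form (h3 : 3 ≤ H.q) (y : X) {u v : C.U} (hu : u ∈ C.Kb y) (hv : v ∈ C.Kb y) :
    H.σ (H.h (u : V) v) = H.h (u : V) v ∧ H.h (u : V) v ∈ skew H := by
  refine ⟨?_, Frame.iso_skew (hL.kb_iso h3 y hu) (hL.kb_iso h3 y hv) (hL.kb_iso h3 y ((C.Kb y).add_mem hu hv))⟩
  have h := C.comm_mem hu hv
  rw [(hL.facts (hL.all_moved y)).1, AddSubgroup.mem_bot] at h
  exact (sub_eq_zero.1 (congrArg Subtype.val h)).symm

theorem kb_span (h3 : 3 ≤ H.q) (y : X) {u : C.U} (hu : u ∈ C.Kb y) (hu0 : u ≠ 0)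
    (horth : ∀ v ∈ C.Kb y, H.h (v : V) u = 0) : ∀ t : F, t • u ∈ C.Kb y := by
  intro t
  have hline : ∀ v : C.Kb y, (v : C.U) ∈ Submodule.span F ({u} : Set C.U) := fun v =>
    C.orth_line hL.hm hu0 (hL.kb_iso h3 y hu) (horth _ v.2)
  choose f hf using fun v : C.Kb y => Submodule.mem_span_singleton.1 (hline v)
  have hinj : Function.Injective f := fun v v' e => Subtype.ext (by rw [← hf v, ← hf v', e])
  have hb := (hinj.bijective_of_nat_card_le (by
    rw [(hL.facts (hL.all_moved y)).2.1, H.card_field])).2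
  obtain ⟨v, rfl⟩ := hb t
  rw [hf]
  exact v.2

theorem kb_smul (h3 : 3 ≤ H.q) (y : X) {u : C.U} (hu : u ∈ C.Kb y) {l : F} (hl : H.σ l = l) :
    l • u ∈ C.Kb y := by
  rcases eq_or_ne u 0 with rfl | hu0
  · rw [smul_zero]; exact (C.Kb y).zero_mem
  by_cases horth : ∀ v ∈ C.Kb y, H.h (v : V) u = 0
  · exact hL.kb_span h3 y hu hu0 horth l
  push Not at horth
  obtain ⟨w, hw, ha⟩ := horth
  have hzero : ∀ z : C.U, H.h (z : V) w = 0 → H.h (z : V) u = 0 → z = 0 := fun z h1 h2 => by
    obtain ⟨s, rfl⟩ := Submodule.mem_span_singleton.1 (C.orth_line hL.hm hu0 (hL.kb_iso h3 y hu) h2)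
    rw [Submodule.coe_smul, H.smul_left, mul_eq_zero] at h1
    rcases h1 with h1 | h1
    · rw [h1, zero_smul]
    · exact absurd (H.eq_zero_symm h1) ha
  let f : C.Kb y → fixedField H.σ × fixedField H.σ := fun v =>
    (⟨H.h ((v : C.U) : V) w, mem_fixedField.2 (hL.kb_form h3 y v.2 hw).1⟩,
      ⟨H.h ((v : C.U) : V) u, mem_fixedField.2 (hL.kb_form h3 y v.2 hu).1⟩)
  have hinj : Function.Injective f := fun v v' e => by
    simp only [f, Prod.mk.injEq, Subtype.mk.injEq] at e
    refine Subtype.ext (sub_eq_zero.1 (hzero _ ?_ ?_))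
    · rw [Submodule.coe_sub, H.sub_left, e.1, sub_self]
    · rw [Submodule.coe_sub, H.sub_left, e.2, sub_self]
  have hb := (hinj.bijective_of_nat_card_le (by
    rw [(hL.facts (hL.all_moved y)).2.1, Nat.card_prod, sq]
    rfl)).2
  obtain ⟨v, hv⟩ := hb (⟨l * H.h (u : V) w, mem_fixedField.2 (by
    rw [map_mul, hl, (hL.kb_form h3 y hu hw).1])⟩, 0)
  simp only [f, Prod.mk.injEq, Subtype.ext_iff] at hv
  have e : (v : C.U) = l • u := sub_eq_zero.1 (hzero _
    (by rw [Submodule.coe_sub, H.sub_left, Submodule.coe_smul, H.smul_left, hv.1, sub_self])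
    (by rw [Submodule.coe_sub, H.sub_left, Submodule.coe_smul, H.smul_left, hv.2, hL.kb_iso h3 y hu, mul_zero]; simp))
  rw [← e]
  exact v.2

theorem not_four_le (h4 : 4 ≤ H.q) : False := by
  classical
  have hm := hL.hm
  obtain ⟨l, hl, hl0, hl2⟩ := exists_fixed_scalar (H := H) h4
  obtain ⟨g, hg, hgu, hτ⟩ := C.exists_scalar (ε := 1) hl0 (by rw [map_one, mul_one]) (by rw [one_pow, one_mul, hl])
  have hl1 : (1 : F) - l ≠ 0 := fun h => hl2 (by rw [← sub_eq_zero.1 h, one_mul])
  have hN1 : (1 : F) - l * l ≠ 0 := sub_ne_zero.2 (Ne.symm hl2)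
  have hτ' : ∀ u, C.tau g u = l • u := fun u => by rw [hτ, hl, mul_one]
  have hn : ∀ c : skew H, ((C.nrm g c : skew H) : F) = l * l * (c : F) := fun c => by
    show C.lam g * H.σ (C.lam g) * (c : F) = _
    rw [hg, hl]
  have hmove : ∀ (z : X) (u : C.U) (c : skew H), g.1 • C.rho u c • z = C.rho (l • u) (C.nrm g c) • g.1 • z :=
    fun z u c => by
      rw [smul_smul, smul_smul, ← hτ', ← C.G2_rho g u c, inv_mul_cancel_right]
  have hstab : ∀ z : X, g.1 • z ∈ C.orb z := fun z => by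
    refine hL.same_orb (hL.all_moved _) (hL.all_moved _) ?_
    rw [C.Kb_G2]
    ext u
    refine ⟨fun ⟨v, hv, e⟩ => ?_, fun hu => ⟨l⁻¹ • u, hL.kb_smul (by omega) z hu (by rw [map_inv₀, hl]), ?_⟩⟩
    · rw [← e, hτ']
      exact hL.kb_smul (by omega) z hv hl
    · rw [hτ', smul_inv_smul₀ hl0]
  have hex : ∀ y : X, ∃ z ∈ C.orb y, g.1 • z = z := fun y => by
    obtain ⟨u0, c0, e0⟩ := C.mem_orb.1 (hstab y)
    set u : C.U := (1 - l)⁻¹ • u0
    have hu : l • u + u0 = u := by
      have h1 : u0 = (1 - l) • u := (smul_inv_smul₀ hl1 u0).symm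
      rw [h1, ← add_smul, add_sub_cancel, one_smul]
    set b : skew H := c0 + C.beta (l • u) u0
    let c : skew H := ⟨(b : F) / (1 - l * l), by
      rw [mem_skew, map_div₀, map_sub, map_one, map_mul, hl, skew_conj, neg_div, add_neg_cancel]⟩
    refine ⟨C.rho u c • y, C.mem_orb.2 ⟨u, c, rfl⟩, ?_⟩
    rw [hmove, ← e0, smul_smul, C.rho_mul, hu]
    congr 2
    refine Subtype.ext ?_
    show ((C.nrm g c : skew H) : F) + (c0 : F) + (C.beta (l • u) u0 : F) = (b : F) / (1 - l * l)
    rw [hn, eq_div_iff hN1]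
    show (l * l * ((b : F) / (1 - l * l)) + _ + _) * _ = _
    have : (b : F) = (c0 : F) + (C.beta (l • u) u0 : F) := rfl
    have h5 : (b : F) / (1 - l * l) * (1 - l * l) = (b : F) := div_mul_cancel₀ _ hN1
    linear_combination (l * l) * h5 - (1 - l * l) * this
  have huniq : ∀ z z' : X, g.1 • z = z → g.1 • z' = z' → z' ∈ C.orb z → z' = z := fun z z' hz hz' hmem => by
    obtain ⟨u, c, rfl⟩ := C.mem_orb.1 hmem
    rw [hmove, hz] at hz'
    have h1 : ((C.rho u c)⁻¹ * C.rho (l • u) (C.nrm g c)) • z = z := by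
      rw [mul_smul, hz', inv_smul_smul]
    rw [C.rho_inv, C.rho_mul] at h1
    have h2 : u ∈ C.Kb z := by
      have h3 : -u + l • u ∈ C.Kb z := C.mem_Kb.2 ⟨_, h1⟩
      have h5 := hL.kb_smul (by omega) z h3 (show H.σ (l - 1)⁻¹ = (l - 1)⁻¹ by rw [map_inv₀, map_sub, map_one, hl])
      rwa [show -u + l • u = (l - 1) • u by rw [sub_smul, one_smul]; abel,
        inv_smul_smul₀ (sub_ne_zero.2 fun e => hl2 (by rw [e, one_mul]))] at h5
    obtain ⟨cu, hcu⟩ := C.mem_Kb.1 h2
    have hd : C.rho u c • z = C.rho 0 (c - cu) • z := by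
      conv_rhs => rw [← hcu, smul_smul, C.rho_T, sub_add_cancel]
    have h4 : g.1 • C.rho 0 (c - cu) • z = C.rho 0 (c - cu) • z := by
      rw [← hd, hmove, hz]
      exact hz'
    rw [hmove, hz, smul_zero] at h4
    have h6 : ((C.rho 0 (c - cu))⁻¹ * C.rho 0 (C.nrm g (c - cu))) • z = z := by
      rw [mul_smul, h4, inv_smul_smul]
    rw [C.rho_inv, neg_zero, C.beta_zero_left, sub_zero, C.rho_T] at h6
    have h7 : -(c - cu) + C.nrm g (c - cu) ∈ Z1 C z := mem_Z1.2 h6
    rw [(hL.facts (hL.all_moved z)).1, AddSubgroup.mem_bot] at h7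
    have h8 : -((c - cu : skew H) : F) + ((C.nrm g (c - cu) : skew H) : F) = 0 := congrArg Subtype.val h7
    rw [hn] at h8
    have h9 : c - cu = 0 := Subtype.ext ((mul_eq_zero.1 (show (1 - l * l) * ((c - cu : skew H) : F) = 0 by
      linear_combination -h8)).resolve_left hN1)
    rw [hd, h9, C.rho_zero_zero, one_smul]
  obtain ⟨S, hS, hSZ, hSK, hcov⟩ := hL.exists_reps
  choose zf hzmem hzfix using hex
  have hcard : Nat.card {z : X | g.1 • z = z} = H.q + 1 := by
    rw [← hS, ← Fintype.card_coe S, ← Nat.card_eq_fintype_card]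
    refine (Nat.card_eq_of_bijective (fun s : S => (⟨zf s, hzfix _⟩ : {z : X | g.1 • z = z})) ⟨?_, ?_⟩).symm
    · intro s t e
      refine Subtype.ext (hSK _ s.2 _ t.2 ?_)
      have e' : zf (s : X) = zf t := congrArg Subtype.val e
      rw [← (C.inv_orb (hzmem s)).2, ← (C.inv_orb (hzmem t)).2, e']
    · rintro ⟨z, hz⟩
      obtain ⟨s, hs, hzs⟩ := hcov z (hL.all_moved z)
      exact ⟨⟨s, hs⟩, Subtype.ext (huniq _ _ hz (hzfix _) (by rw [C.orb_eq hzs]; exact hzmem s))⟩
  obtain ⟨p, hchar⟩ := CharP.exists F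
  have := Fintype.ofFinite F
  obtain ⟨n, hp, hn'⟩ := FiniteField.card F p
  have : Fact p.Prime := ⟨hp⟩
  have hpq : p ∣ H.q := hp.dvd_of_dvd_pow (n := 2) (by
    rw [← H.card_field, Nat.card_eq_fintype_card, hn']
    exact dvd_pow_self p n.pos.ne')
  obtain ⟨e, he0, hee⟩ := C.HU.exists_isotropic_of_two_le (by rw [C.finrank_U, hm])
  obtain ⟨c, hc0, hc⟩ := H.conj.exists_skew
  have hee' : H.h (e : V) e = 0 := hee
  have hpow : (H.sT hee' hc) ^ p = 1 := H.sisom_ext fun x => by
    rw [sT_pow, CharP.cast_eq_zero, zero_mul, zero_mul, zero_smul, add_zero]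
    rfl
  obtain ⟨z, -, hz⟩ := exists_fixed (H.sT hee' hc) hpow {z : X | g.1 • z = z} (fun z hz => by
    show g.1 • _ = _
    rw [← C.ext_sT hee' hc, smul_smul, C.scalar_comm hgu, mul_smul, show g.1 • z = z from hz]) (by
    rw [hcard]
    intro h
    exact hp.one_lt.ne' (Nat.dvd_one.1 ((Nat.dvd_add_right hpq).1 h)))
  exact hL.no_transvection hee' (fun h => he0 (Subtype.ext h)) hc hc0 z hz

theorem not_three (h3 : H.q = 3) : False := by
  classical
  have hm := hL.hm
  have h2 : (2 : F) ≠ 0 := fun h2 => by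
    have := Fintype.ofFinite F
    have h9 : Fintype.card F = 9 := by rw [← Nat.card_eq_fintype_card, H.card_field, h3]; norm_num
    have hodd : ringChar F ≠ 2 := fun h => by
      have := (FiniteField.even_card_iff_char_two (F := F)).1 h
      rw [h9] at this
      norm_num at this
    exact Ring.two_ne_zero hodd h2
  obtain ⟨y⟩ := hL.hne
  obtain ⟨hZ, hk, -, -⟩ := hL.facts (hL.all_moved y)
  obtain ⟨u, hu, hu0⟩ : ∃ u ∈ C.Kb y, u ≠ 0 := by
    by_contra h
    push Not at h
    rw [(eq_bot_iff.2 fun u hu => AddSubgroup.mem_bot.2 (h u hu) : C.Kb y = ⊥), AddSubgroup.card_bot, h3] at hk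
    norm_num at hk
  have huu : H.h (u : V) u = 0 := hL.kb_iso (by omega) y hu
  have horth : ∀ v ∈ C.Kb y, H.h (v : V) u = 0 := fun v hv => by
    obtain ⟨h1, h1'⟩ := hL.kb_form (by omega) y hv hu
    rw [mem_skew, h1, ← two_mul] at h1'
    exact (mul_eq_zero.1 h1').resolve_left h2
  have hsp := hL.kb_span (by omega) y hu hu0 horth
  choose L hL' using fun t : F => C.mem_Kb.1 (hsp t)
  have huniq : ∀ (z : C.U) (c d : skew H), C.rho z c • y = y → C.rho z d • y = y → c = d := fun z c d e1 e2 => by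
    have h1 : C.rho 0 (c - d) • y = y := by
      conv_lhs => rw [← e2, smul_smul, C.rho_T, sub_add_cancel]
      exact e1
    have h4 := mem_Z1.2 h1
    rw [hZ, AddSubgroup.mem_bot, sub_eq_zero] at h4
    exact h4
  have hLadd : ∀ s t, L (s + t) = L s + L t := fun s t => by
    refine huniq _ _ _ (hL' (s + t)) ?_
    have hb : C.beta (s • u) (t • u) = 0 := Subtype.ext (by
      simp [Frame.beta, nu_coe, H.smul_left, H.smul_right, huu])
    have h1 := C.rho_mul (s • u) (t • u) (L s) (L t)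
    rw [hb, add_zero, ← add_smul] at h1
    rw [← h1, mul_smul, hL', hL']
  obtain ⟨c0, hc00, hc0⟩ := H.conj.exists_skew
  set r : H.SIsom := H.sT huu hc0 with hr
  have hrext := C.ext_sT (e := u) huu hc0
  set k := C.HU.sT (show C.HU.h u u = 0 from huu) (show c0 + C.HU.σ c0 = 0 from hc0)
  have hk' : ∀ t : F, k.1.1 (t • u) = t • u := fun t => by
    rw [C.HU.sT_apply, C.HU.smul_left, show C.HU.h u u = 0 from huu, mul_zero, mul_zero, zero_smul, add_zero]
  have hKr : C.Kb ((C.ext k).1 • y) = C.Kb y := by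
    rw [C.Kb_G2]
    ext v
    refine ⟨fun ⟨x, hx, e⟩ => ?_, fun hv => ⟨v, hv, ?_⟩⟩
    · obtain ⟨t, rfl⟩ := Submodule.mem_span_singleton.1 (C.orth_line hm hu0 huu (horth x hx))
      rw [← e, C.tau_ext, hk']
      exact hx
    · obtain ⟨t, rfl⟩ := Submodule.mem_span_singleton.1 (C.orth_line hm hu0 huu (horth v hv))
      rw [C.tau_ext, hk']
  obtain ⟨v, d, hvd⟩ := C.mem_orb.1 (hL.same_orb (hL.all_moved y) (hL.all_moved _) hKr)
  have hv : H.h (v : V) u = 0 := by
    have hcomm : ∀ t : F, C.comm (t • u) v = 0 := fun t => by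
      have h1 : C.rho (t • u) (L t) • (C.ext k).1 • y = (C.ext k).1 • y := by
        have e := C.ext_rho k (t • u) (L t)
        rw [hk'] at e
        rw [smul_smul, ← e, mul_smul, hL']
      rw [← hvd, smul_smul, C.rho_comm, mul_smul, mul_smul, hL'] at h1
      have h4 : C.comm (t • u) v ∈ Z1 C (C.rho v d • y) := mem_Z1.2 h1
      rwa [(hL.facts (hL.all_moved _)).1, AddSubgroup.mem_bot] at h4
    by_contra hne
    have hne' : H.h (u : V) v ≠ 0 := fun h => hne (H.eq_zero_symm h)
    have h5 : (c0 / H.h (u : V) v) * H.h (u : V) v - H.σ (c0 / H.h (u : V) v * H.h (u : V) v) = 0 := by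
      have := congrArg Subtype.val (hcomm (c0 / H.h (u : V) v))
      simpa [Frame.comm, nu_coe, H.smul_left] using this
    rw [div_mul_cancel₀ _ hne', eq_neg_of_add_eq_zero_right hc0, sub_neg_eq_add, ← two_mul] at h5
    exact mul_ne_zero h2 hc00 h5
  obtain ⟨t0, rfl⟩ := Submodule.mem_span_singleton.1 (C.orth_line hm hu0 huu hv)
  set d' : skew H := d - L t0
  have hry : r • y = C.rho 0 d' • y := by
    rw [hr, ← hrext, ← hvd]
    conv_rhs => rw [← hL' t0, smul_smul, C.rho_T, sub_add_cancel]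
  let M : F → F := fun x => (L (c0 * H.σ x) : F) / c0
  have hσc : H.σ c0 = -c0 := eq_neg_of_add_eq_zero_right hc0
  have hMfix : ∀ x, H.σ (M x) = M x := fun x => by
    rw [map_div₀, skew_conj, hσc, neg_div_neg_eq]
  have hMadd : ∀ x x', M (x + x') = M x + M x' := fun x x' => by
    simp only [M, map_add, mul_add, hLadd, AddSubgroup.coe_add, add_div]
  have hM0 : M 0 = 0 := by have := hMadd 0 0; simpa using this
  have hMneg : ∀ x, M (-x) = -M x := fun x => by
    have := hMadd x (-x)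
    rw [add_neg_cancel, hM0] at this
    linear_combination -this
  have hMsmul : ∀ (i x : F), H.σ i = i → M (i * x) = i * M x := fun i x hi => by
    rcases eq_or_ne i 0 with rfl | hi0
    · rw [zero_mul, zero_mul, hM0]
    have h1 : i * i = 1 := by
      have := Fintype.ofFinite (fixedField H.σ)
      have h2' := FiniteField.pow_card_sub_one_eq_one (⟨i, mem_fixedField.2 hi⟩ : fixedField H.σ)
        (fun e => hi0 (congrArg Subtype.val e))
      rw [← Nat.card_eq_fintype_card, show Nat.card (fixedField H.σ) = H.q from rfl, h3] at h2'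
      have := congrArg Subtype.val h2'
      simpa [sq] using this
    rcases mul_self_eq_one_iff.1 h1 with rfl | rfl
    · rw [one_mul, one_mul]
    · rw [neg_one_mul, neg_one_mul, hMneg]
  set β : F := M 1 / 2 + M c0 / (2 * c0) with hβ
  have hβM : ∀ x, β * x + H.σ (β * x) = M x := fun x => by
    set x1 := (x + H.σ x) / 2 with hx1
    set x2 := (x - H.σ x) / (2 * c0) with hx2
    have e1 : H.σ x1 = x1 := by rw [hx1, map_div₀, map_add, H.conj.invol, map_ofNat, add_comm]
    have e2 : H.σ x2 = x2 := by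
      rw [hx2, map_div₀, map_sub, H.conj.invol, map_mul, map_ofNat, hσc]
      field_simp
      ring
    have ex : x = x1 * 1 + x2 * c0 := by rw [hx1, hx2]; field_simp; ring
    conv_rhs => rw [ex, hMadd, hMsmul _ _ e1, hMsmul _ _ e2]
    rw [hβ]
    simp only [map_mul, map_add, map_div₀, map_ofNat, hMfix, hσc, hx1, hx2]
    field_simp
    ring
  have htarget : H.σ (-(d' : F) / c0 + β * H.σ β) = -(d' : F) / c0 + β * H.σ β := by
    rw [map_add, map_div₀, map_neg, skew_conj, hσc, map_mul, H.conj.invol, mul_comm (H.σ β)]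
    congr 1
    field_simp
  obtain ⟨b, hb⟩ := H.conj.norm_surjective htarget
  set α := b + H.σ β with hα
  have hσd : c0 * (α * H.σ α) + H.σ (c0 * (α * H.σ α)) = 0 := by
    rw [map_mul, map_mul, H.conj.invol, hσc]; ring
  have hw : H.h (α • C.a + (u : V)) (α • C.a + (u : V)) = 0 := by
    simp only [H.add_left, H.add_right, H.smul_left, H.smul_right, C.haa, C.au, C.ua, huu]
    ring
  have heq : L (c0 * H.σ α) = (⟨c0 * (α * H.σ α), hσd⟩ : skew H) + d' := by
    refine Subtype.ext ?_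
    show (L (c0 * H.σ α) : F) = c0 * (α * H.σ α) + (d' : F)
    have h1 : (L (c0 * H.σ α) : F) = c0 * M α := by rw [mul_div_cancel₀ _ hc00]
    rw [h1, ← hβM, hα]
    simp only [map_add, map_mul, H.conj.invol]
    field_simp at hb ⊢
    linear_combination -hb
  refine hL.no_transvection hw (fun h => hu0 (Subtype.ext ?_)) hc0 hc00 y ?_
  · have h1 := congrArg (fun t => H.h t C.b) h
    simp only [H.add_left, H.smul_left, C.hab, C.ub, H.zero_left, add_zero, mul_one] at h1
    rw [h1, zero_smul, zero_add] at h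
    exact h
  · rw [C.sT_join huu α hc0 hw ⟨_, hσd⟩ rfl, ← hr, mul_smul, hry, smul_smul, C.rho_T', add_comm d', ← heq]
    exact hL' _

end Low

end Cfsg.Lib.Known.MinIndexSU
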