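import Cfsg.Agent.Known.MinIndexSU.Orbit
import Cfsg.Agent.Classical.Unitary.Decomp
import Cfsg.Agent.Classical.Unitary.Simple

/-!
The elements fixing the two points of a frame: construction, and transitivity on the orthogonal space.
-/

set_option autoImplicit false
set_option linter.unusedSectionVars false
set_option linter.unusedSimpArgs false
set_option linter.style.haveILetI false

namespace Cfsg.Lib.Known.MinIndexSU

open Cfsg.Lib.Classical

universe u v

variable {F : Type u} [Field F] [Finite F] {V : Type v} [AddCommGroup V] [Module F V] [FiniteDimensional F V]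
  {H : HermSpace F V}

section Ext

variable {W : Submodule F V} (hW : H.NondegOn W)

/-- An isometry of a nondegenerate subspace, extended by the identity. -/
noncomputable def extI : (H.restrict W hW).Isom →* H.Isom :=
  ((H.subStab W).subtype.comp (H.subStabEquiv W hW).symm.toMonoidHom).comp (MonoidHom.inl _ _)

theorem extI_mem (k : (H.restrict W hW).Isom) (w : W) : (extI hW k).1 (w : V) = (k.1 w : V) := by
  have h := (H.subStabEquiv W hW).apply_symm_apply (k, 1)
  exact congrArg (fun t => ((t.1.1 : W ≃ₗ[F] W) w : V)) h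

theorem extI_orth (k : (H.restrict W hW).Isom) {x : V} (hx : x ∈ H.orth W) : (extI hW k).1 x = x := by
  have h := (H.subStabEquiv W hW).apply_symm_apply (k, 1)
  exact congrArg (fun t => ((t.2.1 : H.orth W ≃ₗ[F] H.orth W) ⟨x, hx⟩ : V)) h

theorem det_extI (k : (H.restrict W hW).Isom) : H.detHom (extI hW k) = (H.restrict W hW).detHom k := by
  refine Units.ext ?_
  show ((LinearEquiv.det (extI hW k).1 : Fˣ) : F) = ((LinearEquiv.det k.1 : Fˣ) : F)
  rw [LinearEquiv.coe_det, LinearEquiv.coe_det]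
  have e : (extI hW k).1.toLinearMap = (W.prodEquivOfIsCompl _ (H.isCompl_orth hW)).toLinearMap ∘ₗ
      (LinearMap.prodMap k.1.toLinearMap LinearMap.id) ∘ₗ
        (W.prodEquivOfIsCompl _ (H.isCompl_orth hW)).symm.toLinearMap := by
    refine LinearMap.ext fun x => ?_
    obtain ⟨p, rfl⟩ := (W.prodEquivOfIsCompl _ (H.isCompl_orth hW)).surjective x
    rw [LinearMap.comp_apply, LinearMap.comp_apply]
    simp only [LinearEquiv.coe_coe]
    rw [LinearEquiv.symm_apply_apply]
    simp only [LinearMap.prodMap_apply, Submodule.coe_prodEquivOfIsCompl', LinearMap.id_apply]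
    rw [map_add, extI_mem, extI_orth hW k p.2.2]
    rfl
  rw [e, LinearMap.det_conj, LinearMap.det_prodMap, LinearMap.det_id, mul_one]

end Ext

namespace Frame

variable (C : Frame H)

theorem ab_mem : C.a ∈ H.orth C.U ∧ C.b ∈ H.orth C.U := by
  constructor <;> intro w hw
  · exact H.eq_zero_symm (C.mem_U.1 hw).1
  · exact H.eq_zero_symm (C.mem_U.1 hw).2

theorem decomp (x : V) : ∃ (u : C.U) (p r : F), x = (u : V) + p • C.a + r • C.b :=
  ⟨⟨_, C.proj_mem x⟩, H.h x C.b, H.h x C.a, by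
    show x = x - H.h x C.b • C.a - H.h x C.a • C.b + H.h x C.b • C.a + H.h x C.a • C.b
    abel⟩

theorem tor_left {l : F} (hl : l ≠ 0) : IsUnit (1 + ((l - 1) • H.lin C.b) C.a) := by
  simp [HermSpace.lin_apply, C.hab, hl]

theorem tor_right {l : F} (hl : l ≠ 0) : IsUnit (1 + (((H.σ l)⁻¹ - 1) • H.lin C.a) C.b) := by
  simp [HermSpace.lin_apply, C.hba, hl]

theorem tor_map {l : F} (hl : l ≠ 0) :
    LinearEquiv.dilatransvection (C.tor_left hl) * LinearEquiv.dilatransvection (C.tor_right hl) ∈ H.Isom := by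
  have hσ : H.σ l ≠ 0 := (map_ne_zero _).2 hl
  intro x y
  have happ : ∀ x, (LinearEquiv.dilatransvection (C.tor_left hl) * LinearEquiv.dilatransvection (C.tor_right hl)) x =
      x + ((l - 1) * H.h x C.b) • C.a + (((H.σ l)⁻¹ - 1) * H.h x C.a) • C.b := fun x => by
    simp only [LinearEquiv.mul_apply, LinearEquiv.dilatransvection.apply, LinearMap.smul_apply,
      HermSpace.lin_apply, smul_eq_mul, H.add_left, H.smul_left, C.hbb, mul_zero, add_zero]
    module
  rw [happ, happ]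
  simp only [H.add_left, H.add_right, H.smul_left, H.smul_right, C.haa, C.hbb, C.hab, C.hba, map_mul, map_sub,
    map_one, map_inv₀, H.conj.invol, ← H.symm C.a y, ← H.symm C.b y]
  linear_combination (H.h x C.b * H.h C.a y) * (mul_inv_cancel₀ hl) + (H.h x C.a * H.h C.b y) * (inv_mul_cancel₀ hσ)

/-- The diagonal element on the pair. -/
noncomputable def tor (l : F) (hl : l ≠ 0) : H.Isom := ⟨_, C.tor_map hl⟩

theorem tor_apply (l : F) (hl : l ≠ 0) (x : V) :
    (C.tor l hl).1 x = x + ((l - 1) * H.h x C.b) • C.a + (((H.σ l)⁻¹ - 1) * H.h x C.a) • C.b := by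
  simp only [tor, LinearEquiv.mul_apply, LinearEquiv.dilatransvection.apply, LinearMap.smul_apply,
      HermSpace.lin_apply, smul_eq_mul, H.add_left, H.smul_left, C.hbb, mul_zero, add_zero]
  module

theorem det_tor (l : F) (hl : l ≠ 0) : (H.detHom (C.tor l hl) : F) = l * (H.σ l)⁻¹ := by
  show ((LinearEquiv.det (C.tor l hl).1 : Fˣ) : F) = _
  rw [tor, map_mul, Units.val_mul, LinearEquiv.coe_det, LinearEquiv.coe_det,
    LinearEquiv.dilatransvection.coe_toLinearMap, LinearEquiv.dilatransvection.coe_toLinearMap,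
    LinearMap.transvection.det, LinearMap.transvection.det]
  simp [HermSpace.lin_apply, C.hab, C.hba]

/-- The general element: a scalar on the pair and an isometry of the orthogonal space. -/
theorem exists_gel (k : C.HU.Isom) {l : F} (hl : l ≠ 0)
    (hdet : (C.HU.detHom k : F) * l = H.σ l) :
    ∃ g : C.G2, C.lam g = l ∧ (∀ u : C.U, g.1.1.1 (u : V) = (k.1 u : V)) ∧
      ∀ u : C.U, C.tau g u = H.σ l • k.1 u := by
  have hmem : C.tor l hl * extI C.nondeg k ∈ H.SIsom := by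
    rw [HermSpace.SIsom, MonoidHom.mem_ker, map_mul]
    erw [det_extI C.nondeg k]
    refine Units.ext ?_
    rw [Units.val_mul, C.det_tor, Units.val_one]
    show l * (H.σ l)⁻¹ * (C.HU.detHom k : F) = 1
    have hσ : H.σ l ≠ 0 := (map_ne_zero _).2 hl
    rw [mul_assoc, mul_comm (H.σ l)⁻¹, ← mul_assoc, mul_comm l, hdet, mul_inv_cancel₀ hσ]
  have ha : (C.tor l hl * extI C.nondeg k).1 C.a = l • C.a := by
    rw [H.mul_apply', extI_orth C.nondeg k C.ab_mem.1, C.tor_apply, C.hab, C.haa]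
    module
  have hb : (C.tor l hl * extI C.nondeg k).1 C.b = (H.σ l)⁻¹ • C.b := by
    rw [H.mul_apply', extI_orth C.nondeg k C.ab_mem.2, C.tor_apply, C.hbb, C.hba]
    module
  have hu : ∀ u : C.U, (C.tor l hl * extI C.nondeg k).1 (u : V) = (k.1 u : V) := fun u => by
    rw [H.mul_apply', extI_mem C.nondeg k u, C.tor_apply, C.ua, C.ub]
    simp
  let g : C.G2 := ⟨⟨_, hmem⟩, l, hl, ha, hb⟩
  have hlam : C.lam g = l := by rw [lam]; show H.h ((C.tor l hl * extI C.nondeg k).1 C.a) C.b = l; rw [ha, H.smul_left, C.hab, mul_one]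
  refine ⟨g, hlam, hu, fun u => Subtype.ext ?_⟩
  rw [C.tau_coe, hlam, Submodule.coe_smul]
  exact congrArg (H.σ l • ·) (hu u)

theorem ext_mem (k : C.HU.SIsom) : extI C.nondeg k.1 ∈ H.SIsom := by
  rw [HermSpace.SIsom, MonoidHom.mem_ker]
  exact (det_extI C.nondeg k.1).trans k.2

theorem ext_G2 (k : C.HU.SIsom) : (⟨_, C.ext_mem k⟩ : H.SIsom) ∈ C.G2 := by
  refine ⟨1, one_ne_zero, ?_, ?_⟩
  · rw [one_smul]; exact extI_orth C.nondeg k.1 C.ab_mem.1
  · rw [map_one, inv_one, one_smul]; exact extI_orth C.nondeg k.1 C.ab_mem.2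

/-- The special unitary group of the orthogonal space inside. -/
noncomputable def ext : C.HU.SIsom →* C.G2 where
  toFun k := ⟨⟨_, C.ext_mem k⟩, C.ext_G2 k⟩
  map_one' := Subtype.ext (Subtype.ext (map_one (extI C.nondeg)))
  map_mul' k k' := Subtype.ext (Subtype.ext (map_mul (extI C.nondeg) k.1 k'.1))

theorem ext_apply (k : C.HU.SIsom) (u : C.U) : (C.ext k).1.1.1 (u : V) = (k.1.1 u : V) :=
  extI_mem C.nondeg k.1 u

theorem lam_ext (k : C.HU.SIsom) : C.lam (C.ext k) = 1 := by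
  show H.h ((extI C.nondeg k.1).1 C.a) C.b = 1
  rw [extI_orth C.nondeg k.1 C.ab_mem.1, C.hab]

theorem tau_ext (k : C.HU.SIsom) (u : C.U) : C.tau (C.ext k) u = k.1.1 u :=
  Subtype.ext (by rw [C.tau_coe, C.lam_ext, map_one, one_smul, C.ext_apply])

theorem ext_rho (k : C.HU.SIsom) (u : C.U) (c : skew H) :
    (C.ext k).1 * C.rho u c = C.rho (k.1.1 u) c * (C.ext k).1 := by
  rw [← mul_inv_eq_iff_eq_mul, C.G2_rho, C.tau_ext]
  congr 1
  exact Subtype.ext (by simp [nrm, C.lam_ext])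

/-- Every scalar occurs as a factor. -/
theorem exists_lam {l : F} (hl : l ≠ 0) : ∃ g : C.G2, C.lam g = l := by
  have : Nontrivial C.U := Module.nontrivial_of_finrank_pos (R := F) (by rw [C.finrank_U]; have := C.hm; omega)
  have hσ : H.σ l ≠ 0 := (map_ne_zero _).2 hl
  obtain ⟨k, hk⟩ : Units.mk0 (H.σ l / l) (div_ne_zero hσ hl) ∈ C.HU.detHom.range := by
    rw [C.HU.range_detHom, MonoidHom.mem_ker]
    refine Units.ext ?_
    rw [coe_normUnits, Units.val_mk0, C.HU_σ, map_div₀, H.conj.invol, Units.val_one]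
    field_simp
  obtain ⟨g, hg, -, -⟩ := C.exists_gel k hl (by rw [hk, Units.val_mk0, div_mul_cancel₀ _ hl])
  exact ⟨g, hg⟩

theorem exists_norm {μ : F} (hμ : H.σ μ = μ) (hμ0 : μ ≠ 0) : ∃ g : C.G2, C.lam g * H.σ (C.lam g) = μ := by
  obtain ⟨l, hl⟩ := H.conj.norm_surjective hμ
  obtain ⟨g, hg⟩ := C.exists_lam (l := l) (fun h => hμ0 (by rw [← hl, h, zero_mul]))
  exact ⟨g, by rw [hg]; exact hl⟩

theorem exists_orth_norm_one {y : C.U} (hy : H.h (y : V) y ≠ 0 ∨ 3 ≤ C.m) :
    ∃ w : C.U, H.h (w : V) w = 1 ∧ H.h (w : V) y = 0 := by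
  rcases hy with hy | hy
  · have hn : C.HU.NondegOn (Submodule.span F {y}) := C.HU.nondegOn_span_singleton hy
    have hy0 : y ≠ 0 := fun h => hy (by rw [h, Submodule.coe_zero, H.zero_left])
    have : Nontrivial (C.HU.orth (Submodule.span F {y})) := Module.nontrivial_of_finrank_pos (R := F) (by
      rw [C.HU.finrank_orth, finrank_span_singleton hy0, C.finrank_U]
      have := C.hm
      omega)
    obtain ⟨w, hw⟩ := (C.HU.restrict _ (C.HU.nondegOn_orth hn)).exists_norm_one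
    exact ⟨w.1, hw, w.2 y (Submodule.mem_span_singleton_self y)⟩
  · exact C.HU.exists_anisotropic_orth_singleton (by rw [C.finrank_U]; exact hy) y

/-- Transitivity by the elements of a given factor. -/
theorem exists_tau_map {x y : C.U} (hx : x ≠ 0) (hy : y ≠ 0) {l : F} (hl : l ≠ 0)
    (hn : H.h (y : V) y = l * H.σ l * H.h (x : V) x) (hc : H.h (x : V) x ≠ 0 ∨ 3 ≤ C.m) :
    ∃ g : C.G2, C.lam g = l ∧ C.tau g x = y := by
  have hσ : H.σ l ≠ 0 := (map_ne_zero _).2 hl
  set t : C.U := (H.σ l)⁻¹ • y with ht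
  have ht0 : t ≠ 0 := smul_ne_zero (inv_ne_zero hσ) hy
  obtain ⟨k0, hk0⟩ := C.HU.exists_isom_same_norm hx ht0 (by
    show H.h (t : V) t = H.h (x : V) x
    rw [ht, Submodule.coe_smul, H.smul_left, H.smul_right, map_inv₀, H.conj.invol, hn]
    field_simp)
  obtain ⟨w, hw, hwt⟩ := C.exists_orth_norm_one (y := t) (by
    refine hc.imp (fun h => ?_) id
    rw [ht, Submodule.coe_smul, H.smul_left, H.smul_right, hn]
    exact mul_ne_zero (inv_ne_zero hσ) (mul_ne_zero ((map_ne_zero _).2 (inv_ne_zero hσ))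
      (mul_ne_zero (mul_ne_zero hl hσ) h)))
  have hz : Units.mk0 (H.σ l / l) (div_ne_zero hσ hl) * (C.HU.detHom k0)⁻¹ ∈ (normUnits C.HU.σ).ker := by
    refine mul_mem ?_ (inv_mem (C.HU.det_mem_norm_ker k0))
    rw [MonoidHom.mem_ker]
    refine Units.ext ?_
    rw [coe_normUnits, Units.val_mk0, C.HU_σ, map_div₀, H.conj.invol, Units.val_one]
    field_simp
  have hw' : C.HU.h w w = 1 := hw
  obtain ⟨g, hg, -, hτ⟩ := C.exists_gel (C.HU.qrefl hw' ⟨_, hz⟩ * k0) hl (by
    rw [map_mul, C.HU.det_qrefl, inv_mul_cancel_right, Units.val_mk0, div_mul_cancel₀ _ hl])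
  refine ⟨g, hg, ?_⟩
  rw [hτ, C.HU.mul_apply', hk0, C.HU.qrefl_orth hw' _ (C.HU.eq_zero_symm hwt), ht, smul_inv_smul₀ hσ]

/-- Transitivity on vectors whose norms are both zero or both nonzero. -/
theorem exists_tau {x y : C.U} (hx : x ≠ 0) (hy : y ≠ 0) (hc : H.h (x : V) x ≠ 0 ∨ 3 ≤ C.m)
    (hxy : H.h (x : V) x = 0 ↔ H.h (y : V) y = 0) : ∃ g : C.G2, C.tau g x = y := by
  by_cases h0 : H.h (x : V) x = 0
  · obtain ⟨g, -, hg⟩ := C.exists_tau_map hx hy one_ne_zero (by rw [h0, hxy.1 h0, mul_zero]) hc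
    exact ⟨g, hg⟩
  · obtain ⟨l, hl⟩ := H.conj.norm_surjective (a := H.h (y : V) y / H.h (x : V) x)
      (by rw [map_div₀, H.self_fixed, H.self_fixed])
    have hl0 : l ≠ 0 := fun h => by
      rw [h, zero_mul, eq_comm, div_eq_zero_iff] at hl
      exact hl.elim (fun h' => h0 (hxy.2 h')) h0
    obtain ⟨g, -, hg⟩ := C.exists_tau_map hx hy hl0 (by rw [hl, div_mul_cancel₀ _ h0]) hc
    exact ⟨g, hg⟩

/-- Transitivity of the special unitary group of the orthogonal space. -/
theorem exists_ext_map (hm : 3 ≤ C.m) {x y : C.U} (hx : x ≠ 0) (hy : y ≠ 0)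
    (hn : H.h (y : V) y = H.h (x : V) x) : ∃ k : C.HU.SIsom, k.1.1 x = y := by
  obtain ⟨k0, hk0⟩ := C.HU.exists_isom_same_norm hx hy hn
  obtain ⟨w, hw, hwy⟩ := C.HU.exists_anisotropic_orth_singleton (by rw [C.finrank_U]; exact hm) y
  obtain ⟨z, hz⟩ := C.HU.exists_SIsom_correct k0 hw
  refine ⟨⟨_, hz⟩, ?_⟩
  show (C.HU.qrefl hw z * k0).1 x = y
  rw [C.HU.mul_apply', hk0, C.HU.qrefl_orth hw z (C.HU.eq_zero_symm hwy)]

end Frame

end Cfsg.Lib.Known.MinIndexSU
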