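import Cfsg.Agent.Known.MinIndexSU.Endgame
import Cfsg.Agent.Classical.Unitary.Matrix

/-!
The minimal index of a proper subgroup of the projective special unitary groups, and the points attaining it.
-/

set_option autoImplicit false
set_option linter.unusedSectionVars false
set_option linter.unusedSimpArgs false
set_option linter.style.haveILetI false

namespace Cfsg.Lib.Known.MinIndexSU

open Cfsg.Lib.Classical Cfsg.Lib.Classical.UIso

universe u v

theorem isoCount_le (q n : ℕ) (hq : 2 ≤ q) (hn : 5 ≤ n) :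
    isoCount q n ≤ q ^ (2 * (n - 2) + 3) + q ^ (n - 2 + 2) := by
  obtain ⟨j, rfl⟩ : ∃ j, n = j + 1 := ⟨n - 1, by omega⟩
  rw [show 2 * (j + 1 - 2) + 3 = (j + 1) + j by omega, show j + 1 - 2 + 2 = j + 1 by omega, pow_add]
  unfold isoCount
  split_ifs with he
  · rw [Nat.add_sub_cancel]
    refine le_trans (Nat.mul_le_mul_right _ (Nat.sub_le _ 1)) ?_
    rw [mul_add, mul_one]
  · rw [Nat.add_sub_cancel, add_mul, one_mul]
    refine Nat.add_le_add (Nat.mul_le_mul_left _ (Nat.sub_le _ 1)) ?_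
    exact (Nat.sub_le _ 1).trans (Nat.pow_le_pow_right (by omega) (by omega))

theorem isoCount_ne_two (q n : ℕ) (hq : 2 ≤ q) (hn : 2 ≤ n) : 0 < isoCount q n := by
  obtain ⟨j, rfl⟩ : ∃ j, n = j + 1 := ⟨n - 1, by omega⟩
  unfold isoCount
  split_ifs with he
  · refine Nat.mul_pos ?_ (by positivity)
    have : q ≤ q ^ (j + 1) := Nat.le_self_pow (by omega) _
    omega
  · refine Nat.mul_pos (by positivity) ?_
    rw [Nat.add_sub_cancel]
    have : q ≤ q ^ j := Nat.le_self_pow (by omega) _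
    omega

section Abstract

variable {F : Type u} [Field F] [Finite F] {V : Type v} [AddCommGroup V] [Module F V] [FiniteDimensional F V]
  {H : HermSpace F V}

/-- Subgroups of small index yield an action of small degree with its frame. -/
theorem small_of_index (hpow : ∀ x, H.σ x = x ^ H.q) {n : ℕ} (hdim : Module.finrank F V = n) (hn : 5 ≤ n)
    {K : Subgroup H.SIsom} (hK : K ≠ ⊤) [Fintype (H.SIsom ⧸ K)]
    (hlt : K.index * (H.q ^ 2 - 1) < isoCount H.q n) :
    ∃ C : Frame H, C.m = n - 2 ∧ Small C (H.SIsom ⧸ K) := by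
  obtain ⟨C, hC⟩ := exists_frame (H := H) (m := n - 2) (by omega) (by omega)
  refine ⟨C, hC, by omega, hpow, lt_of_lt_of_le hlt ?_, stab_ne_top hK, inferInstance, ⟨QuotientGroup.mk 1⟩⟩
  rw [hC]
  exact isoCount_le H.q n H.two_le_q hn

theorem card_isoPt_eq (hpow : ∀ x, H.σ x = x ^ H.q) :
    Nat.card H.IsoPt = isoCount H.q (Module.finrank F V) / (H.q ^ 2 - 1) := by
  rw [← card_iso_vectors hpow, ← card_isoPt_mul, Nat.mul_div_cancel]
  have := H.two_le_q
  have : 4 ≤ H.q ^ 2 := by nlinarith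
  omega

/-- The bound given a good point. -/
theorem index_bound_of_good (hpow : ∀ x, H.σ x = x ^ H.q) {n : ℕ} (hdim : Module.finrank F V = n) (hn : 5 ≤ n)
    (h : 3 ≤ H.q ∨ n % 3 ≠ 0) {K : Subgroup H.SIsom} (hK : K ≠ ⊤) :
    isoCount H.q n ≤ K.index * (H.q ^ 2 - 1) ∨ (Even n ∧ H.q = 2 ∧
      isoCount H.q n * H.q ^ (2 * (n - 2) + 1) + K.index * isoCount H.q (n - 1) ≤ K.index * isoCount H.q n) := by
  by_contra hc
  push Not at hc
  have := finite_sisom' (H := H)
  have := Fintype.ofFinite (H.SIsom ⧸ K)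
  obtain ⟨C, hC, hS⟩ := small_of_index hpow hdim hn hK hc.1
  obtain ⟨y, hy⟩ := hS.good_generic (h.imp_right (by omega))
  have hb := hS.bound hy
  rw [hC, show n - 2 + 2 = n by omega, show n - 2 + 1 = n - 1 by omega] at hb
  rcases hb with hb | ⟨he, hq, hb⟩
  · exact absurd hb (not_le.2 hc.1)
  · refine absurd hb (not_le.2 (hc.2 ?_ hq))
    rw [show n = n - 2 + 2 by omega]
    simpa [Nat.even_add] using he

end Abstract

section Standard

variable {F : Type u} [Field F] [Fintype F] {q : ℕ} (hF : Fintype.card F = q ^ 2) {n : ℕ}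

theorem hpow_std : ∀ x, (stdHerm n hF).σ x = x ^ (stdHerm n hF).q := fun x => by
  rw [stdHerm_q]
  exact powConj_apply hF x

/-- Transfer of index bounds from the isometry group. -/
theorem psu_index {K : Subgroup (Cfsg.PSU n F q)} (hK : K ≠ ⊤) :
    ∃ K' : Subgroup (stdHerm n hF).SIsom, K' ≠ ⊤ ∧ K'.index = K.index := by
  have h1 : ((K.comap (QuotientGroup.mk' (Subgroup.center (Cfsg.SU n F q)))).comap
      (suEquiv n hF).toMonoidHom).index = K.index := by
    rw [Subgroup.index_comap_of_surjective (f := (suEquiv n hF).toMonoidHom) _ (suEquiv n hF).surjective,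
      Subgroup.index_comap_of_surjective _ (QuotientGroup.mk'_surjective _)]
  exact ⟨_, fun h => hK (by rw [← Subgroup.index_eq_one, ← h1, h, Subgroup.index_top]), h1⟩

/-- Transfer of subgroups containing the centre. -/
theorem psu_attain {M : Subgroup (stdHerm n hF).SIsom} (hM : Subgroup.center (stdHerm n hF).SIsom ≤ M) :
    ∃ K : Subgroup (Cfsg.PSU n F q), K.index = M.index := by
  refine ⟨(M.comap (suEquiv n hF).symm.toMonoidHom).map (QuotientGroup.mk' _), ?_⟩
  rw [Subgroup.index_map_eq _ (QuotientGroup.mk'_surjective _) (by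
    intro z hz
    rw [QuotientGroup.ker_mk'] at hz
    refine hM (Subgroup.mem_center_iff.2 fun g => ?_)
    obtain ⟨g, rfl⟩ := (suEquiv n hF).symm.surjective g
    show (suEquiv n hF).symm g * (suEquiv n hF).symm z = (suEquiv n hF).symm z * (suEquiv n hF).symm g
    rw [← map_mul, ← map_mul, Subgroup.mem_center_iff.1 hz g]),
    Subgroup.index_comap_of_surjective (f := (suEquiv n hF).symm.toMonoidHom) M (suEquiv n hF).symm.surjective]

include hF in
/-- The stabiliser of an isotropic point. -/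
theorem attain_isoPt (hn : 2 ≤ n) :
    ∃ K : Subgroup (Cfsg.PSU n F q), K.index = isoCount q n / (q ^ 2 - 1) := by
  have hdim : Module.finrank F (Fin n → F) = n := Module.finrank_fin_fun F
  have := (stdHerm n hF).isoPt_pretransitive
  obtain ⟨x, hx, hxx⟩ := (stdHerm n hF).exists_isotropic_of_two_le (by rw [hdim]; exact hn)
  obtain ⟨K, hK⟩ := psu_attain hF
    (M := MulAction.stabilizer (stdHerm n hF).SIsom ((stdHerm n hF).isoMk x hx hxx)) fun g hg => by
      obtain ⟨a, -, -, ha⟩ := ((stdHerm n hF).mem_center_SIsom_iff (by rw [hdim]; exact hn)).1 hg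
      rw [MulAction.mem_stabilizer_iff, HermSpace.smul_isoMk, HermSpace.isoMk_eq_iff]
      exact ⟨a, (ha x).symm⟩
  refine ⟨K, ?_⟩
  rw [hK, MulAction.index_stabilizer_of_transitive, card_isoPt_eq (hpow_std hF), stdHerm_q, hdim]

include hF in
/-- The minimal index when isotropic points are the smallest orbit. -/
theorem min_index_iso (hn : 5 ≤ n) (hq : 2 ≤ q) (hcase : Odd n ∨ 3 ≤ q)
    (hgood : ∀ K : Subgroup (stdHerm n hF).SIsom, K ≠ ⊤ → isoCount q n ≤ K.index * (q ^ 2 - 1) ∨ (Even n ∧ q = 2)) :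
    (∀ K : Subgroup (Cfsg.PSU n F q), K ≠ ⊤ → isoCount q n / (q ^ 2 - 1) ≤ K.index) ∧
      ∃ K : Subgroup (Cfsg.PSU n F q), K.index = isoCount q n / (q ^ 2 - 1) := by
  refine ⟨fun K hK => ?_, attain_isoPt hF (by omega)⟩
  obtain ⟨K', hK', he⟩ := psu_index hF hK
  rcases hgood K' hK' with h | ⟨h1, h2⟩
  · rw [← he]
    exact Nat.div_le_of_le_mul (h.trans (le_of_eq (mul_comm _ _)))
  · rcases hcase with h' | h'
    · exact absurd h1 (Nat.not_even_iff_odd.2 h')
    · omega

include hF in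
theorem min_index_large (hn : 5 ≤ n) (hq : 3 ≤ q) :
    (∀ K : Subgroup (Cfsg.PSU n F q), K ≠ ⊤ → isoCount q n / (q ^ 2 - 1) ≤ K.index) ∧
      ∃ K : Subgroup (Cfsg.PSU n F q), K.index = isoCount q n / (q ^ 2 - 1) :=
  min_index_iso hF hn (by omega) (Or.inr hq) fun K hK => by
    have h := index_bound_of_good (hpow_std hF) (Module.finrank_fin_fun F (n := n)) hn
      (Or.inl (by rw [stdHerm_q]; exact hq)) hK
    rw [stdHerm_q] at h
    exact h.imp_right fun h => ⟨h.1, h.2.1⟩

end Standard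

end Cfsg.Lib.Known.MinIndexSU
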