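import Cfsg.Agent.Known.MinIndexSU.Basic
import Cfsg.Agent.Known.MinIndexSp.Pairing

/-!
The orbits of the radical and their invariants.
-/

set_option autoImplicit false
set_option linter.unusedSectionVars false
set_option linter.unusedSimpArgs false
set_option linter.style.haveILetI false

namespace Cfsg.Lib.Known.MinIndexSU

open Cfsg.Lib.Classical
open Cfsg.Lib.Known.MinIndexSp (Pairing)

universe u v w

variable {F : Type u} [Field F] {V : Type v} [AddCommGroup V] [Module F V] {H : HermSpace F V}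
  {X : Type w} [MulAction H.SIsom X]

theorem fix_conj (g q : H.SIsom) {x : X} : (g * q * g⁻¹) • g • x = g • x ↔ q • x = x := by
  rw [smul_smul, inv_mul_cancel_right, ← smul_smul, smul_left_cancel_iff]

theorem finite_sisom' [Finite F] [FiniteDimensional F V] : Finite H.SIsom := by
  have : Finite V := Module.finite_of_finite F
  exact Finite.of_injective (fun g : H.SIsom => (g.1.1 : V → V)) fun g h e => H.sisom_ext (congrFun e)

theorem card_skew [Finite F] : Nat.card (skew H) = H.q := by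
  obtain ⟨c0, hc0, hc⟩ := H.conj.exists_skew
  refine Nat.card_congr
    { toFun := fun c => ⟨(c : F) / c0, show H.σ _ = _ by
        rw [map_div₀, skew_conj c, eq_neg_of_add_eq_zero_right hc, neg_div_neg_eq]; rfl⟩
      invFun := fun x => ⟨(x : F) * c0, by
        rw [mem_skew, map_mul, mem_fixedField.1 x.2, ← mul_add, hc, mul_zero]⟩
      left_inv := fun c => Subtype.ext (div_mul_cancel₀ _ hc0)
      right_inv := fun x => Subtype.ext (mul_div_cancel_right₀ _ hc0) }

/-- The part of the root group fixing a point. -/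
noncomputable def Z1 (C : Frame H) (x : X) : AddSubgroup (skew H) where
  carrier := {c | C.rho 0 c • x = x}
  zero_mem' := by show C.rho 0 0 • x = x; rw [C.rho_zero_zero, one_smul]
  add_mem' {c d} hc hd := by
    show C.rho 0 (c + d) • x = x
    rw [← C.rho_T 0 c d, mul_smul, show C.rho 0 d • x = x from hd, show C.rho 0 c • x = x from hc]
  neg_mem' {c} hc := by
    show C.rho 0 (-c) • x = x
    have h := C.rho_T 0 c (-c)
    rw [add_neg_cancel, C.rho_zero_zero] at h
    rw [eq_inv_of_mul_eq_one_right h, inv_smul_eq_iff]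
    exact (show C.rho 0 c • x = x from hc).symm

theorem mem_Z1 {C : Frame H} {x : X} {c : skew H} : c ∈ Z1 C x ↔ C.rho 0 c • x = x := Iff.rfl

theorem Z1_top {C : Frame H} {x : X} :
    Z1 C x = ⊤ ↔ C.a ∈ H.uCentres (MulAction.stabilizer H.SIsom x) := by
  constructor
  · intro h
    refine ⟨C.haa, fun c hc => ?_⟩
    have h1 := mem_Z1.1 (h ▸ AddSubgroup.mem_top (⟨c, hc⟩ : skew H))
    rw [C.rho_zero] at h1
    exact h1
  · rintro ⟨_, h⟩
    refine eq_top_iff.2 fun c _ => ?_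
    rw [mem_Z1, C.rho_zero]
    exact h _ (skew_add c)

namespace Frame

variable (C : Frame H)

/-- The image of the stabiliser in the orthogonal space. -/
noncomputable def Kb (x : X) : AddSubgroup C.U where
  carrier := {u | ∃ c, C.rho u c • x = x}
  zero_mem' := ⟨0, by rw [C.rho_zero_zero, one_smul]⟩
  add_mem' := by
    rintro u u' ⟨c, hc⟩ ⟨d, hd⟩
    exact ⟨_, by rw [← C.rho_mul, mul_smul, hd, hc]⟩
  neg_mem' := by
    rintro u ⟨c, hc⟩
    exact ⟨_, by rw [← C.rho_inv u c, inv_smul_eq_iff, hc]⟩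

theorem mem_Kb {x : X} {u : C.U} : u ∈ C.Kb x ↔ ∃ c, C.rho u c • x = x := Iff.rfl

theorem comm_mem {x : X} {u v : C.U} (hu : u ∈ C.Kb x) (hv : v ∈ C.Kb x) : C.comm u v ∈ Z1 C x := by
  obtain ⟨c, hc⟩ := hu
  obtain ⟨d, hd⟩ := hv
  have h := C.rho_comm u v c d
  have h1 : (C.rho u c * C.rho v d) • x = x := by rw [mul_smul, hd, hc]
  rw [h, mul_smul, mul_smul, hc, hd] at h1
  exact h1

/-- The radical. -/
noncomputable def Q : Subgroup H.SIsom where
  carrier := {g | ∃ (u : C.U) (c : skew H), g = C.rho u c}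
  one_mem' := ⟨0, 0, C.rho_zero_zero.symm⟩
  mul_mem' := by
    rintro g h ⟨u, c, rfl⟩ ⟨v, d, rfl⟩
    exact ⟨_, _, C.rho_mul u v c d⟩
  inv_mem' := by
    rintro g ⟨u, c, rfl⟩
    exact ⟨_, _, C.rho_inv u c⟩

theorem rho_mem_Q (u : C.U) (c : skew H) : C.rho u c ∈ C.Q := ⟨u, c, rfl⟩

/-- The radical as a set of pairs. -/
noncomputable def qEquiv : C.U × skew H ≃ C.Q :=
  Equiv.ofBijective (fun p => ⟨_, C.rho_mem_Q p.1 p.2⟩)
    ⟨fun p p' e => Prod.ext (C.rho_inj (congrArg Subtype.val e)).1 (C.rho_inj (congrArg Subtype.val e)).2,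
      fun g => by
        obtain ⟨u, c, h⟩ := g.2
        exact ⟨(u, c), Subtype.ext h.symm⟩⟩

/-- The orbit of the radical. -/
noncomputable def orb (x : X) : Set X := MulAction.orbit C.Q x

theorem mem_orb {x y : X} : y ∈ C.orb x ↔ ∃ (u : C.U) (c : skew H), C.rho u c • x = y := by
  constructor
  · rintro ⟨g, rfl⟩
    obtain ⟨u, c, h⟩ := g.2
    exact ⟨u, c, by rw [← h]; rfl⟩
  · rintro ⟨u, c, rfl⟩
    exact ⟨⟨_, C.rho_mem_Q u c⟩, rfl⟩

theorem self_orb (x : X) : x ∈ C.orb x := MulAction.mem_orbit_self x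

theorem orb_eq {x y : X} (h : y ∈ C.orb x) : C.orb y = C.orb x := MulAction.orbit_eq_iff.2 h

theorem rho_conj_rho (u v : C.U) (c d : skew H) :
    C.rho v d * C.rho u c * (C.rho v d)⁻¹ = C.rho u (c + C.comm v u) := by
  rw [C.rho_comm v u d c, mul_assoc, mul_inv_cancel_right, C.rho_T, add_comm]

theorem inv_orb {x y : X} (h : y ∈ C.orb x) : Z1 C y = Z1 C x ∧ C.Kb y = C.Kb x := by
  obtain ⟨v, d, rfl⟩ := C.mem_orb.1 h
  constructor
  · ext c
    rw [mem_Z1, mem_Z1]
    conv_rhs => rw [← fix_conj (X := X) (C.rho v d) (C.rho 0 c), C.rho_conj_rho,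
      show C.comm v 0 = 0 from Subtype.ext (by simp [comm, nu_coe, H.zero_right]), add_zero]
  · ext u
    rw [C.mem_Kb, C.mem_Kb]
    constructor
    · rintro ⟨c, hc⟩
      refine ⟨c - C.comm v u, (fix_conj (X := X) (C.rho v d) _).1 ?_⟩
      rw [C.rho_conj_rho, sub_add_cancel]
      exact hc
    · rintro ⟨c, hc⟩
      refine ⟨c + C.comm v u, ?_⟩
      rw [← C.rho_conj_rho u v c d, fix_conj]
      exact hc

section Card

variable [Finite F] [FiniteDimensional F V]

theorem finite_U : Finite C.U := Module.finite_of_finite F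

theorem orb_card (x : X) :
    Nat.card (C.orb x) * (Nat.card (Z1 C x) * Nat.card (C.Kb x)) = H.q * Nat.card C.U := by
  have hQ : Nat.card C.Q = H.q * Nat.card C.U := by
    rw [← Nat.card_congr C.qEquiv, Nat.card_prod, card_skew, mul_comm]
  have h1 := Nat.card_congr (MulAction.orbitProdStabilizerEquivGroup C.Q x)
  rw [Nat.card_prod, hQ] at h1
  rw [← h1]
  congr 1
  rw [mul_comm]
  let s : {p : C.U × skew H // C.rho p.1 p.2 • x = x} ≃ MulAction.stabilizer C.Q x :=
    C.qEquiv.subtypeEquiv fun p => Iff.rfl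
  rw [← Nat.card_congr s, ← Nat.card_prod]
  choose f hf using fun u : C.Kb x => C.mem_Kb.1 u.2
  refine Nat.card_congr
    { toFun := fun p => ⟨(p.1.1, p.2.1 + f p.1), ?_⟩
      invFun := fun p => (⟨p.1.1, C.mem_Kb.2 ⟨_, p.2⟩⟩, ⟨p.1.2 - f ⟨p.1.1, C.mem_Kb.2 ⟨_, p.2⟩⟩, ?_⟩)
      left_inv := fun p => Prod.ext rfl (Subtype.ext (add_sub_cancel_right _ _))
      right_inv := fun p => Subtype.ext (Prod.ext rfl (sub_add_cancel _ _)) }
  · rw [← C.rho_T, mul_smul, hf, mem_Z1.1 p.2.2]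
  · rw [mem_Z1]
    conv_rhs => rw [← p.2, ← sub_add_cancel p.1.2 (f ⟨p.1.1, C.mem_Kb.2 ⟨_, p.2⟩⟩), ← C.rho_T, mul_smul,
      hf ⟨p.1.1, C.mem_Kb.2 ⟨_, p.2⟩⟩]

theorem sum_le [Fintype X] (S : Finset X) (hS : ∀ x ∈ S, ∀ y ∈ S, y ∈ C.orb x → x = y) :
    ∑ x ∈ S, Nat.card (C.orb x) ≤ Nat.card X := by
  classical
  have hd : (S : Set X).PairwiseDisjoint fun x => (C.orb x).toFinset := fun x hx y hy hxy =>
    Finset.disjoint_left.2 fun z hz hz' => hxy (hS x hx y hy (by
      rw [Set.mem_toFinset] at hz hz'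
      rw [← C.orb_eq hz, C.orb_eq hz']
      exact C.self_orb y))
  calc ∑ x ∈ S, Nat.card (C.orb x) = ∑ x ∈ S, (C.orb x).toFinset.card :=
        Finset.sum_congr rfl fun x _ => by rw [Set.toFinset_card, Nat.card_eq_fintype_card]
    _ = (S.biUnion fun x => (C.orb x).toFinset).card := (Finset.card_biUnion hd).symm
    _ ≤ Nat.card X := by rw [Nat.card_eq_fintype_card]; exact Finset.card_le_univ _

/-- A character of the skew elements killing a proper subgroup. -/
theorem exists_char {Z : AddSubgroup (skew H)} (hZ : Z ≠ ⊤) :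
    ∃ ψ : AddChar (skew H) ℂ, ψ ≠ 1 ∧ ∀ c ∈ Z, ψ c = 1 := by
  obtain ⟨c, hc⟩ : ∃ c, c ∉ Z := by
    by_contra h
    push Not at h
    exact hZ (eq_top_iff.2 fun c _ => h c)
  obtain ⟨χ, hχ⟩ := AddChar.exists_apply_ne_zero.2
    (show (QuotientAddGroup.mk c : skew H ⧸ Z) ≠ 0 from fun e => hc ((QuotientAddGroup.eq_zero_iff c).1 e))
  refine ⟨χ.compAddMonoidHom (QuotientAddGroup.mk' Z), fun h => hχ ?_, fun d hd => ?_⟩
  · exact DFunLike.congr_fun h c
  · show χ (QuotientAddGroup.mk d) = 1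
    rw [(QuotientAddGroup.eq_zero_iff d).2 hd, AddChar.map_zero_eq_one]

theorem comm_add_left (u u' v : C.U) : C.comm (u + u') v = C.comm u v + C.comm u' v :=
  Subtype.ext (by simp only [comm, nu_coe, AddSubgroup.coe_add, Submodule.coe_add, H.add_left, map_add]; ring)

theorem comm_add_right (u v v' : C.U) : C.comm u (v + v') = C.comm u v + C.comm u v' :=
  Subtype.ext (by simp only [comm, nu_coe, AddSubgroup.coe_add, Submodule.coe_add, H.add_right, map_add]; ring)

/-- The alternating pairing attached to a character of the skew elements. -/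
noncomputable def pairing (ψ : AddChar (skew H) ℂ) (hψ : ψ ≠ 1) : Pairing C.U where
  χ v := ψ.compAddMonoidHom
    { toFun := fun w : C.U => C.comm v w
      map_zero' := Subtype.ext (by simp [comm, nu_coe, H.zero_right])
      map_add' := C.comm_add_right v }
  add_left v v' w := by
    show ψ (C.comm (v + v') w) = ψ (C.comm v w) * ψ (C.comm v' w)
    rw [C.comm_add_left, AddChar.map_add_eq_mul]
  nd v h := by
    by_contra hv
    obtain ⟨w, hw⟩ := C.HU.exists_partner hv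
    refine hψ (DFunLike.ext _ _ fun c => ?_)
    obtain ⟨x, rfl⟩ := nu_surj H c
    have e := h (H.σ x • w)
    change ψ (C.comm v (H.σ x • w)) = 1 at e
    rw [C.HU_h] at hw
    have e2 : C.comm v (H.σ x • w) = nu H x := Subtype.ext (by
      simp only [comm, nu_coe, Submodule.coe_smul, H.smul_right, hw, mul_one, H.conj.invol])
    rw [e2] at e
    exact e

theorem pairing_apply (ψ : AddChar (skew H) ℂ) (hψ : ψ ≠ 1) (v w : C.U) :
    (C.pairing ψ hψ).χ v w = ψ (C.comm v w) := rfl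

/-- The stabiliser image is isotropic. -/
theorem isotropy {x : X} (hZ : Z1 C x ≠ ⊤) : Nat.card (C.Kb x) ^ 2 ≤ Nat.card C.U := by
  have := C.finite_U
  obtain ⟨ψ, hψ, hker⟩ := exists_char hZ
  rw [← (C.pairing ψ hψ).card_perp (C.Kb x), sq]
  exact Nat.mul_le_mul_right _ (Nat.card_le_card_of_injective
    (AddSubgroup.inclusion (show C.Kb x ≤ (C.pairing ψ hψ).perp (C.Kb x) from fun v hv k hk => by
      rw [C.pairing_apply]
      exact hker _ (C.comm_mem hv hk))) (AddSubgroup.inclusion_injective _))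

theorem kb_le (x : X) (hZ : Z1 C x ≠ ⊤) : Nat.card (C.Kb x) ≤ H.q ^ C.m := by
  have h := C.isotropy hZ
  rw [C.card_U, show 2 * C.m = C.m * 2 by ring, pow_mul] at h
  exact (Nat.pow_le_pow_iff_left two_ne_zero).1 h

end Card

/-- The elements fixing both points of the frame. -/
noncomputable def G2 : Subgroup H.SIsom where
  carrier := {g | ∃ l : F, l ≠ 0 ∧ g.1.1 C.a = l • C.a ∧ g.1.1 C.b = (H.σ l)⁻¹ • C.b}
  one_mem' := ⟨1, one_ne_zero, by rw [one_smul]; rfl, by rw [map_one, inv_one, one_smul]; rfl⟩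
  mul_mem' := by
    rintro g g' ⟨l, hl, ha, hb⟩ ⟨l', hl', ha', hb'⟩
    refine ⟨l * l', mul_ne_zero hl hl', ?_, ?_⟩
    · rw [H.smul_mul_apply, ha', map_smul, ha, smul_smul, mul_comm]
    · rw [H.smul_mul_apply, hb', map_smul, hb, smul_smul, map_mul, mul_inv, mul_comm]
  inv_mem' := by
    rintro g ⟨l, hl, ha, hb⟩
    have hσ : H.σ l ≠ 0 := (map_ne_zero _).2 hl
    have h1 := congrArg (g⁻¹).1.1 ha
    have h2 := congrArg (g⁻¹).1.1 hb
    rw [map_smul] at h1 h2
    change (g.1⁻¹).1 _ = _ at h1 h2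
    rw [H.inv_apply_self] at h1 h2
    refine ⟨l⁻¹, inv_ne_zero hl, ?_, ?_⟩
    · conv_rhs => rw [h1, smul_smul, inv_mul_cancel₀ hl, one_smul]
    · conv_rhs => rw [h2, map_inv₀, inv_inv, smul_smul, mul_inv_cancel₀ hσ, one_smul]

/-- The factor on the first point. -/
def lam (g : C.G2) : F := H.h (g.1.1.1 C.a) C.b

theorem lam_spec (g : C.G2) : C.lam g ≠ 0 ∧ g.1.1.1 C.a = C.lam g • C.a ∧
    g.1.1.1 C.b = (H.σ (C.lam g))⁻¹ • C.b := by
  obtain ⟨l, hl, ha, hb⟩ := g.2
  have e : C.lam g = l := by rw [lam, ha, H.smul_left, C.hab, mul_one]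
  rw [e]
  exact ⟨hl, ha, hb⟩

theorem G2_U (g : C.G2) (u : C.U) : g.1.1.1 (u : V) ∈ C.U := by
  obtain ⟨hl, ha, hb⟩ := C.lam_spec g
  rw [C.mem_U]
  constructor
  · have h := H.map_form g.1.1 (u : V) C.a
    rw [ha, H.smul_right, C.ua, mul_eq_zero] at h
    exact h.resolve_left ((map_ne_zero _).2 hl)
  · have h := H.map_form g.1.1 (u : V) C.b
    rw [hb, H.smul_right, C.ub, mul_eq_zero] at h
    exact h.resolve_left ((map_ne_zero _).2 (inv_ne_zero ((map_ne_zero _).2 hl)))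

/-- The action on the orthogonal space twisted by the factor. -/
noncomputable def tau (g : C.G2) : C.U →+ C.U where
  toFun u := H.σ (C.lam g) • ⟨_, C.G2_U g u⟩
  map_zero' := by
    rw [show (⟨_, C.G2_U g 0⟩ : C.U) = 0 from Subtype.ext (map_zero _), smul_zero]
  map_add' u v := by
    rw [show (⟨_, C.G2_U g (u + v)⟩ : C.U) = ⟨_, C.G2_U g u⟩ + ⟨_, C.G2_U g v⟩ from Subtype.ext (map_add _ _ _),
      smul_add]

theorem tau_coe (g : C.G2) (u : C.U) : (C.tau g u : V) = H.σ (C.lam g) • g.1.1.1 (u : V) := rfl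

theorem tau_inj (g : C.G2) : Function.Injective (C.tau g) := fun u v e => by
  have h := congrArg Subtype.val e
  rw [C.tau_coe, C.tau_coe] at h
  exact Subtype.ext (g.1.1.1.injective (smul_right_injective V ((map_ne_zero _).2 (C.lam_spec g).1) h))

theorem tau_form (g : C.G2) (u v : C.U) :
    H.h (C.tau g u : V) (C.tau g v) = C.lam g * H.σ (C.lam g) * H.h (u : V) v := by
  rw [C.tau_coe, C.tau_coe, H.smul_left, H.smul_right, H.map_form, H.conj.invol]
  ring

theorem lam_mul (g g' : C.G2) : C.lam (g * g') = C.lam g * C.lam g' := by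
  rw [lam, show (g * g').1.1.1 C.a = g.1.1.1 (g'.1.1.1 C.a) from rfl, (C.lam_spec g').2.1, map_smul,
    (C.lam_spec g).2.1, H.smul_left, H.smul_left, C.hab]
  ring

theorem tau_mul (g g' : C.G2) (u : C.U) : C.tau (g * g') u = C.tau g (C.tau g' u) := by
  refine Subtype.ext ?_
  rw [C.tau_coe, C.tau_coe, C.tau_coe, C.lam_mul, map_mul, map_smul, smul_smul]
  rfl

/-- The norm of the factor on the skew elements. -/
noncomputable def nrm (g : C.G2) (c : skew H) : skew H :=
  ⟨C.lam g * H.σ (C.lam g) * c, by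
    rw [mem_skew, map_mul, H.conj.norm_mem, ← mul_add, skew_add, mul_zero]⟩

theorem G2_rho (g : C.G2) (u : C.U) (c : skew H) :
    g.1 * C.rho u c * g.1⁻¹ = C.rho (C.tau g u) (C.nrm g c) := by
  obtain ⟨hl, ha, hb⟩ := C.lam_spec g
  refine H.sisom_ext fun x => ?_
  have hx : ∀ t, H.h (g.1⁻¹.1.1 x) t = H.h x (g.1.1.1 t) := fun t => by
    rw [← H.map_form g.1.1]
    exact congrArg (fun z => H.h z _) (H.apply_inv_self g.1.1 x)
  rw [H.smul_mul_apply, H.smul_mul_apply, rho_apply, rho_apply, map_add, map_add, map_smul, map_smul, hx, hx,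
    ha, C.tau_coe, show g.1.1.1 (g.1⁻¹.1.1 x) = x from H.apply_inv_self g.1.1 x]
  simp only [H.smul_left, H.smul_right, H.map_form, H.conj.invol, nrm, map_smul]
  module

theorem Z1_G2 (g : C.G2) (x : X) {c : skew H} : C.nrm g c ∈ Z1 C (g.1 • x) ↔ c ∈ Z1 C x := by
  rw [mem_Z1, mem_Z1, ← fix_conj (X := X) g.1 (C.rho 0 c), C.G2_rho, map_zero]

theorem nrm_inv (g : C.G2) : Function.Bijective (C.nrm g) := by
  have hne : C.lam g * H.σ (C.lam g) ≠ 0 := mul_ne_zero (C.lam_spec g).1 ((map_ne_zero _).2 (C.lam_spec g).1)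
  refine ⟨fun c d e => Subtype.ext (mul_left_cancel₀ hne (congrArg Subtype.val e)), fun c => ?_⟩
  refine ⟨⟨(C.lam g * H.σ (C.lam g))⁻¹ * c, ?_⟩, Subtype.ext ?_⟩
  · rw [mem_skew, map_mul, map_inv₀, H.conj.norm_mem, ← mul_add, skew_add, mul_zero]
  · show C.lam g * H.σ (C.lam g) * ((C.lam g * H.σ (C.lam g))⁻¹ * c) = c
    rw [mul_inv_cancel_left₀ hne]

theorem Kb_G2 (g : C.G2) (x : X) [Finite F] [FiniteDimensional F V] :
    C.Kb (g.1 • x) = (C.Kb x).map (C.tau g) := by
  have := C.finite_U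
  ext u
  obtain ⟨v, rfl⟩ := (Finite.injective_iff_surjective.1 (C.tau_inj g)) u
  rw [AddSubgroup.mem_map_iff_mem (C.tau_inj g), C.mem_Kb, C.mem_Kb]
  constructor
  · rintro ⟨c, hc⟩
    obtain ⟨c, rfl⟩ := (C.nrm_inv g).2 c
    exact ⟨c, (fix_conj (X := X) g.1 _).1 (by rw [C.G2_rho]; exact hc)⟩
  · rintro ⟨c, hc⟩
    exact ⟨C.nrm g c, by rw [← C.G2_rho]; exact (fix_conj (X := X) g.1 _).2 hc⟩

end Frame

end Cfsg.Lib.Known.MinIndexSU
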