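import Cfsg.Agent.Known.MinIndexSU.Counts
import Cfsg.Agent.Known.PSUThree.Sylow

/-!
Isotropic points, centres of the stabilisers, and the least index in dimension three.
-/

set_option autoImplicit false
set_option linter.unusedSectionVars false
set_option linter.unusedSimpArgs false
set_option linter.style.haveILetI false

namespace Cfsg.Lib.Known.MinIndexSU

open Cfsg.Lib.Classical Cfsg.Lib.Classical.UIso
open scoped commutatorElement

universe u v w

variable {F : Type u} [Field F] [Finite F] {V : Type v} [AddCommGroup V] [Module F V] [FiniteDimensional F V]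
  {H : HermSpace F V}

theorem card_isoPt_mul : Nat.card H.IsoPt * (H.q ^ 2 - 1) = Nat.card {x : V // H.h x x = 0 ∧ x ≠ 0} := by
  have hu : Nat.card Fˣ = H.q ^ 2 - 1 := by rw [Nat.card_units, H.card_field]
  rw [← hu, ← Nat.card_prod]
  let f : H.IsoPt × Fˣ → {x : V // H.h x x = 0 ∧ x ≠ 0} := fun x => ⟨(x.2 : F) • x.1.1.rep,
    by rw [H.smul_left, H.smul_right, x.1.2, mul_zero, mul_zero], smul_ne_zero x.2.ne_zero x.1.1.rep_nonzero⟩
  refine Nat.card_eq_of_bijective f ⟨?_, fun y => ?_⟩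
  · rintro ⟨p, a⟩ ⟨p', a'⟩ h
    have e : (a : F) • p.1.rep = (a' : F) • p'.1.rep := congrArg Subtype.val h
    obtain rfl : p = p' := by
      refine Subtype.ext ?_
      rw [← Projectivization.mk_rep p.1, ← Projectivization.mk_rep p'.1, Projectivization.mk_eq_mk_iff']
      exact ⟨(a : F)⁻¹ * a', by rw [mul_smul, ← e, smul_smul, inv_mul_cancel₀ a.ne_zero, one_smul]⟩
    exact Prod.ext rfl (Units.ext (smul_left_injective F p.1.rep_nonzero e))
  · obtain ⟨c, hc⟩ := Projectivization.exists_smul_eq_mk_rep F y.1 y.2.2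
    refine ⟨⟨H.isoMk y.1 y.2.2 y.2.1, c⁻¹⟩, Subtype.ext ?_⟩
    show ((c⁻¹ : Fˣ) : F) • (Projectivization.mk F y.1 y.2.2).rep = y.1
    rw [← hc, Units.smul_def, smul_smul, ← Units.val_mul, inv_mul_cancel, Units.val_one, one_smul]

theorem exists_move_iso (hd : 3 ≤ Module.finrank F V) {x y : V} (hx : x ≠ 0) (hy : y ≠ 0) (hxx : H.h x x = 0)
    (hyy : H.h y y = 0) : ∃ g : H.SIsom, g.1.1 x = y := by
  obtain ⟨k, hk⟩ := H.transitive_isotropic hx hy hxx hyy
  obtain ⟨w, hw, hwy⟩ := H.exists_anisotropic_orth_singleton hd y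
  obtain ⟨z, hz⟩ := H.exists_SIsom_correct k hw
  refine ⟨⟨_, hz⟩, ?_⟩
  show (H.qrefl hw z * k).1 x = y
  rw [H.mul_apply', hk, H.qrefl_orth hw z (H.eq_zero_symm hwy)]

section Action

variable {X : Type w} [MulAction H.SIsom X]

/-- The centres whose root groups fix a point. -/
def cen (H : HermSpace F V) [MulAction H.SIsom X] (x : X) : Set V := H.uCentres (MulAction.stabilizer H.SIsom x)

theorem cen_map_mem (g : H.SIsom) {x : X} {v : V} (hv : v ∈ cen H x) : g.1.1 v ∈ cen H (g • x) := by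
  obtain ⟨hvv, h⟩ := hv
  refine ⟨by rw [H.map_form, hvv], fun c hc => ?_⟩
  show (H.sT _ hc) • g • x = g • x
  rw [← H.sT_conj g hvv hc, fix_conj]
  exact h c hc

theorem cen_map (g : H.SIsom) {x : X} {v : V} : g.1.1 v ∈ cen H (g • x) ↔ v ∈ cen H x := by
  refine ⟨fun h => ?_, cen_map_mem g⟩
  have h1 := cen_map_mem g⁻¹ h
  rwa [inv_smul_smul, show (g⁻¹).1.1 (g.1.1 v) = v from H.inv_apply_self g.1 v] at h1

theorem exists_moved (C : Frame H) [Nonempty X] (hmove : ∀ x : X, MulAction.stabilizer H.SIsom x ≠ ⊤) :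
    ∃ x : X, Z1 C x ≠ ⊤ := by
  by_contra hall
  push Not at hall
  have hdim := C.hdim
  have hm := C.hm
  obtain ⟨x⟩ := ‹Nonempty X›
  refine hmove x (H.eq_top_of_uCentres (Or.inl (by omega)) fun v hv => ?_)
  rcases eq_or_ne v 0 with rfl | hv0
  · exact H.uCentres_zero _
  obtain ⟨g, hg⟩ := exists_move_iso (H := H) (by omega) hv0 C.ha0 hv C.haa
  refine (cen_map g).1 ?_
  rw [hg]
  exact Z1_top.1 (hall _)

end Action

/-- The least index in dimension three. -/
theorem index_three (hpow : ∀ x, H.σ x = x ^ H.q) (hd : Module.finrank F V = 3) (hq : 3 ≤ H.q) (h5 : H.q ≠ 5)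
    {K : Subgroup H.SIsom} (hK : K ≠ ⊤) : H.q ^ 3 + 1 ≤ K.index := by
  have := finite_sisom' (H := H)
  have hq2 : 9 ≤ H.q ^ 2 := by nlinarith
  have hI : isoCount H.q 3 = (H.q ^ 3 + 1) * (H.q ^ 2 - 1) := by simp [isoCount, show ¬ Even 3 by decide]
  have hpts : Nat.card H.IsoPt = H.q ^ 3 + 1 := by
    have h := card_isoPt_mul (H := H)
    rw [card_iso_vectors hpow, hd, hI] at h
    exact Nat.eq_of_mul_eq_mul_right (by omega) h
  have hcard : Nat.card H.SIsom = H.q ^ 3 * ((H.q ^ 3 + 1) * (H.q ^ 2 - 1)) := by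
    have : Nontrivial V := Module.nontrivial_of_finrank_pos (R := F) (by omega)
    have h := H.card_SIsom_mul
    rw [hd] at h
    have e : cardGUFormula H.q 3 = (H.q + 1) * (H.q ^ 3 * ((H.q ^ 3 + 1) * (H.q ^ 2 - 1))) := by
      simp [cardGUFormula, Finset.prod_range_succ, show Even 2 by decide]
      ring
    rw [e] at h
    exact Nat.eq_of_mul_eq_mul_left (by omega) h
  have hbig : ∀ M : Subgroup H.SIsom, Subgroup.center H.SIsom ≤ M → M ≠ ⊤ → H.q ^ 3 + 1 ≤ M.index := by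
    intro M hZ hM
    by_contra h
    have h1 := M.card_mul_index
    rw [hcard] at h1
    have h2 : M.index ≤ H.q ^ 3 := by omega
    have hb : (H.q ^ 3 + 1) * (H.q ^ 2 - 1) ≤ Nat.card M := by
      refine Nat.le_of_mul_le_mul_left ?_ (show 0 < H.q ^ 3 by positivity)
      rw [← h1, mul_comm (H.q ^ 3)]
      exact Nat.mul_le_mul_left _ h2
    have hB : PSUThree.Big M := { dim := hd, pow := hpow, pts := hpts, three := hq, card := hb }
    exact hM (PSUThree.top_of_big hB h5 hZ)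
  by_cases hKZ : K ⊔ Subgroup.center H.SIsom = ⊤
  · exfalso
    have hn : K.Normal := ⟨fun k hk g => by
      obtain ⟨a, ha, z, hz, rfl⟩ := Subgroup.mem_sup_of_normal_right.1 (hKZ ▸ Subgroup.mem_top g)
      have hzk : z * k * z⁻¹ = k := by
        rw [← Subgroup.mem_center_iff.1 hz k, mul_inv_cancel_right]
      rw [mul_inv_rev, ← mul_assoc, mul_assoc a z k, show a * (z * k) * z⁻¹ = a * (z * k * z⁻¹) by group, hzk]
      exact K.mul_mem (K.mul_mem ha hk) (K.inv_mem ha)⟩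
    refine hK (eq_top_iff.2 ?_)
    rw [← H.commutator_SIsom (Or.inr ⟨hd, hq⟩), commutator_def, Subgroup.commutator_le]
    intro g _ g' _
    obtain ⟨a, ha, z, hz, rfl⟩ := Subgroup.mem_sup_of_normal_right.1 (hKZ ▸ Subgroup.mem_top g)
    obtain ⟨a', ha', z', hz', rfl⟩ := Subgroup.mem_sup_of_normal_right.1 (hKZ ▸ Subgroup.mem_top g')
    have hc := Subgroup.mem_center_iff.1 hz
    have hc' := Subgroup.mem_center_iff.1 hz'
    have e : ⁅a * z, a' * z'⁆ = ⁅a, a'⁆ := by
      rw [commutatorElement_def, commutatorElement_def]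
      calc a * z * (a' * z') * (a * z)⁻¹ * (a' * z')⁻¹
          = a * (z * a') * (z' * z⁻¹ * a⁻¹ * z'⁻¹) * a'⁻¹ := by group
        _ = a * (a' * z) * (z' * z⁻¹ * a⁻¹ * z'⁻¹) * a'⁻¹ := by rw [← hc a']
        _ = a * a' * (z * z' * z⁻¹) * a⁻¹ * z'⁻¹ * a'⁻¹ := by group
        _ = a * a' * z' * a⁻¹ * z'⁻¹ * a'⁻¹ := by rw [show z * z' * z⁻¹ = z' by rw [← hc z', mul_inv_cancel_right]]
        _ = a * a' * (z' * a⁻¹) * z'⁻¹ * a'⁻¹ := by group
        _ = a * a' * (a⁻¹ * z') * z'⁻¹ * a'⁻¹ := by rw [← hc' a⁻¹]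
        _ = _ := by group
    rw [e]
    exact K.mul_mem (K.mul_mem (K.mul_mem ha ha') (K.inv_mem ha)) (K.inv_mem ha')
  · refine (hbig _ le_sup_right hKZ).trans ?_
    exact Nat.le_of_dvd (Nat.pos_of_ne_zero Subgroup.index_ne_zero_of_finite) (Subgroup.index_dvd_of_le le_sup_left)

end Cfsg.Lib.Known.MinIndexSU
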