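import Cfsg.Agent.Known.MinIndexSU.Family
import Cfsg.Agent.Known.MinIndexSU.Points
import Cfsg.Agent.Classical.Unitary.InSL

/-!
In small degree the radical acts regularly on every orbit where its centre moves a point.
-/

set_option autoImplicit false
set_option linter.unusedSectionVars false
set_option linter.unusedSimpArgs false
set_option linter.style.haveILetI false

namespace Cfsg.Lib.Known.MinIndexSU

open Cfsg.Lib.Classical Cfsg.Lib.Classical.UIso

universe u v w

variable {F : Type u} [Field F] [Finite F] {V : Type v} [AddCommGroup V] [Module F V] [FiniteDimensional F V]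
  {H : HermSpace F V}

theorem arith_bot {q d m z : ℕ} (hq : 2 ≤ q) (hm : 1 ≤ m) (hz : 2 ≤ z)
    (hd : d * (q ^ 2 - 1) < q ^ (2 * m + 3) + q ^ (m + 2))
    (h : (q - 1) * q ^ (2 * m + 1) ≤ d * (q - z)) : False := by
  have h1 : (q - 1) * q ^ (2 * m + 1) ≤ d * (q - 2) := h.trans (Nat.mul_le_mul_left _ (by omega))
  obtain ⟨r, rfl⟩ : ∃ r, q = r + 2 := ⟨q - 2, by omega⟩
  simp only [show r + 2 - 2 = r by omega, show r + 2 - 1 = r + 1 by omega] at h1
  have e : (r + 2) ^ 2 - 1 = r ^ 2 + 4 * r + 3 := by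
    rw [show (r + 2) ^ 2 = r ^ 2 + 4 * r + 3 + 1 by ring, Nat.add_sub_cancel]
  rw [e] at hd
  have hA : (r + 2) ^ (m + 2) ≤ (r + 2) ^ (2 * m + 1) := Nat.pow_le_pow_right (by omega) (by omega)
  have hA0 : 0 < (r + 2) ^ (2 * m + 1) := by positivity
  rw [show (r + 2) ^ (2 * m + 3) = (r + 2) ^ 2 * (r + 2) ^ (2 * m + 1) by rw [← pow_add]; congr 1; omega] at hd
  generalize (r + 2) ^ (2 * m + 1) = A at *
  generalize (r + 2) ^ (m + 2) = A' at *
  have h2 := Nat.mul_le_mul_left (r ^ 2 + 4 * r + 3) h1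
  have h3 : d * (r ^ 2 + 4 * r + 3) * r ≤ ((r + 2) ^ 2 * A + A) * r := Nat.mul_le_mul_right _ (by omega)
  nlinarith

theorem arith_large {q d m k z M : ℕ} (hq : 2 ≤ q) (hz : 1 ≤ z) (hk : k ≤ q ^ m)
    (hM : q ^ (m + 2) + q ≤ M * (q ^ 2 - 1))
    (hd : d * (q ^ 2 - 1) < q ^ (2 * m + 3) + q ^ (m + 2))
    (h : (q - 1) * M * q ^ (2 * m + 1) ≤ d * k * (q - z)) : False := by
  have h1 : d * k * (q - z) ≤ d * q ^ m * (q - 1) :=
    Nat.mul_le_mul (Nat.mul_le_mul_left _ hk) (by omega)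
  have h2 : M * q ^ (m + 1) ≤ d := by
    refine Nat.le_of_mul_le_mul_right ?_ (show 0 < q ^ m * (q - 1) from Nat.mul_pos (by positivity) (by omega))
    calc M * q ^ (m + 1) * (q ^ m * (q - 1)) = (q - 1) * M * q ^ (2 * m + 1) := by
          rw [show 2 * m + 1 = m + 1 + m by omega, pow_add]; ring
      _ ≤ d * q ^ m * (q - 1) := h.trans h1
      _ = _ := by ring
  have h3 := Nat.mul_le_mul_right (q ^ (m + 1)) hM
  have h4 := Nat.mul_le_mul_right (q ^ 2 - 1) h2
  rw [add_mul, ← pow_add, ← pow_succ', show m + 2 + (m + 1) = 2 * m + 3 by omega,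
    show m + 1 + 1 = m + 2 by omega] at h3
  rw [mul_right_comm] at h4
  omega

theorem arith_three_iso {q d z k M : ℕ} (hq : 2 ≤ q) (hz : 2 * z ≤ q) (hk : k ≤ q ^ 2) (hM : q ^ 3 + 1 ≤ M)
    (hd : d * (q ^ 2 - 1) < q ^ 9 + q ^ 5) (h : M * q ^ 7 ≤ d * (z * k)) : False := by
  have h1 : 2 * (z * k) ≤ q ^ 3 := by
    calc 2 * (z * k) = 2 * z * k := by ring
      _ ≤ q * q ^ 2 := Nat.mul_le_mul hz hk
      _ = _ := by ring
  have h2 : 2 * ((q ^ 3 + 1) * q ^ 4) ≤ d := by
    refine Nat.le_of_mul_le_mul_right ?_ (show 0 < q ^ 3 by positivity)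
    calc 2 * ((q ^ 3 + 1) * q ^ 4) * q ^ 3 = 2 * ((q ^ 3 + 1) * q ^ 7) := by ring
      _ ≤ 2 * (d * (z * k)) := Nat.mul_le_mul_left _ ((Nat.mul_le_mul_right _ hM).trans h)
      _ = d * (2 * (z * k)) := by ring
      _ ≤ _ := Nat.mul_le_mul_left _ h1
  obtain ⟨r, rfl⟩ : ∃ r, q = r + 2 := ⟨q - 2, by omega⟩
  have e : (r + 2) ^ 2 - 1 = r ^ 2 + 4 * r + 3 := by
    rw [show (r + 2) ^ 2 = r ^ 2 + 4 * r + 3 + 1 by ring, Nat.add_sub_cancel]
  rw [e] at hd
  have h3 := Nat.mul_le_mul_right (r ^ 2 + 4 * r + 3) h2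
  have h4 : 0 < (r + 2) ^ 4 := by positivity
  nlinarith

theorem arith_three_one {q d k M c e : ℕ} (hq : 3 ≤ q) (hce : 2 ≤ c * e)
    (hk : e * (k * k) ≤ q ^ 6) (hM : c * ((q - 1) * (q ^ 2 * (q ^ 3 + 1))) ≤ M * k)
    (hd : d * (q ^ 2 - 1) < q ^ 9 + q ^ 5) (h : M * q ^ 7 ≤ d * k) : False := by
  have h2 : c * e * ((q - 1) * (q ^ 3 * (q ^ 3 + 1))) ≤ d := by
    refine Nat.le_of_mul_le_mul_right ?_ (show 0 < q ^ 6 by positivity)
    calc c * e * ((q - 1) * (q ^ 3 * (q ^ 3 + 1))) * q ^ 6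
        = e * (c * ((q - 1) * (q ^ 2 * (q ^ 3 + 1)))) * q ^ 7 := by ring
      _ ≤ e * (M * k) * q ^ 7 := Nat.mul_le_mul_right _ (Nat.mul_le_mul_left _ hM)
      _ = e * k * (M * q ^ 7) := by ring
      _ ≤ e * k * (d * k) := Nat.mul_le_mul_left _ h
      _ = d * (e * (k * k)) := by ring
      _ ≤ _ := Nat.mul_le_mul_left _ hk
  have h2' := (Nat.mul_le_mul_right _ hce).trans h2
  obtain ⟨r, rfl⟩ : ∃ r, q = r + 3 := ⟨q - 3, by omega⟩
  simp only [show r + 3 - 1 = r + 2 by omega] at h2'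
  have e : (r + 3) ^ 2 - 1 = r ^ 2 + 6 * r + 8 := by
    rw [show (r + 3) ^ 2 = r ^ 2 + 6 * r + 8 + 1 by ring, Nat.add_sub_cancel]
  rw [e] at hd
  have h3 := Nat.mul_le_mul_right (r ^ 2 + 6 * r + 8) h2'
  nlinarith [pow_nonneg (Nat.zero_le r) 5, pow_nonneg (Nat.zero_le r) 6]

namespace Frame

variable (C : Frame H)

/-- The stabiliser of a subgroup in the special unitary group of the orthogonal space. -/
noncomputable def stabL (K : AddSubgroup C.U) : Subgroup C.HU.SIsom where
  carrier := {k | K.map (C.tau (C.ext k)) = K}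
  one_mem' := by
    show K.map (C.tau (C.ext 1)) = K
    rw [map_one]; exact C.map_tau_one K
  mul_mem' {k k'} hk hk' := by
    show K.map (C.tau (C.ext (k * k'))) = K
    rw [map_mul, ← C.map_tau_mul, show K.map (C.tau (C.ext k')) = K from hk',
      show K.map (C.tau (C.ext k)) = K from hk]
  inv_mem' {k} hk := by
    show K.map (C.tau (C.ext k⁻¹)) = K
    conv_lhs => rw [← show K.map (C.tau (C.ext k)) = K from hk]
    rw [C.map_tau_mul, ← map_mul, inv_mul_cancel, map_one]
    exact C.map_tau_one K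

theorem imgs_ge_index (K : AddSubgroup C.U) : (C.stabL K).index ≤ (C.imgs C.G1 K).card := by
  rw [Subgroup.index, ← Fintype.card_coe, ← Nat.card_eq_fintype_card]
  refine Nat.card_le_card_of_injective (fun q : C.HU.SIsom ⧸ C.stabL K =>
    (⟨_, C.mem_imgs.2 ⟨C.ext q.out, C.ext_G1 _, rfl⟩⟩ : C.imgs C.G1 K)) fun q q' e => ?_
  have e' := congrArg (fun t : C.imgs C.G1 K => (t.1).map (C.tau (C.ext q.out⁻¹))) e
  simp only [C.map_tau_mul, ← map_mul, inv_mul_cancel, map_one, C.map_tau_one] at e'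
  rw [← QuotientGroup.out_eq' q, ← QuotientGroup.out_eq' q']
  exact QuotientGroup.eq.2 e'.symm

theorem stabL_ne_top (hm : 3 ≤ C.m) {K : AddSubgroup C.U} (hK : K ≠ ⊥) (hk : Nat.card K < Nat.card C.U) :
    C.stabL K ≠ ⊤ := by
  intro htop
  obtain ⟨u, hu, hu0⟩ : ∃ u ∈ K, u ≠ 0 := by
    by_contra h
    push Not at h
    exact hK (eq_bot_iff.2 fun u hu => AddSubgroup.mem_bot.2 (h u hu))
  have hall := C.HU.addSubgroup_eq_top (by rw [C.finrank_U]; exact hm) hu hu0 fun x y hx hy hn hxK => by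
    obtain ⟨k, hk⟩ := C.exists_ext_map hm hx hy hn
    have hk' : k ∈ C.stabL K := htop ▸ Subgroup.mem_top k
    rw [← show K.map (C.tau (C.ext k)) = K from hk', ← hk, ← C.tau_ext]
    exact C.mem_map_tau.2 hxK
  have : K = ⊤ := eq_top_iff.2 fun x _ => hall x
  rw [this, AddSubgroup.card_top] at hk
  exact lt_irrefl _ hk

theorem kb_lt {k : ℕ} (hk : k ≤ H.q ^ C.m) : k < Nat.card C.U := by
  rw [C.card_U]
  exact lt_of_le_of_lt hk (Nat.pow_lt_pow_right (by have := H.two_le_q; omega) (by have := C.hm; omega))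

theorem iso_skew {u v : V} (hu : H.h u u = 0) (hv : H.h v v = 0) (huv : H.h (u + v) (u + v) = 0) :
    H.h u v ∈ skew H := by
  rw [H.add_left, H.add_right, H.add_right, hu, hv, zero_add, add_zero] at huv
  rw [mem_skew, ← H.symm]
  exact huv

theorem iso_line (hm : C.m = 3) {u v : C.U} (hv0 : v ≠ 0) (hv : H.h (v : V) v = 0) (hu : H.h (u : V) u = 0)
    (huv : H.h (u : V) v = 0) : u ∈ Submodule.span F ({v} : Set C.U) := by
  by_contra hnot
  let W := Submodule.span F (Set.range ![v, u])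
  have hli : LinearIndependent F ![v, u] := by
    rw [LinearIndependent.pair_iff]
    intro s t h
    rcases eq_or_ne t 0 with rfl | ht
    · exact ⟨(smul_eq_zero.1 (by simpa using h)).resolve_right hv0, rfl⟩
    · refine absurd (Submodule.mem_span_singleton.2 ⟨-(t⁻¹ * s), ?_⟩) hnot
      rw [neg_smul, mul_smul, eq_neg_of_add_eq_zero_left h, smul_neg, neg_neg, inv_smul_smul₀ ht]
  have hW : Module.finrank F W = 2 := by rw [finrank_span_eq_card hli]; simp
  have hle : W ≤ C.HU.orth W := by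
    refine Submodule.span_le.2 ?_
    rintro _ ⟨i, rfl⟩
    rw [SetLike.mem_coe, C.HU.mem_orth_span]
    rintro _ ⟨j, rfl⟩
    fin_cases i <;> fin_cases j <;> simp [C.HU_h, hv, hu, huv, H.eq_zero_symm huv]
  have h1 := Submodule.finrank_mono hle
  rw [C.HU.finrank_orth, C.finrank_U, hW, hm] at h1
  omega

theorem iso_small (hm : C.m = 3) {K : AddSubgroup C.U} (hiso : ∀ u ∈ K, H.h (u : V) u = 0) :
    Nat.card K ≤ H.q ^ 2 := by
  have hq := H.two_le_q
  rcases eq_or_ne K ⊥ with rfl | hK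
  · rw [AddSubgroup.card_bot]; exact Nat.one_le_pow _ _ (by omega)
  obtain ⟨v, hv, hv0⟩ : ∃ v ∈ K, v ≠ 0 := by
    by_contra h
    push Not at h
    exact hK (eq_bot_iff.2 fun u hu => AddSubgroup.mem_bot.2 (h u hu))
  have hline : ∀ w : K, H.h ((w : C.U) : V) v = 0 → (w : C.U) ∈ Submodule.span F ({v} : Set C.U) := fun w h =>
    C.iso_line hm hv0 (hiso v hv) (hiso _ w.2) h
  have hsk : ∀ w : K, H.h ((w : C.U) : V) v ∈ skew H := fun w =>
    iso_skew (hiso _ w.2) (hiso v hv) (hiso _ (K.add_mem w.2 hv))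
  let φ : K →+ skew H :=
    { toFun := fun w => ⟨_, hsk w⟩
      map_zero' := Subtype.ext (H.zero_left _)
      map_add' := fun w w' => Subtype.ext (H.add_left _ _ _) }
  by_cases hφ : φ = 0
  · have hcard : Nat.card (Submodule.span F ({v} : Set C.U)) = H.q ^ 2 := by
      rw [Module.natCard_eq_pow_finrank (K := F), finrank_span_singleton hv0, pow_one, H.card_field]
    have : Finite (Submodule.span F ({v} : Set C.U)) := Module.finite_of_finite F
    rw [← hcard]
    exact Nat.card_le_card_of_injective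
      (fun w : K => (⟨w.1, hline w (congrArg Subtype.val (DFunLike.congr_fun hφ w))⟩ :
        Submodule.span F ({v} : Set C.U))) fun a b e => Subtype.ext (congrArg Subtype.val e :)
  · obtain ⟨u, hu⟩ : ∃ u, φ u ≠ 0 := by
      by_contra h
      push Not at h
      exact hφ (AddMonoidHom.ext h)
    have huv : H.h ((u : C.U) : V) v ≠ 0 := fun h => hu (Subtype.ext h)
    rw [← φ.ker.card_mul_index, AddSubgroup.index_ker, sq]
    refine Nat.mul_le_mul ?_ ((Nat.card_le_card_of_injective _ Subtype.val_injective).trans (le_of_eq card_skew))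
    choose a ha using fun w : φ.ker => Submodule.mem_span_singleton.1 (hline w.1 (congrArg Subtype.val w.2))
    have hfix : ∀ w : φ.ker, a w ∈ fixedField H.σ := fun w => by
      have h1 : (φ u : F) + H.σ (φ u : F) = 0 := skew_add _
      have h2 := iso_skew (hiso _ u.2) (hiso _ w.1.2) (hiso _ (K.add_mem u.2 w.1.2))
      rw [mem_skew, ← ha w, Submodule.coe_smul, H.smul_right, map_mul, H.conj.invol] at h2
      change H.σ (a w) * H.h ((u : C.U) : V) v + a w * H.σ (H.h ((u : C.U) : V) v) = 0 at h2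
      change H.h ((u : C.U) : V) v + H.σ (H.h ((u : C.U) : V) v) = 0 at h1
      rw [mem_fixedField]
      refine mul_right_cancel₀ huv ?_
      linear_combination h2 - a w * h1
    exact Nat.card_le_card_of_injective (fun w : φ.ker => (⟨a w, hfix w⟩ : fixedField H.σ)) fun w w' e => by
      have e' : a w = a w' := congrArg Subtype.val e
      exact Subtype.ext (Subtype.ext (by rw [← ha w, ← ha w', e']))

theorem imgs_iso (hpow : ∀ x, H.σ x = x ^ H.q) (hm : 3 ≤ C.m) {K : AddSubgroup C.U} {u : C.U}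
    (hu : u ∈ K) (hu0 : u ≠ 0) (huu : H.h (u : V) u = 0) :
    isoCount H.q C.m + (C.imgs ⊤ K).card ≤ (C.imgs ⊤ K).card * Nat.card K := by
  rw [← C.card_isoU hpow]
  refine C.cover_one _ (fun h => h.2 rfl) fun v hv => ?_
  obtain ⟨g, hg⟩ := C.exists_tau hu0 hv.2 (Or.inr hm) ⟨fun _ => hv.1, fun _ => huu⟩
  exact ⟨_, C.mem_imgs.2 ⟨g, Subgroup.mem_top g, rfl⟩, hg ▸ C.mem_map_tau.2 hu⟩

theorem imgs_noniso (hpow : ∀ x, H.σ x = x ^ H.q) {K : AddSubgroup C.U} {u : C.U}
    (hu : u ∈ K) (huu : H.h (u : V) u ≠ 0) :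
    (H.q - 1) * cardNormOne H.q C.m + (C.imgs ⊤ K).card ≤ (C.imgs ⊤ K).card * Nat.card K := by
  rw [← C.card_nonisoU hpow]
  refine C.cover_one _ (fun h => h (by rw [Submodule.coe_zero, H.zero_left])) fun v hv => ?_
  have hu0 : u ≠ 0 := fun h => huu (by rw [h, Submodule.coe_zero, H.zero_left])
  obtain ⟨g, hg⟩ := C.exists_tau hu0 (fun h => hv (by rw [h, Submodule.coe_zero, H.zero_left])) (Or.inl huu)
    ⟨fun h => absurd h huu, fun h => absurd h hv⟩
  exact ⟨_, C.mem_imgs.2 ⟨g, Subgroup.mem_top g, rfl⟩, hg ▸ C.mem_map_tau.2 hu⟩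

section Action

variable {X : Type w} [MulAction H.SIsom X] [Fintype X]

theorem sq_mem (h2 : (2 : F) = 0) {x : X} {u : C.U} (hu : u ∈ C.Kb x) :
    ∀ c : skew H, (c : F) = H.h (u : V) u → c ∈ Z1 C x := by
  intro c hc
  obtain ⟨d, hd⟩ := C.mem_Kb.1 hu
  have h : (C.rho u d * C.rho u d) • x = x := by rw [mul_smul, hd, hd]
  have hneg : ∀ a : F, -a = a := fun a => by linear_combination -a * h2
  have e1 : u + u = 0 := by rw [← two_smul F, h2, zero_smul]
  have e2 : d + d + C.beta u u = c := Subtype.ext (by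
    show (d : F) + d + (C.θ * H.h (u : V) u - H.σ (C.θ * H.h (u : V) u)) = c
    rw [map_mul, H.self_fixed, hc, sub_eq_add_neg, hneg]
    linear_combination (d : F) * h2 + H.h (u : V) u * C.hθ)
  rw [C.rho_mul, e1, e2] at h
  exact h

theorem kb_bot_false {x : X} (hd : Nat.card X * (H.q ^ 2 - 1) < H.q ^ (2 * C.m + 3) + H.q ^ (C.m + 2))
    (hZ : Z1 C x ≠ ⊤) (hK : C.Kb x = ⊥) : Nat.card (Z1 C x) = 1 := by
  by_contra hz
  have hz' : 0 < Nat.card (Z1 C x) := Nat.card_pos
  have h := C.key_pairs hZ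
  rw [hK, AddSubgroup.card_bot, mul_one, C.card_U, ← pow_succ'] at h
  have hM : 1 ≤ (C.imgs C.G1 (⊥ : AddSubgroup C.U)).card := Finset.card_pos.2 ⟨_, C.self_imgs _⟩
  refine arith_bot H.two_le_q (by have := C.hm; omega) (z := Nat.card (Z1 C x)) (by omega) hd (le_trans ?_ h)
  exact Nat.mul_le_mul_right _ (Nat.le_mul_of_pos_right _ hM)

theorem kb_large_false (hm : 3 ≤ C.m) {x : X}
    (hd : Nat.card X * (H.q ^ 2 - 1) < H.q ^ (2 * C.m + 3) + H.q ^ (C.m + 2))
    (hIH : ∀ K : Subgroup C.HU.SIsom, K ≠ ⊤ → H.q ^ (C.m + 2) + H.q ≤ K.index * (H.q ^ 2 - 1))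
    (hZ : Z1 C x ≠ ⊤) (hK : C.Kb x ≠ ⊥) : False := by
  have hk := C.kb_le x hZ
  have h1 := hIH _ (C.stabL_ne_top hm hK (C.kb_lt hk))
  have h2 := h1.trans (Nat.mul_le_mul_right _ (C.imgs_ge_index _))
  have h := C.key_pairs hZ
  rw [C.card_U, ← pow_succ'] at h
  exact arith_large H.two_le_q Nat.card_pos hk h2 hd h

theorem kb_three_false (hpow : ∀ x, H.σ x = x ^ H.q) (hm : C.m = 3) {x : X}
    (hd : Nat.card X * (H.q ^ 2 - 1) < H.q ^ 9 + H.q ^ 5) (hZ : Z1 C x ≠ ⊤) (hK : C.Kb x ≠ ⊥) : False := by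
  classical
  have hq := H.two_le_q
  have h2z := two_card_le hZ
  have hk := C.kb_le x hZ
  rw [hm] at hk
  have hkey := C.key_full x
  rw [C.card_U, ← pow_succ', hm] at hkey
  by_cases hiso : ∀ u ∈ C.Kb x, H.h (u : V) u = 0
  · obtain ⟨u, hu, hu0⟩ : ∃ u ∈ C.Kb x, u ≠ 0 := by
      by_contra h
      push Not at h
      exact hK (eq_bot_iff.2 fun u hu => AddSubgroup.mem_bot.2 (h u hu))
    have hk2 := C.iso_small hm hiso
    have h1 := C.imgs_iso hpow (by omega) hu hu0 (hiso u hu)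
    rw [hm] at h1
    have hI : isoCount H.q 3 = (H.q ^ 3 + 1) * (H.q ^ 2 - 1) := by simp [isoCount, show ¬ Even 3 by decide]
    rw [hI] at h1
    refine arith_three_iso hq h2z hk2 (M := (C.imgs ⊤ (C.Kb x)).card) ?_ hd hkey
    have h3 := h1.trans (Nat.mul_le_mul_left _ hk2)
    have h4 : (C.imgs ⊤ (C.Kb x)).card * H.q ^ 2 =
        (C.imgs ⊤ (C.Kb x)).card * (H.q ^ 2 - 1) + (C.imgs ⊤ (C.Kb x)).card := by
      rw [← Nat.mul_succ, Nat.succ_eq_add_one, Nat.sub_add_cancel (Nat.one_le_pow _ _ (by omega))]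
    exact Nat.le_of_mul_le_mul_right (by omega) (show 0 < H.q ^ 2 - 1 by
      have : 4 ≤ H.q ^ 2 := by nlinarith
      omega)
  push Not at hiso
  obtain ⟨u, hu, huu⟩ := hiso
  by_cases hz : Nat.card (Z1 C x) = 1
  · have hZb : Z1 C x = ⊥ := AddSubgroup.eq_bot_of_card_eq _ hz
    have h2 : (2 : F) ≠ 0 := fun h2 => by
      have hc : H.h (u : V) u + H.σ (H.h (u : V) u) = 0 := by
        rw [H.self_fixed, ← two_mul, h2, zero_mul]
      have h3 := C.sq_mem h2 hu ⟨_, hc⟩ rfl
      rw [hZb, AddSubgroup.mem_bot] at h3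
      exact huu (congrArg Subtype.val h3)
    have hodd : 3 ≤ H.q ∧ ¬ 2 ∣ H.q := by
      have hF : ¬ 2 ∣ Nat.card F := fun h => by
        have := Fintype.ofFinite F
        rw [Nat.card_eq_fintype_card] at h
        have h0 := (FiniteField.even_card_iff_char_two (F := F)).2 (Nat.mod_eq_zero_of_dvd h)
        have h1 := ringChar.Nat.cast_ringChar (R := F)
        rw [h0] at h1
        exact h2 (by exact_mod_cast h1)
      rw [H.card_field] at hF
      have : ¬ 2 ∣ H.q := fun h => hF (Dvd.dvd.pow h two_ne_zero)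
      exact ⟨by omega, this⟩
    obtain ⟨hq3, hodd⟩ := hodd
    rw [hz, one_mul] at hkey
    have h1 := C.imgs_noniso hpow hu huu
    have hN : cardNormOne H.q 3 = H.q ^ 2 * (H.q ^ 3 + 1) := by simp [cardNormOne, show ¬ Even 3 by decide]
    rw [hm, hN] at h1
    have hpp : ∃ p e, p.Prime ∧ H.q = p ^ e := by
      have := Fintype.ofFinite (fixedField H.σ)
      obtain ⟨p, _, n, hp, hn⟩ := FiniteField.card' (fixedField H.σ)
      exact ⟨p, n, hp, (Nat.card_eq_fintype_card).trans hn⟩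
    obtain ⟨p, e, hp, hpe⟩ := hpp
    rcases lt_or_eq_of_le hk with hlt | heq
    · have hdvd : Nat.card (C.Kb x) ∣ H.q ^ 6 := by
        have := AddSubgroup.card_addSubgroup_dvd_card (C.Kb x)
        rwa [C.card_U, hm] at this
      rw [hpe, ← pow_mul] at hdvd hlt
      obtain ⟨a, -, ha⟩ := (Nat.dvd_prime_pow hp).1 hdvd
      have hp3 : 3 ≤ p := by
        have := hp.two_le
        rcases Nat.lt_or_ge p 3 with h | h
        · exfalso
          obtain rfl : p = 2 := by omega
          rcases e with _ | e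
          · rw [pow_zero] at hpe; omega
          · exact hodd ⟨2 ^ e, by rw [hpe, pow_succ']⟩
        · exact h
      rw [ha] at hlt
      have hae := (Nat.pow_lt_pow_iff_right hp.one_lt).1 hlt
      have h3k : 3 * Nat.card (C.Kb x) ≤ H.q ^ 3 := by
        rw [ha, hpe, ← pow_mul]
        calc 3 * p ^ a ≤ p * p ^ a := Nat.mul_le_mul_right _ hp3
          _ = p ^ (a + 1) := (pow_succ' p a).symm
          _ ≤ _ := Nat.pow_le_pow_right hp.pos hae
      refine arith_three_one hq3 (c := 1) (e := 9) (by omega) (k := Nat.card (C.Kb x))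
        (M := (C.imgs ⊤ (C.Kb x)).card) ?_ ?_ hd hkey
      · calc 9 * (Nat.card (C.Kb x) * Nat.card (C.Kb x)) = 3 * Nat.card (C.Kb x) * (3 * Nat.card (C.Kb x)) := by ring
          _ ≤ H.q ^ 3 * H.q ^ 3 := Nat.mul_le_mul h3k h3k
          _ = _ := by ring
      · omega
    · by_cases hsh : ∀ K ∈ C.imgs ⊤ (C.Kb x), ∀ v ∈ K, v ∈ C.Kb x → H.h (v : V) v ≠ 0 → K = C.Kb x
      · have key : ∀ e : C.U, H.h (e : V) e = 0 → H.h (u : V) e = 0 → ∀ w ∈ C.Kb x, H.h (w : V) e = 0 := by
          intro e he hue w hw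
          obtain ⟨c0, hc00, hc0⟩ := H.conj.exists_skew
          have he' : C.HU.h e e = 0 := he
          have hc0' : c0 + C.HU.σ c0 = 0 := hc0
          set k := C.HU.sT he' hc0'
          have hfix : C.tau (C.ext k) u = u := by
            rw [C.tau_ext, C.HU.sT_apply, C.HU_h, hue, mul_zero, zero_smul, add_zero]
          have hKeq := hsh _ (C.mem_imgs.2 ⟨C.ext k, Subgroup.mem_top _, rfl⟩) u
            (by rw [← hfix]; exact C.mem_map_tau.2 hu) hu huu
          have h3 : C.tau (C.ext k) w ∈ C.Kb x := by rw [← hKeq]; exact C.mem_map_tau.2 hw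
          rw [C.tau_ext, C.HU.sT_apply] at h3
          have h4 := (C.Kb x).sub_mem h3 hw
          rw [add_sub_cancel_left] at h4
          have h5 := C.comm_mem hw h4
          rw [hZb, AddSubgroup.mem_bot] at h5
          have h6 : (C.comm w ((c0 * C.HU.h w e) • e) : F) = 0 := congrArg Subtype.val h5
          rw [comm, nu_coe, Submodule.coe_smul, H.smul_right, C.HU_h, map_mul, map_mul, map_mul, H.conj.invol,
            H.conj.invol, eq_neg_of_add_eq_zero_right hc0] at h6
          have h7 : c0 * 2 * (H.h (w : V) e * H.σ (H.h (w : V) e)) = 0 := by linear_combination -h6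
          rcases mul_eq_zero.1 h7 with h | h
          · exact absurd h (mul_ne_zero hc00 h2)
          · rcases mul_eq_zero.1 h with h | h
            · exact h
            · exact (map_eq_zero H.σ).1 h
        have hu0 : u ≠ 0 := fun h => huu (by rw [h, Submodule.coe_zero, H.zero_left])
        have hsp : ∀ w ∈ C.Kb x, w ∈ Submodule.span F ({u} : Set C.U) := by
          intro w hw
          have hn : C.HU.NondegOn (Submodule.span F ({u} : Set C.U)) := C.HU.nondegOn_span_singleton huu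
          rw [← C.HU.orth_orth (Submodule.span F ({u} : Set C.U))]
          intro t ht
          let W := C.HU.orth (Submodule.span F ({u} : Set C.U))
          have hspan := (C.HU.restrict W (C.HU.nondegOn_orth hn)).span_isotropic (by
            show 2 ≤ Module.finrank F W
            rw [C.HU.finrank_orth, finrank_span_singleton hu0, C.finrank_U, hm])
          have ht' : (⟨t, ht⟩ : W) ∈ Submodule.span F {z : W | (C.HU.restrict W (C.HU.nondegOn_orth hn)).h z z = 0} :=
            hspan ▸ Submodule.mem_top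
          have hall : ∀ z : W, z ∈ Submodule.span F {z : W | (C.HU.restrict W (C.HU.nondegOn_orth hn)).h z z = 0} →
              C.HU.h w (z : C.U) = 0 := by
            intro z hz
            induction hz using Submodule.span_induction with
            | mem z hz =>
              have : C.HU.h (z : C.U) u = 0 := z.2 u (Submodule.mem_span_singleton_self u)
              exact key z hz (C.HU.eq_zero_symm this) w hw
            | zero => exact C.HU.zero_right w
            | add a b _ _ ha hb => rw [Submodule.coe_add, C.HU.add_right, ha, hb, add_zero]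
            | smul s a _ ha => rw [Submodule.coe_smul, C.HU.smul_right, ha, mul_zero]
          exact hall _ ht'
        have : Finite (Submodule.span F ({u} : Set C.U)) := Module.finite_of_finite F
        have h3 := Nat.card_le_card_of_injective
          (fun w : C.Kb x => (⟨w.1, hsp w.1 w.2⟩ : Submodule.span F ({u} : Set C.U)))
          fun a b e => Subtype.ext (congrArg Subtype.val e :)
        rw [heq, Module.natCard_eq_pow_finrank (K := F) (V := Submodule.span F ({u} : Set C.U)),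
          finrank_span_singleton hu0, pow_one, H.card_field] at h3
        have := (Nat.pow_le_pow_iff_right (show 1 < H.q by omega)).1 h3
        omega
      · push Not at hsh
        obtain ⟨K, hK', v, hvK, hv, hvv, hne⟩ := hsh
        have hv0 : v ≠ 0 := fun h => hvv (by rw [h, Submodule.coe_zero, H.zero_left])
        have h4 := C.cover (P := ⊤) (K := C.Kb x) (fun t : C.U => H.h (t : V) t ≠ 0)
          (fun h => h (by rw [Submodule.coe_zero, H.zero_left])) 2 fun t ht => by
            refine Finset.one_lt_card.2 ?_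
            have ht0 : t ≠ 0 := fun h => ht (by rw [h, Submodule.coe_zero, H.zero_left])
            obtain ⟨g, rfl⟩ := C.exists_tau hv0 ht0 (Or.inl hvv) ⟨fun h => absurd h hvv, fun h => absurd h ht⟩
            exact ⟨K.map (C.tau g), Finset.mem_filter.2 ⟨C.imgs_closed (Subgroup.mem_top g) hK', C.mem_map_tau.2 hvK⟩,
              (C.Kb x).map (C.tau g), Finset.mem_filter.2 ⟨C.imgs_closed (Subgroup.mem_top g) (C.self_imgs _),
                C.mem_map_tau.2 hv⟩, fun e => hne (AddSubgroup.map_injective (C.tau_inj g) e)⟩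
        rw [C.card_nonisoU hpow, hm, hN] at h4
        refine arith_three_one hq3 (c := 2) (e := 1) (by omega) (k := Nat.card (C.Kb x))
          (M := (C.imgs ⊤ (C.Kb x)).card) ?_ ?_ hd hkey
        · rw [heq, one_mul, ← pow_add]
        · omega
  · have hzp : 0 < Nat.card (Z1 C x) := Nat.card_pos
    have hz2 : 2 ≤ Nat.card (Z1 C x) := by omega
    have h5 : H.q ≠ 5 := fun h5 => by
      have hd' := AddSubgroup.card_addSubgroup_dvd_card (Z1 C x)
      rw [card_skew, h5] at hd'
      rcases (Nat.dvd_prime (by norm_num)).1 hd' with h | h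
      · omega
      · omega
    have hi := (C.stabL_ne_top (by omega) hK (C.kb_lt (hm.symm ▸ hk)))
    have h3 := (index_three (C.hpowU hpow) (by rw [C.finrank_U, hm]) (show 3 ≤ H.q by omega) h5 hi).trans
      (C.imgs_ge_index _)
    change H.q ^ 3 + 1 ≤ _ at h3
    have h := C.key_pairs hZ
    rw [C.card_U, ← pow_succ', hm] at h
    refine arith_bot hq (m := 3) (by omega) hz2 hd ?_
    refine Nat.le_of_mul_le_mul_right ?_ (show 0 < H.q ^ 3 by positivity)
    calc (H.q - 1) * H.q ^ (2 * 3 + 1) * H.q ^ 3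
        = (H.q - 1) * H.q ^ 3 * H.q ^ (2 * 3 + 1) := by ring
      _ ≤ (H.q - 1) * (C.imgs C.G1 (C.Kb x)).card * H.q ^ (2 * 3 + 1) :=
          Nat.mul_le_mul_right _ (Nat.mul_le_mul_left _ (by omega))
      _ ≤ Nat.card X * Nat.card (C.Kb x) * (H.q - Nat.card (Z1 C x)) := h
      _ ≤ Nat.card X * H.q ^ 3 * (H.q - Nat.card (Z1 C x)) :=
          Nat.mul_le_mul_right _ (Nat.mul_le_mul_left _ hk)
      _ = _ := by ring

/-- Moved points have regular orbits. -/
theorem regular (hpow : ∀ x, H.σ x = x ^ H.q) (hm : 3 ≤ C.m)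
    (hd : Nat.card X * (H.q ^ 2 - 1) < H.q ^ (2 * C.m + 3) + H.q ^ (C.m + 2))
    (hIH : 4 ≤ C.m → ∀ K : Subgroup C.HU.SIsom, K ≠ ⊤ → H.q ^ (C.m + 2) + H.q ≤ K.index * (H.q ^ 2 - 1))
    {x : X} (hZ : Z1 C x ≠ ⊤) : Z1 C x = ⊥ ∧ C.Kb x = ⊥ ∧ Nat.card (C.orb x) = H.q ^ (2 * C.m + 1) := by
  have hK : C.Kb x = ⊥ := by
    by_contra hK
    rcases eq_or_lt_of_le hm with h | h
    · refine C.kb_three_false hpow h.symm ?_ hZ hK
      rwa [← h] at hd
    · exact C.kb_large_false hm hd (hIH h) hZ hK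
  have hz := C.kb_bot_false hd hZ hK
  refine ⟨AddSubgroup.eq_bot_of_card_eq _ hz, hK, ?_⟩
  have h := C.orb_card x
  rw [hz, hK, AddSubgroup.card_bot, mul_one, mul_one, C.card_U, ← pow_succ'] at h
  exact h

end Action

end Frame

end Cfsg.Lib.Known.MinIndexSU
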