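import Cfsg.Agent.Known.MinIndexSU.TwoGood
import Cfsg.Agent.Known.MinIndexSU.Eleven
import Cfsg.Agent.Known.MinIndexSU.Main

/-!
The index bound for every field.
-/

set_option autoImplicit false
set_option linter.unusedSectionVars false
set_option linter.unusedSimpArgs false
set_option linter.style.haveILetI false

namespace Cfsg.Lib.Known.MinIndexSU

open Cfsg.Lib.Classical Cfsg.Lib.Classical.UIso

universe u v

variable {F : Type u} [Field F] [Finite F] {V : Type v} [AddCommGroup V] [Module F V] [FiniteDimensional F V]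
  {H : HermSpace F V}

/-- A good point over four elements. -/
theorem good_two {C : Frame H} {K : Subgroup H.SIsom} [Fintype (H.SIsom ⧸ K)] (hS : Small C (H.SIsom ⧸ K))
    (hq : H.q = 2) (hm : C.m % 3 = 1) : ∃ y : H.SIsom ⧸ K, C.Good y := by
  have hm4 : 4 ≤ C.m := by have := hS.hm; omega
  obtain ⟨O⟩ := exists_omega C hS.hpow hq hm hm4
  rcases Nat.lt_or_ge C.m 5 with h | h
  · have h4 : C.m = 4 := by omega
    by_cases hpos : ∃ y : H.SIsom ⧸ K, C.a ∈ cen H y
    · exact hS.good_four O h4 fun w hw => hS.cenW_four O h4 (hS.exists_pair hpos) hw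
    · exfalso
      have hcard := hS.card_fixed
      have : IsEmpty {y : H.SIsom ⧸ K // C.a ∈ cen H y} := ⟨fun y => hpos ⟨y.1, y.2⟩⟩
      rw [Nat.card_of_isEmpty, zero_add, hq, h4, ← Subgroup.index] at hcard
      exact no_index_512 hq (by rw [C.hdim, h4]) K (by rw [← hcard]; norm_num)
  · exact hS.good_large O h fun w hw => hS.cenW_large O h hw

/-- The bound for every field. -/
theorem index_bound_all (hpow : ∀ x, H.σ x = x ^ H.q) {n : ℕ} (hdim : Module.finrank F V = n) (hn : 5 ≤ n)
    {K : Subgroup H.SIsom} (hK : K ≠ ⊤) :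
    isoCount H.q n ≤ K.index * (H.q ^ 2 - 1) ∨ (Even n ∧ H.q = 2 ∧
      isoCount H.q n * H.q ^ (2 * (n - 2) + 1) + K.index * isoCount H.q (n - 1) ≤ K.index * isoCount H.q n) := by
  by_cases h : 3 ≤ H.q ∨ n % 3 ≠ 0
  · exact index_bound_of_good hpow hdim hn h hK
  push Not at h
  have hq : H.q = 2 := by have := H.two_le_q; omega
  by_contra hc
  push Not at hc
  have := finite_sisom' (H := H)
  have := Fintype.ofFinite (H.SIsom ⧸ K)
  obtain ⟨C, hC, hS⟩ := small_of_index hpow hdim hn hK hc.1
  obtain ⟨y, hy⟩ := good_two hS hq (by omega)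
  have hb := hS.bound hy
  rw [hC, show n - 2 + 2 = n by omega, show n - 2 + 1 = n - 1 by omega] at hb
  rcases hb with hb | ⟨he, hq', hb⟩
  · exact absurd hb (not_le.2 hc.1)
  · refine absurd hb (not_le.2 (hc.2 ?_ hq))
    rw [show n = n - 2 + 2 by omega]
    simpa [Nat.even_add] using he

end Cfsg.Lib.Known.MinIndexSU
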