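import Cfsg.Agent.Known.MinIndexSU.FixedTwo

/-!
Two fixed scalars: good points from centres orthogonal to a vector of norm one.
-/

set_option autoImplicit false
set_option linter.unusedSectionVars false
set_option linter.unusedSimpArgs false
set_option linter.style.haveILetI false

namespace Cfsg.Lib.Known.MinIndexSU

open Cfsg.Lib.Classical Cfsg.Lib.Classical.UIso
open scoped commutatorElement

universe u v w

variable {F : Type u} [Field F] [Finite F] {V : Type v} [AddCommGroup V] [Module F V] [FiniteDimensional F V]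
  {H : HermSpace F V}

/-- The special unitary group of a nondegenerate subspace inside. -/
noncomputable def extS {W : Submodule F V} (hW : H.NondegOn W) : (H.restrict W hW).SIsom →* H.SIsom :=
  ((extI hW).comp (H.restrict W hW).SIsom.subtype).codRestrict H.SIsom fun k => by
    rw [HermSpace.SIsom, MonoidHom.mem_ker]
    exact (det_extI hW k.1).trans k.2

theorem extS_mem {W : Submodule F V} (hW : H.NondegOn W) (k : (H.restrict W hW).SIsom) (x : W) :
    (extS hW k).1.1 (x : V) = (k.1.1 x : V) := extI_mem hW k.1 x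

theorem extS_orth {W : Submodule F V} (hW : H.NondegOn W) (k : (H.restrict W hW).SIsom) {x : V}
    (hx : x ∈ H.orth W) : (extS hW k).1.1 x = x := extI_orth hW k.1 hx

theorem extS_sT {W : Submodule F V} (hW : H.NondegOn W) {e : W} (he : H.h (e : V) e = 0) {c : F}
    (hc : c + H.σ c = 0) :
    extS hW ((H.restrict W hW).sT (show (H.restrict W hW).h e e = 0 from he)
      (show c + (H.restrict W hW).σ c = 0 from hc)) = H.sT he hc := by
  refine Subtype.ext (H.eq_of_fix_orth hW (fun x hx => ?_) fun x hx => ?_)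
  · rw [show x = ((⟨x, hx⟩ : W) : V) from rfl]
    refine (extS_mem hW _ ⟨x, hx⟩).trans ?_
    rw [(H.restrict W hW).sT_apply]
    exact (H.sT_apply he hc x).symm
  · refine (extS_orth hW _ hx).trans ?_
    show x = (H.sT he hc).1.1 x
    rw [H.sT_apply, hx _ e.2, mul_zero, zero_smul, add_zero]

namespace Small

variable {C : Frame H} {X : Type w} [MulAction H.SIsom X] [Fintype X] (hS : Small C X) (O : Omega C)

/-- Isotropic vectors orthogonal to a vector are centres at all its fixed points. -/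
def CenW {w : C.U} (hw : C.HU.h w w = 1) : Prop :=
  ∀ z ∈ FixW (X := X) O hw, ∀ e : C.U, H.h (e : V) e = 0 → C.HU.h e w = 0 → (e : V) ∈ cen H z

include hS

theorem rho_eq {y : X} (hy : Z1 C y ≠ ⊤) {u u' : C.U} {c c' : skew H} (h : C.rho u c • y = C.rho u' c' • y) :
    u = u' := by
  have h2 : ((C.rho u c)⁻¹ * C.rho u' c') • y = y := by rw [mul_smul, ← h, inv_smul_smul]
  rw [C.rho_inv, C.rho_mul] at h2
  have h3 : -u + u' ∈ C.Kb y := C.mem_Kb.2 ⟨_, h2⟩
  rwa [(hS.regular hy).2.1, AddSubgroup.mem_bot, neg_add_eq_zero] at h3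

theorem good_of_iso (hm4 : 4 ≤ C.m) {y : X} (hy : Z1 C y ≠ ⊤)
    (hiso : ∀ e : C.U, H.h (e : V) e = 0 → (e : V) ∈ cen H y) : C.Good y := by
  let K : Subgroup C.HU.SIsom := (MulAction.stabilizer H.SIsom y).comap (C.G2.subtype.comp C.ext)
  have hK : K = ⊤ := C.HU.eq_top_of_uCentres (Or.inl (by rw [C.finrank_U]; exact hm4)) fun e he => by
    refine ⟨he, fun c hc => ?_⟩
    show (C.ext (C.HU.sT he hc)).1 ∈ MulAction.stabilizer H.SIsom y
    rw [C.ext_sT (e := e) he hc]
    exact (hiso e he).2 c hc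
  have hfix : ∀ k : C.HU.SIsom, (C.ext k).1 • y = y := fun k =>
    MulAction.mem_stabilizer_iff.1 (show k ∈ K by rw [hK]; exact Subgroup.mem_top k)
  exact ⟨hy, hiso, fun k => ⟨0, by rw [hfix, C.rho_zero_zero, one_smul]⟩, fun _ => hfix⟩

theorem good_large (h5 : 5 ≤ C.m) (hcen : ∀ (w : C.U) (hw : C.HU.h w w = 1), CenW (X := X) O hw) :
    ∃ y : X, C.Good y := by
  have : Nontrivial C.U := Module.nontrivial_of_finrank_pos (R := F) (by rw [C.finrank_U]; omega)
  obtain ⟨w, hw⟩ := C.HU.exists_norm_one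
  obtain ⟨w', hw', hw'w⟩ := C.HU.exists_anisotropic_orth_singleton (by rw [C.finrank_U]; omega) w
  have hww' : C.HU.h w w' = 0 := C.HU.eq_zero_symm hw'w
  obtain ⟨y, hy, hy'⟩ := hS.exists_common (O := O) hw hw' hww'
  refine ⟨y, hS.good_of_iso (by omega) hy.1 fun e he => ?_⟩
  have he' : C.HU.h e e = 0 := he
  set α := C.HU.h e w with hα
  set α' := C.HU.h e w' with hα'
  by_cases h0 : α = 0
  · exact hcen w hw y hy e he h0
  by_cases h0' : α' = 0
  · exact hcen w' hw' y hy' e he h0'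
  set P : Submodule F C.U := Submodule.span F ({w, w'} : Set C.U)
  have hP : C.HU.NondegOn P := fun x hx hxo => by
    obtain ⟨s, t, rfl⟩ := Submodule.mem_span_pair.1 hx
    have h1 := hxo w (Submodule.subset_span (by simp))
    have h2 := hxo w' (Submodule.subset_span (by simp))
    rw [C.HU.add_right, C.HU.smul_right, C.HU.smul_right] at h1 h2
    rw [hw, hww', mul_one, mul_zero, add_zero, map_eq_zero] at h1
    rw [hw'w, hw', mul_zero, mul_one, zero_add, map_eq_zero] at h2
    simp [h1, h2]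
  have hW2 := C.HU.nondegOn_orth hP
  set R : C.U := e - α • w - α' • w' with hR
  have hRw : C.HU.h R w = 0 := by simp [hR, C.HU.sub_left, C.HU.smul_left, hw, hw'w, ← hα]
  have hRw' : C.HU.h R w' = 0 := by simp [hR, C.HU.sub_left, C.HU.smul_left, hw', hww', ← hα']
  have hRm : R ∈ C.HU.orth P := by
    rw [C.HU.mem_orth_span]
    rintro _ (rfl | rfl)
    exacts [hRw, hRw']
  have hdim : 3 ≤ Module.finrank F (C.HU.orth P) := by
    rw [C.HU.finrank_orth, C.finrank_U]
    have : Module.finrank F P ≤ 2 := by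
      classical
      refine (finrank_span_le_card ({w, w'} : Set C.U)).trans ?_
      rw [Set.toFinset_insert, Set.toFinset_singleton]
      exact Finset.card_le_two
    omega
  obtain ⟨⟨R1, hR1m⟩, hR1, hR1R⟩ := (C.HU.restrict _ hW2).exists_anisotropic_orth_singleton hdim ⟨R, hRm⟩
  change C.HU.h R1 R1 = 1 at hR1
  change C.HU.h R1 R = 0 at hR1R
  have h1w : C.HU.h R1 w = 0 := hR1m w (Submodule.subset_span (by simp))
  have h1w' : C.HU.h R1 w' = 0 := hR1m w' (Submodule.subset_span (by simp))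
  have hNα : α * C.HU.σ α = 1 := O.eq_one_of_norm h0
  have hNα' : α' * C.HU.σ α' = 1 := O.eq_one_of_norm h0'
  set e1 : C.U := α' • w' + R1 with he1
  set e2 : C.U := α • w + (R - R1) with he2
  have hRR : C.HU.h R R = 0 := by
    have h2 : e = R + α • w + α' • w' := by rw [hR]; abel
    rw [h2] at he'
    simp only [C.HU.add_left, C.HU.add_right, C.HU.smul_left, C.HU.smul_right, hw, hw', hww', hw'w, hRw, hRw',
      C.HU.eq_zero_symm hRw, C.HU.eq_zero_symm hRw'] at he'
    linear_combination he' - hNα - hNα' - O.h2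
  have e1iso : H.h (e1 : V) e1 = 0 := by
    show C.HU.h e1 e1 = 0
    simp only [he1, C.HU.add_left, C.HU.add_right, C.HU.smul_left, C.HU.smul_right, hw', h1w', hR1,
      C.HU.eq_zero_symm h1w']
    linear_combination hNα' + O.h2
  have e2iso : H.h (e2 : V) e2 = 0 := by
    show C.HU.h e2 e2 = 0
    simp only [he2, C.HU.add_left, C.HU.add_right, C.HU.sub_left, C.HU.sub_right, C.HU.smul_left, C.HU.smul_right,
      hw, h1w, hRw, hR1, hR1R, hRR, C.HU.eq_zero_symm hR1R, C.HU.eq_zero_symm hRw, C.HU.eq_zero_symm h1w]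
    linear_combination hNα + O.h2
  have e1w : C.HU.h e1 w = 0 := by simp [he1, C.HU.add_left, C.HU.smul_left, hw'w, h1w]
  have e2w' : C.HU.h e2 w' = 0 := by simp [he2, C.HU.add_left, C.HU.sub_left, C.HU.smul_left, hww', hRw', h1w']
  have hne : H.h (e1 : V) e2 ≠ 0 := by
    show C.HU.h e1 e2 ≠ 0
    simp [he1, he2, C.HU.add_left, C.HU.add_right, C.HU.sub_right, C.HU.smul_left, C.HU.smul_right, hw'w, h1w,
      C.HU.eq_zero_symm hRw', C.HU.eq_zero_symm h1w', hR1, hR1R]
  have hsum : e = e1 + e2 := by rw [he1, he2, hR]; abel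
  have := H.uCentres_span (hcen w hw y hy e1 e1iso e1w) (hcen w' hw' y hy' e2 e2iso e2w') hne (a := 1) (b := 1)
    (by rw [one_smul, one_smul, ← Submodule.coe_add, ← hsum]; exact he)
  rw [one_smul, one_smul, ← Submodule.coe_add, ← hsum] at this
  exact this

theorem good_four (h4 : C.m = 4) (hcen : ∀ (w : C.U) (hw : C.HU.h w w = 1), CenW (X := X) O hw) :
    ∃ y : X, C.Good y := by
  obtain ⟨b0, hb0⟩ := C.HU.exists_orthonormal
  have hr : Module.finrank F C.U = 4 := by rw [C.finrank_U, h4]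
  let b := b0.reindex (finCongr hr)
  have hb : ∀ i j, C.HU.h (b i) (b j) = if i = j then 1 else 0 := fun i j => by
    simp only [b, Module.Basis.reindex_apply]
    rw [hb0]
    simp [Fin.ext_iff]
  have h01 : C.HU.h (b 0) (b 1) = 0 := by rw [hb]; rfl
  obtain ⟨y, hy0, hy1⟩ := hS.exists_common (O := O) (show C.HU.h (b 0) (b 0) = 1 by rw [hb]; rfl)
    (show C.HU.h (b 1) (b 1) = 1 by rw [hb]; rfl) h01
  have hn : ∀ i, C.HU.h (b i) (b i) = 1 := fun i => by rw [hb, if_pos rfl]
  have ho : ∀ i j, i ≠ j → C.HU.h (b i) (b j) = 0 := fun i j h => by rw [hb, if_neg h]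
  have hall : ∀ i, y ∈ FixW O (hn i) := by
    intro i
    fin_cases i
    · exact hy0
    · exact hy1
    · exact hS.third_fix O (hn 0) (hn 1) _ h01 (ho _ _ (by decide)) (ho _ _ (by decide)) hy0 hy1
    · exact hS.third_fix O (hn 0) (hn 1) _ h01 (ho _ _ (by decide)) (ho _ _ (by decide)) hy0 hy1
  refine ⟨y, hS.good_of_iso (by omega) hy0.1 fun e he => ?_⟩
  by_cases hz : ∃ i, C.HU.h e (b i) = 0
  · obtain ⟨i, hi⟩ := hz
    exact hcen _ (hn i) y (hall i) e he hi
  push Not at hz
  set s : Fin 4 → F := fun i => C.HU.h e (b i) / C.HU.h e (b 2)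
  have hs2 : s 2 = 1 := div_self (hz 2)
  have hsn : ∀ i, s i * C.HU.σ (s i) = 1 := fun i => O.eq_one_of_norm (div_ne_zero (hz i) (hz 2))
  have hexp : e = ∑ i, C.HU.h e (b i) • b i := by
    refine b.ext_elem fun j => ?_
    rw [map_sum, Finset.sum_apply']
    simp only [map_smul, Finsupp.smul_apply, Module.Basis.repr_self, Finsupp.single_apply, smul_eq_mul, mul_ite,
      mul_one, mul_zero, Finset.sum_ite_eq', Finset.mem_univ, if_true]
    conv_rhs => rw [← b.sum_repr e, C.HU.sum_left]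
    simp [C.HU.smul_left, hb]
  set v : C.U := s 0 • b 0 + s 1 • b 1 with hv
  have hvv : C.HU.h v v = 0 := by
    simp only [hv, C.HU.add_left, C.HU.add_right, C.HU.smul_left, C.HU.smul_right, hn, h01, C.HU.eq_zero_symm h01]
    linear_combination hsn 0 + hsn 1 + O.h2
  have hv2 : C.HU.h (b 2) v = 0 := by
    simp [hv, C.HU.add_right, C.HU.smul_right, ho 2 0 (by decide), ho 2 1 (by decide)]
  have hv3 : C.HU.h (b 3) v = 0 := by
    simp [hv, C.HU.add_right, C.HU.smul_right, ho 3 0 (by decide), ho 3 1 (by decide)]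
  have ha : O.ω + C.HU.σ O.ω = -C.HU.h (b 2) (b 2) := by
    rw [hn, C.HU_σ, O.hσ]; linear_combination O.quad
  set x : C.HU.SIsom := ⟨C.HU.siegel hvv hv2 ha, C.HU.siegel_mem_SIsom hvv hv2 ha⟩
  have hxapp : ∀ z, x.1.1 z = z + C.HU.h z v • b 2 + (O.ω * C.HU.h z v - C.HU.h z (b 2)) • v := fun z =>
    C.HU.siegel_apply hvv hv2 ha z
  have hx3 : x.1.1 (b 3) = b 3 := by
    rw [hxapp, hv3, ho 3 2 (by decide)]; simp
  have hone : (1 : F) + C.HU.σ 1 = 0 := by rw [map_one]; linear_combination O.h2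
  have hxx : x * x = C.HU.sT hvv hone := C.HU.sisom_ext fun z => by
    rw [C.HU.smul_mul_apply, C.HU.sT_apply, hxapp (x.1.1 z), hxapp]
    simp only [C.HU.add_left, C.HU.smul_left, hv2, hvv, C.HU.eq_zero_symm hv2, hn]
    have e2 : ∀ t : C.U, t + t = 0 := fun t => by rw [← two_smul F, O.h2, zero_smul]
    have e3 : ∀ t : F, -t = t := fun t => by linear_combination -t * O.h2
    linear_combination (norm := module) e2 (C.HU.h z v • b 2) + e2 ((O.ω * C.HU.h z v - C.HU.h z (b 2)) • v)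
      - e2 (C.HU.h z v • v)
  have hcomm : x * O.kw (hn 3) = O.kw (hn 3) * x := O.kw_comm (hn 3) (ζ := 1) (by rw [map_one, mul_one])
    (by rw [hx3, one_smul])
  obtain ⟨u, c, hu, huc⟩ := hS.param O (hn 3) (hall 3) (hS.FixW_stable O (hn 3) hcomm (hall 3))
  have hsT : (C.ext (C.HU.sT hvv hone)).1 • y = y := by
    rw [C.ext_sT (e := v) hvv hone]
    exact MulAction.mem_stabilizer_iff.1 ((hcen _ (hn 3) y (hall 3) v hvv (C.HU.eq_zero_symm hv3)).2 1 hone)
  rw [← hxx, map_mul, Subgroup.coe_mul, mul_smul, ← huc, smul_smul, C.ext_rho, mul_smul, ← huc] at hsT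
  have hxu : x.1.1 u = u := by rw [hu, map_smul, hx3]
  rw [hxu, smul_smul, C.rho_mul] at hsT
  have hbeta : c + c + C.beta u u ∈ Z1 C y := by
    rw [mem_Z1]
    have e1 : u + u = 0 := by rw [← two_smul F, O.h2, zero_smul]
    rwa [e1] at hsT
  rw [(hS.regular hy0.1).1, AddSubgroup.mem_bot] at hbeta
  have hu0 : u = 0 := by
    have h1 : (c : F) + c + (C.θ * H.h (u : V) u - H.σ (C.θ * H.h (u : V) u)) = 0 := congrArg Subtype.val hbeta
    rw [map_mul, H.self_fixed] at h1
    have h2 : C.HU.h u u = 0 := by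
      show H.h (u : V) u = 0
      linear_combination h1 - ((c : F) - H.σ C.θ * H.h (u : V) u) * O.h2 - H.h (u : V) u * C.hθ
    rw [hu, C.HU.smul_left, C.HU.smul_right, hn, mul_one] at h2
    rw [hu]
    rcases mul_eq_zero.1 h2 with h | h
    · rw [h, zero_smul]
    · rw [(map_eq_zero C.HU.σ).1 h, zero_smul]
  rw [hu0] at huc
  set w0 : C.U := x.1.1 (b 0)
  have hw0 : C.HU.h w0 w0 = 1 := by rw [C.HU.map_form]; exact hn 0
  have hyw0 : y ∈ FixW O hw0 := by
    refine ⟨hy0.1, ?_⟩
    have h1 : (C.ext (O.kw hw0)).1 • C.rho 0 c • y = C.rho 0 c • y := by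
      rw [huc, smul_smul, ← Subgroup.coe_mul, ← map_mul, ← O.kw_conj (hn 0) hw0 x rfl, map_mul, Subgroup.coe_mul,
        mul_smul, hy0.2]
    rw [smul_smul, C.ext_T, mul_smul, smul_left_cancel_iff] at h1
    exact h1
  refine hcen _ hw0 y hyw0 e he ?_
  have hx2 : x.1.1 (b 2) = v + b 2 := by
    rw [hxapp, hv2, hn]
    have e2 : v + v = 0 := by rw [← two_smul F, O.h2, zero_smul]
    linear_combination (norm := module) -e2
  have hR : e = C.HU.h e (b 2) • x.1.1 (b 2) + C.HU.h e (b 3) • x.1.1 (b 3) := by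
    rw [hx2, hx3]
    conv_lhs => rw [hexp, Fin.sum_univ_four]
    rw [hv, smul_add, smul_add, smul_smul, smul_smul]
    simp only [s, mul_div_cancel₀ _ (hz 2)]
  rw [hR, C.HU.add_left, C.HU.smul_left, C.HU.smul_left, C.HU.map_form, C.HU.map_form, ho 2 0 (by decide),
    ho 3 0 (by decide), mul_zero, mul_zero, add_zero]

theorem cenW_large (h5 : 5 ≤ C.m) {w : C.U} (hw : C.HU.h w w = 1) : CenW (X := X) O hw := by
  intro y hy e he hew
  have hwn : C.HU.h w w ≠ 0 := by rw [hw]; exact one_ne_zero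
  have hW := C.HU.nondegOn_orth (C.HU.nondegOn_span_singleton hwn)
  set W := C.HU.orth (Submodule.span F {w})
  have hw0 : w ≠ 0 := fun h => hwn (by rw [h, C.HU.zero_left])
  have hdW : Module.finrank F W = C.m - 1 := by
    rw [C.HU.finrank_orth, finrank_span_singleton hw0, C.finrank_U]
  have hfixw : ∀ k : (C.HU.restrict W hW).SIsom, (extS hW k).1.1 w = w := fun k =>
    extS_orth hW k (C.HU.le_orth_orth _ (Submodule.mem_span_singleton_self w))
  have hex : ∀ k : (C.HU.restrict W hW).SIsom, ∃ u c, u = C.HU.h u w • w ∧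
      C.rho u c • y = (C.ext (extS hW k)).1 • y := fun k =>
    hS.param O hw hy (hS.FixW_stable O hw (O.kw_comm hw (ζ := 1) (by rw [map_one, mul_one]) (by rw [hfixw, one_smul])) hy)
  choose s c hs hc using hex
  have hfu : ∀ k k', (extS hW k).1.1 (s k') = s k' := fun k k' => by rw [hs k', map_smul, hfixw]
  have hmul : ∀ k k', s (k * k') = s k' + s k := fun k k' => by
    refine hS.rho_eq (c := c (k * k')) hy.1 (c' := c k' + c k + C.beta (s k') (s k)) ?_
    rw [hc, map_mul, map_mul, Subgroup.coe_mul, mul_smul, ← hc k', smul_smul, C.ext_rho, hfu, mul_smul, ← hc k,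
      smul_smul, C.rho_mul]
  have hone : s 1 = 0 := by
    have h := hmul 1 1
    rw [one_mul] at h
    exact left_eq_add.1 h
  have hinv : ∀ k, s k⁻¹ = -s k := fun k => by
    have h := hmul k k⁻¹
    rw [mul_inv_cancel, hone, eq_comm, add_eq_zero_iff_eq_neg] at h
    exact h
  let K1 : Subgroup (C.HU.restrict W hW).SIsom :=
    { carrier := {k | s k = 0}
      one_mem' := hone
      mul_mem' := fun {a b} ha hb => show s (a * b) = 0 by rw [hmul, show s a = 0 from ha, show s b = 0 from hb, add_zero]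
      inv_mem' := fun {a} ha => show s a⁻¹ = 0 by rw [hinv, show s a = 0 from ha, neg_zero] }
  have hperf := (C.HU.restrict W hW).commutator_SIsom (Or.inl (by rw [hdW]; omega))
  have hs0 : ∀ k, s k = 0 := fun k => by
    have : commutator (C.HU.restrict W hW).SIsom ≤ K1 := by
      rw [commutator_def, Subgroup.commutator_le]
      intro a _ b _
      show s ⁅a, b⁆ = 0
      rw [commutatorElement_def, hmul, hmul, hmul, hinv, hinv]
      abel
    exact this (hperf ▸ Subgroup.mem_top k)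
  have hc' : ∀ k, (C.ext (extS hW k)).1 • y = C.rho 0 (c k) • y := fun k => by rw [← hc k, hs0]
  have hcm : ∀ k k', c (k * k') = c k + c k' := fun k k' => by
    refine hS.T_unique hy.1 ?_
    rw [← hc', map_mul, map_mul, Subgroup.coe_mul, mul_smul, hc', smul_smul, C.ext_T, mul_smul, hc', smul_smul,
      C.rho_T, add_comm (c k')]
  have hc1 : c 1 = 0 := by
    have h := hcm 1 1
    rw [one_mul] at h
    exact left_eq_add.1 h
  have hcinv : ∀ k, c k⁻¹ = -c k := fun k => by
    have h := hcm k k⁻¹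
    rw [mul_inv_cancel, hc1, eq_comm, add_eq_zero_iff_eq_neg'] at h
    exact h
  let K2 : Subgroup (C.HU.restrict W hW).SIsom :=
    { carrier := {k | c k = 0}
      one_mem' := hc1
      mul_mem' := fun {a b} ha hb => show c (a * b) = 0 by rw [hcm, show c a = 0 from ha, show c b = 0 from hb, add_zero]
      inv_mem' := fun {a} ha => show c a⁻¹ = 0 by rw [hcinv, show c a = 0 from ha, neg_zero] }
  have hc0 : ∀ k, c k = 0 := fun k => by
    have : commutator (C.HU.restrict W hW).SIsom ≤ K2 := by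
      rw [commutator_def, Subgroup.commutator_le]
      intro a _ b _
      show c ⁅a, b⁆ = 0
      rw [commutatorElement_def, hcm, hcm, hcm, hcinv, hcinv]
      abel
    exact this (hperf ▸ Subgroup.mem_top k)
  have heW : e ∈ W := by
    rw [C.HU.mem_orth_span]
    rintro _ rfl
    exact hew
  refine ⟨he, fun c0 hc0' => ?_⟩
  rw [MulAction.mem_stabilizer_iff]
  show H.sT he hc0' • y = y
  have he' : C.HU.h ((⟨e, heW⟩ : W) : C.U) (⟨e, heW⟩ : W) = 0 := he
  rw [← C.ext_sT (e := e) he hc0']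
  rw [show C.HU.sT (v := e) (show C.HU.h e e = 0 from he) (show c0 + C.HU.σ c0 = 0 from hc0') =
    extS hW _ from (extS_sT (H := C.HU) hW (e := ⟨e, heW⟩) he' hc0').symm, hc', hc0, C.rho_zero_zero, one_smul]

theorem cenW_four (h4 : C.m = 4) (hex : ∃ (y : X) (e : C.U), Z1 C y ≠ ⊤ ∧ e ≠ 0 ∧ (e : V) ∈ cen H y)
    {w : C.U} (hw : C.HU.h w w = 1) : CenW (X := X) O hw := by
  classical
  have : Fact (Nat.Prime 3) := ⟨Nat.prime_three⟩
  obtain ⟨y0, e0, hy0, he00, he0⟩ := hex
  have hwn : C.HU.h w w ≠ 0 := by rw [hw]; exact one_ne_zero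
  have hW := C.HU.nondegOn_orth (C.HU.nondegOn_span_singleton hwn)
  set W := C.HU.orth (Submodule.span F {w})
  have hw0 : w ≠ 0 := fun h => hwn (by rw [h, C.HU.zero_left])
  have hdW : Module.finrank F W = 3 := by
    rw [C.HU.finrank_orth, finrank_span_singleton hw0, C.finrank_U, h4]
  obtain ⟨⟨e, heW⟩, hne, hee⟩ := (C.HU.restrict W hW).exists_isotropic_of_two_le (by rw [hdW]; norm_num)
  have he0' : e ≠ 0 := fun h => hne (Subtype.ext h)
  have hee' : C.HU.h e e = 0 := hee
  have hew : C.HU.h e w = 0 := heW w (Submodule.mem_span_singleton_self w)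
  obtain ⟨k, hk⟩ := C.exists_ext_map hS.hm he00 he0' (hee'.trans (H.uCentres_iso he0).symm)
  set y1 := (C.ext k).1 • y0
  have hy1 : Z1 C y1 ≠ ⊤ := hS.moved_G2 _ hy0
  have he1 : (e : V) ∈ cen H y1 := by
    rw [← hk, ← C.ext_apply]
    exact cen_map_mem _ he0
  let S : Set X := {z | Z1 C z ≠ ⊤ ∧ (e : V) ∈ cen H z}
  have hone : (1 : F) + H.σ 1 = 0 := by rw [map_one]; linear_combination O.h2
  have hrho : ∀ (u : C.U) (c : skew H), C.HU.h e u = 0 → (C.rho u c).1.1 (e : V) = e := fun u c h => by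
    rw [C.rho_apply, C.ua, show H.h (e : V) u = 0 from h]
    simp
  have hSin : ∀ z ∈ S, ∃ u c, C.HU.h e u = 0 ∧ C.rho u c • y1 = z := by
    intro z hz
    obtain ⟨u, c, huc⟩ := C.mem_orb.1 (hS.orb_unique hy1 hz.1)
    refine ⟨u, c, ?_, huc⟩
    have hfz : H.sT hee' hone • z = z := MulAction.mem_stabilizer_iff.1 (hz.2.2 1 hone)
    have hf1 : H.sT hee' hone • y1 = y1 := MulAction.mem_stabilizer_iff.1 (he1.2 1 hone)
    rw [← huc, ← C.ext_sT (e := e) hee' hone, smul_smul, C.ext_rho, mul_smul, C.ext_sT (e := e) hee' hone, hf1] at hfz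
    have h1 := hS.rho_eq hy1 hfz
    rw [C.HU.sT_apply] at h1
    have h2 : (1 * C.HU.h u e) • e = 0 := add_eq_left.1 h1
    rw [one_mul] at h2
    exact C.HU.eq_zero_symm ((smul_eq_zero.1 h2).resolve_right he0')
  have hSmem : ∀ (u : C.HU.orth (Submodule.span F {e})) (c : skew H), C.rho (u : C.U) c • y1 ∈ S := fun u c => by
    have hu : C.HU.h e u = 0 := C.HU.eq_zero_symm (u.2 e (Submodule.mem_span_singleton_self e))
    refine ⟨fun h => hy1 (((C.inv_orb (C.mem_orb.2 ⟨_, _, rfl⟩)).1).symm.trans h), ?_⟩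
    have h1 := cen_map_mem (C.rho (u : C.U) c) he1
    rwa [hrho _ _ hu] at h1
  have hcard : ¬ 3 ∣ Nat.card S := by
    suffices hbij : Function.Bijective (fun p : C.HU.orth (Submodule.span F {e}) × skew H =>
        (⟨_, hSmem p.1 p.2⟩ : S)) by
      rw [← Nat.card_eq_of_bijective _ hbij, Nat.card_prod, card_skew,
        Module.natCard_eq_pow_finrank (K := F), H.card_field, O.hq, C.HU.finrank_orth, finrank_span_singleton he0',
        C.finrank_U, h4]
      norm_num
    refine ⟨?_, ?_⟩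
    · rintro ⟨u, c⟩ ⟨u', c'⟩ h
      have h' : C.rho (u : C.U) c • y1 = C.rho (u' : C.U) c' • y1 := congrArg Subtype.val h
      obtain rfl : u = u' := Subtype.ext (hS.rho_eq hy1 h')
      have e1 : ∀ d : skew H, C.rho (u : C.U) d = C.rho (u : C.U) 0 * C.rho 0 d := fun d => by
        rw [C.rho_T', add_zero]
      rw [e1 c, e1 c', mul_smul, mul_smul, smul_left_cancel_iff] at h'
      rw [hS.T_unique hy1 h']
    · rintro ⟨z, hz⟩
      obtain ⟨u, c, hu, huc⟩ := hSin z hz
      exact ⟨(⟨u, by rw [C.HU.mem_orth_span]; rintro _ rfl; exact C.HU.eq_zero_symm hu⟩, c), Subtype.ext huc⟩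
  obtain ⟨z0, hz0, hfix⟩ := exists_fixed (C.ext (O.kw hw)).1 (r := 3)
    (by rw [← SubmonoidClass.coe_pow, ← map_pow, O.kw_cube, map_one]; rfl) S (fun z hz => by
      refine ⟨hS.moved_G2 _ hz.1, ?_⟩
      have h1 := cen_map_mem (C.ext (O.kw hw)).1 hz.2
      rw [C.ext_apply, O.kw_orth hw hew, Submodule.coe_smul] at h1
      have h2 := H.uCentres_smul h1 O.ω⁻¹
      rwa [inv_smul_smul₀ O.ne_zero] at h2) hcard
  have hz0w : z0 ∈ FixW O hw := ⟨hz0.1, hfix⟩
  have hall : ∀ z ∈ FixW (X := X) O hw, (e : V) ∈ cen H z := by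
    intro z hz
    obtain ⟨u, c, hu, huc⟩ := hS.param O hw hz0w hz
    have h1 := cen_map_mem (C.rho u c) hz0.2
    rwa [huc, hrho u c (by rw [hu, C.HU.smul_right, hew, mul_zero])] at h1
  intro z hz e' he' he'w
  by_cases he'0 : e' = 0
  · rw [he'0, Submodule.coe_zero]; exact H.uCentres_zero _
  have he'W : e' ∈ W := by
    rw [C.HU.mem_orth_span]
    rintro _ rfl
    exact he'w
  obtain ⟨k2, hk2⟩ := exists_move_iso (H := C.HU.restrict W hW) (by rw [hdW]) (x := ⟨e, heW⟩) (y := ⟨e', he'W⟩)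
    (fun h => he0' (congrArg Subtype.val h)) (fun h => he'0 (congrArg Subtype.val h)) hee' he'
  set g := extS hW k2
  have hgw : g.1.1 w = w := extS_orth hW k2 (C.HU.le_orth_orth _ (Submodule.mem_span_singleton_self w))
  have hge : g.1.1 e = e' := (extS_mem hW k2 ⟨e, heW⟩).trans (congrArg Subtype.val hk2)
  have hginv : g⁻¹.1.1 w = w := by
    conv_lhs => rw [← hgw]
    exact C.HU.inv_apply_self g.1 w
  have hz' := hS.FixW_stable O hw (g := g⁻¹) (O.kw_comm hw (ζ := 1) (by rw [map_one, mul_one]) (by rw [hginv, one_smul])) hz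
  have h1 := cen_map_mem (C.ext g).1 (hall _ hz')
  rwa [C.ext_apply, hge, smul_smul, ← Subgroup.coe_mul, ← map_mul, mul_inv_cancel, map_one, Subgroup.coe_one,
    one_smul] at h1

/-- Orthogonal isotropic vectors, one a centre and one not. -/
theorem exists_pair (hpos : ∃ y : X, C.a ∈ cen H y) :
    ∃ (y : X) (e : C.U), Z1 C y ≠ ⊤ ∧ e ≠ 0 ∧ (e : V) ∈ cen H y := by
  obtain ⟨y1, hy1⟩ := hpos
  have hdim := C.hdim
  have hm := hS.hm
  obtain ⟨p, hp, hpp, hpn⟩ : ∃ p, p ≠ 0 ∧ H.h p p = 0 ∧ p ∉ cen H y1 := by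
    by_contra h
    push Not at h
    refine hS.hmove y1 (H.eq_top_of_uCentres (Or.inl (by omega)) fun v hv => ?_)
    rcases eq_or_ne v 0 with rfl | hv0
    · exact H.uCentres_zero _
    exact h v hv0 hv
  obtain ⟨p, q, hp, hpp, hpn, hq, hpq, hnl⟩ : ∃ p q, p ≠ 0 ∧ H.h p p = 0 ∧ p ∉ cen H y1 ∧ q ∈ cen H y1 ∧
      H.h q p = 0 ∧ q ∉ Submodule.span F ({p} : Set V) := by
    have hnl : ∀ {p : V} {q : V}, p ∉ cen H y1 → q ∈ cen H y1 → q ≠ 0 → q ∉ Submodule.span F ({p} : Set V) := by
      intro p q hp hq hq0 h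
      obtain ⟨c, rfl⟩ := Submodule.mem_span_singleton.1 h
      have hc : c ≠ 0 := fun h => hq0 (by rw [h, zero_smul])
      have := H.uCentres_smul hq c⁻¹
      rw [inv_smul_smul₀ hc] at this
      exact hp this
    by_cases hap : H.h C.a p = 0
    · exact ⟨p, C.a, hp, hpp, hpn, hy1, hap, hnl hpn hy1 C.ha0⟩
    set p' := (H.σ (H.h C.a p))⁻¹ • p
    have hap' : H.h C.a p' = 1 := by
      rw [H.smul_right, map_inv₀, H.conj.invol, inv_mul_cancel₀ hap]
    have hW := H.nondegOn_orth (H.nondegOn_hyperbolic C.haa hap')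
    obtain ⟨⟨r, hrW⟩, hr0, hrr⟩ := (H.restrict _ hW).exists_isotropic_of_two_le
      (by rw [H.finrank_orth, H.finrank_hyperbolic C.haa hap']; omega)
    have hr0' : r ≠ 0 := fun h => hr0 (Subtype.ext h)
    have hra : H.h r C.a = 0 := hrW C.a (Submodule.subset_span (by simp))
    have hrp : H.h r p = 0 := by
      have h1 := hrW p' (Submodule.subset_span (by simp))
      rw [H.smul_right, mul_eq_zero] at h1
      exact h1.resolve_left (by simpa using hap)
    by_cases hrc : r ∈ cen H y1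
    · exact ⟨p, r, hp, hpp, hpn, hrc, hrp, hnl hpn hrc hr0'⟩
    · exact ⟨r, C.a, hr0', hrr, hrc, hy1, H.eq_zero_symm hra, hnl hrc hy1 C.ha0⟩
  obtain ⟨g, hg⟩ := exists_move_iso (H := H) (by omega) hp C.ha0 hpp C.haa
  have hmov : Z1 C (g • y1) ≠ ⊤ := fun h => hpn (by
    have h1 := Z1_top.1 h
    rw [← hg] at h1
    exact (cen_map g).1 h1)
  obtain ⟨e, l, r, hdec⟩ := C.decomp (g.1.1 q)
  have hr : r = 0 := by
    have h1 : H.h (g.1.1 q) C.a = 0 := by rw [← hg, H.map_form, hpq]
    rw [hdec] at h1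
    simpa [H.add_left, H.smul_left, C.ua, C.haa, C.hba] using h1
  rw [hr, zero_smul, add_zero] at hdec
  have he : e ≠ 0 := fun h => hnl (by
    rw [h, Submodule.coe_zero, zero_add, ← hg, ← map_smul] at hdec
    rw [g.1.1.injective hdec]
    exact Submodule.smul_mem _ _ (Submodule.mem_span_singleton_self p))
  obtain ⟨t, ht⟩ := C.HU.exists_partner he
  set u0 : C.U := H.σ l • t
  have hu0 : H.h (e : V) u0 = l := by
    show C.HU.h e (H.σ l • t) = l
    rw [C.HU.smul_right, ht, mul_one, C.HU_σ, H.conj.invol]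
  refine ⟨C.rho u0 0 • g • y1, e, fun h => hmov (((C.inv_orb (C.mem_orb.2 ⟨_, _, rfl⟩)).1).symm.trans h), he, ?_⟩
  have h1 := cen_map_mem (C.rho u0 0) (cen_map_mem g hq)
  rw [hdec, C.rho_apply] at h1
  convert h1 using 1
  simp only [H.add_left, H.smul_left, C.ua, C.au, C.haa, hu0]
  module

end Small

end Cfsg.Lib.Known.MinIndexSU
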